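import Cfsg.Agent.Lib.J4Pres.Bits
import Cfsg.Agent.Lib.CosetEnum.Signed.Words
import Cfsg.Prelude.Def_Spor_J4

/-!
# The presented fourth Janko group acts on 112-dimensional vectors over two elements
-/

set_option autoImplicit false
set_option maxRecDepth 20000

namespace Cfsg.Lib.J4Pres

open Cfsg.Lib.CosetEnum
open Cfsg.Spor (coxRelators)

/-- The letters of the three generators. -/
def gjw : Spor.J4.Gen → List ℕ
  | .x => [0]
  | .y => [1]
  | .t => [2]

theorem jRels_eq : coxRelators Spor.J4.edges ∪ {r | r ∈ Spor.J4.extra} = {r | r ∈ Spor.J4.extra} := by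
  ext r; simp [coxRelators, Spor.coxNodes, Spor.J4.edges]

theorem rows_ok : (letterRows.all fun M =>
    Nat.ble M.length 112 && M.all fun r => Nat.blt r (2 ^ 112)) = true := by
  decide +kernel

theorem rows_len : ∀ R ∈ letterRows, R.length ≤ 112 := fun R hR => by
  have h := List.all_eq_true.1 rows_ok R hR
  rw [Bool.and_eq_true, Nat.ble_eq] at h
  exact h.1

theorem rows_lt : ∀ R ∈ letterRows, ∀ r ∈ R, r < 2 ^ 112 := fun R hR r hr => by
  have h := List.all_eq_true.1 rows_ok R hR
  rw [Bool.and_eq_true, List.all_eq_true] at h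
  exact Nat.blt_eq.mp (h.2 r hr)

theorem fixes_all {w : List ℕ} (h : fixesUnits letterRows 112 w = true) :
    ∀ v < 2 ^ 112, applyWord letterRows w v = v :=
  fixesUnits_sound rows_len rows_lt h

theorem pair_fix : ((List.range 6).all fun g =>
    fixesUnits letterRows 112 [g, Signed.flipAt 3 g]) = true := by decide +kernel

theorem rels_fix : (Spor.J4.extra.all fun r =>
    fixesUnits letterRows 112 (Signed.relatorWord 3 gjw r)) = true := by decide +kernel

theorem x_moves : fixesUnits letterRows 112 [0] = false := by decide +kernel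

theorem applyWord_lt (w : List ℕ) (hw : ∀ g ∈ w, g < 6) (v : ℕ) (hv : v < 2 ^ 112) :
    applyWord letterRows w v < 2 ^ 112 := by
  induction w with
  | nil => exact hv
  | cons g w ih =>
    rw [applyWord_cons]
    refine applyRows_lt (fun r hr => ?_) _
    have hg : g < letterRows.length := hw g (by simp)
    rw [List.getD_eq_getElem _ _ hg] at hr
    exact rows_lt _ (List.getElem_mem hg) r hr

theorem pair_apply {g : ℕ} (hg : g < 6) (v : ℕ) (hv : v < 2 ^ 112) :
    applyWord letterRows [g] (applyWord letterRows [Signed.flipAt 3 g] v) = v := by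
  have h := List.all_eq_true.1 pair_fix g (List.mem_range.2 hg)
  have := fixes_all h v hv
  simpa [applyWord_cons, applyWord] using this

/-- A letter as a permutation of the vectors. -/
noncomputable def jPerm (g : ℕ) : Equiv.Perm {v : ℕ // v < 2 ^ 112} :=
  if hg : g < 6 then
    { toFun := fun v => ⟨applyWord letterRows [g] v.1,
        applyWord_lt _ (by simpa using hg) _ v.2⟩
      invFun := fun v => ⟨applyWord letterRows [Signed.flipAt 3 g] v.1,
        applyWord_lt _ (by simpa using Signed.flipAt_lt (k := 3) hg) _ v.2⟩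
      left_inv := fun v => Subtype.ext (by
        have h := pair_apply (Signed.flipAt_lt (k := 3) hg) v.1 v.2
        have e : Signed.flipAt 3 (Signed.flipAt 3 g) = g := by
          unfold Signed.flipAt; split_ifs <;> omega
        rwa [e] at h)
      right_inv := fun v => Subtype.ext (pair_apply hg v.1 v.2) }
  else 1

theorem jPerm_word : ∀ (w : List ℕ), (∀ g ∈ w, g < 6) → ∀ v : {v : ℕ // v < 2 ^ 112},
    ((w.map jPerm).prod v).1 = applyWord letterRows w v.1
  | [], _, v => rfl
  | g :: w, hw, v => by
    have hg : g < 6 := hw g (by simp)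
    have ih := jPerm_word w (fun a ha => hw a (List.mem_cons_of_mem _ ha)) v
    rw [List.map_cons, List.prod_cons, Equiv.Perm.mul_apply, applyWord_cons, ← ih]
    rw [jPerm, dif_pos hg]
    show applyWord letterRows [g] _ = _
    rw [applyWord_cons]
    rfl

theorem jPerm_pair : ∀ g < 3, jPerm g * jPerm (g + 3) = 1 := fun g hg => by
  refine Equiv.ext fun v => Subtype.ext ?_
  have h := jPerm_word [g, g + 3] (by simp; omega) v
  simp only [List.map_cons, List.map_nil, List.prod_cons, List.prod_nil, mul_one] at h
  rw [h]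
  have hp := pair_apply (g := g) (by omega) v.1 v.2
  rw [Signed.flipAt, if_pos hg] at hp
  simpa [applyWord_cons, applyWord] using hp

/-- The images of the generators. -/
noncomputable def jGen (b : Spor.J4.Gen) : Equiv.Perm {v : ℕ // v < 2 ^ 112} :=
  ((gjw b).map jPerm).prod

theorem jGen_rels : ∀ r ∈ coxRelators Spor.J4.edges ∪ {r | r ∈ Spor.J4.extra},
    FreeGroup.lift jGen r = 1 := by
  rw [jRels_eq]
  intro r hr
  obtain ⟨h1, h2⟩ := Signed.relatorWord_spec (k := 3) (e := jPerm) jPerm_pair gjw
    (fun b => by cases b <;> simp [gjw]) (FreeGroup.lift jGen) r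
    fun p _ => by rw [FreeGroup.lift_apply_of]; rfl
  rw [← h2]
  refine Equiv.ext fun v => Subtype.ext ?_
  rw [jPerm_word _ h1]
  have h := List.all_eq_true.1 rels_fix r hr
  exact fixes_all h v.1 v.2

/-- The first generator of the presented group is not trivial. -/
theorem mk_x_ne_one :
    PresentedGroup.mk (coxRelators Spor.J4.edges ∪ {r | r ∈ Spor.J4.extra}) Spor.J4.x ≠ 1 := by
  intro h
  have h' := congrArg (PresentedGroup.toGroup jGen_rels) h
  rw [show PresentedGroup.mk _ Spor.J4.x = PresentedGroup.of Spor.J4.Gen.x from rfl,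
    PresentedGroup.toGroup.of, map_one] at h'
  have hx : ∀ v < 2 ^ 112, applyWord letterRows [0] v = v := fun v hv => by
    have h2 := congrArg (fun p : Equiv.Perm {v : ℕ // v < 2 ^ 112} => (p ⟨v, hv⟩).1) h'
    simp only [jGen, gjw] at h2
    rw [jPerm_word [0] (by simp)] at h2
    exact h2
  have hvs : ∀ v ∈ (List.range 112).map (2 ^ ·), v < 2 ^ 112 := fun v hv => by
    obtain ⟨i, hi, rfl⟩ := List.mem_map.1 hv
    exact Nat.pow_lt_pow_right (by norm_num) (List.mem_range.1 hi)
  obtain ⟨h1, -⟩ := allWord_eq rows_len rows_lt hvs [0]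
  rw [List.length_map, List.length_range, List.map_congr_left (fun v hv => hx v (hvs v hv)),
    List.map_id'] at h1
  have h3 : fixesUnits letterRows 112 [0] = true := by
    rw [fixesUnits, CosetEnum.force_eq, CosetEnum.force_eq, Nat.beq_eq]
    exact h1
  rw [x_moves] at h3
  exact Bool.noConfusion h3

end Cfsg.Lib.J4Pres
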