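import Cfsg.Agent.Lib.J4Pres.Defs

/-! Generated data: the derived relations. -/

set_option autoImplicit false
set_option maxRecDepth 20000

namespace Cfsg.Lib.J4Pres

/-- The relators in two letters. -/
def baseWords : List (List Nat) :=
  [[0, 0],
    [1, 1, 1],
    [0, 1, 0, 1, 0, 1, 0, 1, 0, 1, 0, 1, 0, 1, 0, 1, 0, 1, 0, 1, 0, 1, 0, 1, 0, 1, 0, 1, 0, 1, 0, 1, 0, 1, 0, 1, 0, 1, 0, 1, 0, 1, 0, 1, 0, 1],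
    [2, 3, 0, 1, 2, 3, 0, 1, 2, 3, 0, 1, 2, 3, 0, 1, 2, 3, 0, 1, 2, 3, 0, 1, 2, 3, 0, 1, 2, 3, 0, 1, 2, 3, 0, 1, 2, 3, 0, 1, 2, 3, 0, 1, 2, 3, 0, 1],
    [2, 3, 2, 3, 0, 1, 0, 1, 2, 3, 2, 3, 0, 1, 0, 1, 2, 3, 2, 3, 0, 1, 0, 1, 2, 3, 2, 3, 0, 1, 0, 1, 2, 3, 2, 3, 0, 1, 0, 1],
    [0, 1, 0, 1, 0, 3, 0, 1, 0, 3, 0, 1, 0, 3, 0, 1, 0, 1, 0, 3, 0, 1, 0, 3, 0, 1, 0, 3, 0, 1, 0, 1, 0, 3, 0, 1, 0, 3, 0, 1, 0, 3, 0, 1, 0, 1, 0, 3, 0, 1, 0, 3, 0, 1, 0, 3],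
    [0, 1, 0, 1, 0, 3, 0, 1, 0, 1, 0, 3, 0, 1, 0, 1, 0, 3, 0, 1, 0, 3, 0, 3, 0, 1, 0, 3, 0, 3, 0, 1, 0, 3, 0, 3]]

/-- The six subgroup generators. -/
def sixGens : List (List Nat) :=
  [[0, 1, 0, 3, 0, 3, 0, 1, 2, 1, 2, 1, 2, 3, 2],
    [0, 1, 0, 3, 0, 1, 0, 1, 2, 3, 2, 1, 2, 3, 2],
    [3, 0, 1, 2, 1],
    [0, 3, 0, 3, 0, 1, 2, 1, 2, 1, 2],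
    [0, 3, 0, 1, 0, 3, 0, 3, 2, 3, 2, 1, 2],
    [1, 0, 1, 2, 3]]

/-- Relations of the six generators. -/
def sixRels : List (List Nat) :=
  [[11, 11, 11],
    [9, 9, 9],
    [8, 8, 8],
    [7, 7, 7],
    [6, 6, 6],
    [10, 10, 9, 7, 2],
    [11, 8, 5, 8, 1, 2],
    [11, 8, 5, 4, 3, 10],
    [11, 0, 7, 0, 1, 6],
    [11, 8, 5, 10, 10, 9, 2],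
    [10, 10, 10, 9, 2, 4, 9],
    [9, 8, 0, 9, 7, 3, 7],
    [11, 8, 7, 6, 11, 8, 7, 6],
    [11, 8, 5, 7, 11, 8, 5, 7],
    [11, 7, 6, 1, 11, 7, 6, 1],
    [11, 9, 7, 3, 4, 3, 4, 4, 4],
    [11, 9, 4, 6, 7, 9, 7, 3, 8],
    [11, 0, 9, 1, 3, 0, 9, 1, 3],
    [11, 9, 7, 3, 7, 0, 1, 9, 1, 3],
    [11, 8, 10, 10, 2, 4, 4, 3, 10, 10],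
    [11, 8, 4, 4, 9, 9, 7, 3, 0, 1],
    [11, 2, 11, 2, 11, 2, 11, 2, 11, 2],
    [10, 10, 10, 9, 7, 3, 4, 4, 4, 3],
    [7, 0, 7, 0, 7, 0, 7, 0, 7, 0],
    [9, 7, 3, 7, 0, 1, 6, 9, 7, 3, 6],
    [11, 8, 4, 9, 9, 7, 3, 3, 10, 10, 10, 2],
    [9, 7, 3, 6, 9, 1, 9, 7, 3, 6, 9, 1],
    [11, 8, 3, 10, 10, 9, 7, 3, 0, 7, 6, 9, 1, 3],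
    [10, 10, 9, 9, 7, 3, 7, 6, 9, 1, 3, 0, 1, 3],
    [10, 10, 10, 10, 10, 10, 10, 10, 10, 10, 10, 10, 10, 10, 10, 10, 10, 10, 10, 10, 10, 10, 10]]

/-- A derivation. -/
def sixDeriv0 : List Step :=
  ([([1, 0], 1, false)] : List Step)

/-- A derivation. -/
def sixDeriv1 : List Step :=
  ([([0, 3, 0, 3, 0], 1, false)] : List Step)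

/-- A derivation. -/
def sixDeriv2 : List Step :=
  ([([3, 0], 1, false)] : List Step)

/-- A derivation. -/
def sixDeriv3 : List Step :=
  ([([0, 1, 0, 3, 0, 1, 0], 1, false)] : List Step)

/-- A derivation. -/
def sixDeriv4 : List Step :=
  ([([0, 1, 0, 3, 0, 3, 0], 1, false)] : List Step)

/-- A derivation. -/
def sixDeriv5 : List Step :=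
  ([([0, 3, 0, 1, 0, 1, 2, 1, 1], 1, true),
    ([3, 0, 3, 2, 1, 0, 1, 0, 3, 0, 1, 0, 1], 0, true),
    ([3, 0, 3, 2, 1, 0, 1, 0, 3, 0, 1, 0, 1, 2, 2, 3, 2, 3, 2, 1, 2, 3, 2, 3, 0], 0, true),
    ([3, 0, 3, 2, 1, 0, 1, 0, 3, 0, 1, 0, 1, 2, 3, 2, 1], 0, true),
    ([3, 0, 3, 2, 1, 0, 1, 0, 3, 0, 1, 0, 1, 2, 3, 2, 1, 2, 2, 3], 0, true),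
    ([3, 0, 3, 2, 1, 0, 1, 0, 3, 0, 1, 0, 1, 2, 3, 2, 1, 2, 2, 3, 2, 1, 2, 3, 2, 3, 2, 1, 2, 3, 2, 3, 2, 1, 2, 1], 0, true),
    ([3, 0, 3, 2, 1, 0, 1, 0, 3, 0, 1, 0, 1, 2, 3, 2, 1, 2, 3, 3], 1, true),
    ([3, 0, 3, 2, 1, 0, 1, 0, 3, 0, 1, 0, 1, 2, 3, 2, 1, 2, 3, 3, 3, 2, 3, 2, 1, 2, 3, 2, 3, 2, 1, 2, 3, 2, 3, 2, 1, 2, 1, 2, 3], 0, true),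
    ([3, 0, 3, 2, 1, 0, 1, 0, 3, 0, 1, 0, 1, 2, 3, 2, 1, 2, 3, 3, 0, 3, 0, 1], 0, true),
    ([3, 0, 3, 2, 1, 0, 1, 0, 3, 0, 1, 0, 1, 2, 3, 2, 1, 2, 3, 3, 0, 3, 0, 1, 2, 2, 3, 2, 1, 2, 3, 2, 3, 2, 1, 2, 3, 2, 3, 2, 1, 2, 3, 2, 3, 2, 1, 2, 1, 2, 3, 2, 1], 0, true),
    ([3, 0, 3, 2, 1, 0, 1, 0, 3, 0, 1, 0, 1, 2, 3, 2, 1, 2, 3, 3, 0, 3, 0, 1, 2, 1, 1], 1, false),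
    ([3, 0, 3, 2, 1, 0, 1, 0, 3, 0, 1, 0, 1, 2, 3, 2, 1, 2, 3, 3, 0, 3, 0, 1, 2, 1, 1, 0, 3, 0, 1, 0, 3, 0, 3, 0, 1, 0, 3, 0, 3], 6, false)] : List Step)

/-- A derivation. -/
def sixDeriv6 : List Step :=
  ([([1, 0, 3, 2, 3, 3, 0, 3, 2, 1, 1, 0, 1, 2, 3, 3, 0, 3, 2, 1, 0, 1, 0, 3, 0, 1, 0, 1, 2, 3, 2, 1, 2, 3, 2, 3, 0, 1, 2, 1], 1, true),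
    ([1, 0, 3, 2, 3, 3, 0, 3, 2, 1, 1, 0, 1, 2, 3], 1, false),
    ([1, 0, 3, 2, 3, 3, 0, 3, 2, 1], 1, true),
    ([1, 0, 3, 2, 3], 1, false),
    ([1, 1, 0, 3, 2, 1, 0, 1, 0, 3, 0, 1, 0, 3, 2, 3, 2, 1, 2, 3, 2, 3, 0, 1, 2, 3, 0, 0, 1, 0, 3, 0, 1, 0, 1, 0, 3, 0, 1, 0, 1, 0, 3, 0, 1, 0, 3, 0, 3, 0, 1, 0, 3, 0, 3, 0, 1, 0, 3, 0, 3], 6, true),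
    ([1, 1, 0, 3, 2, 1, 0, 1, 0, 3, 0, 1, 0, 3, 2, 3, 2, 1, 2, 3, 2, 3, 0, 1, 2, 3, 0, 3, 2, 1, 2, 1, 2, 3, 2, 1, 2, 1, 2, 3, 2, 1], 0, false),
    ([1, 1, 0, 3, 2, 1, 0, 1, 0, 3, 0, 1, 0, 3, 2, 3, 2, 1, 2, 3, 2, 3, 0, 1, 2, 3, 0, 3, 2, 1, 2, 1, 2, 3, 2, 1, 2, 1, 2, 3, 2, 1, 0, 1, 2, 3], 0, false),
    ([1, 1, 0, 3, 2, 1, 0, 1, 0, 3, 0, 1, 0, 3, 2, 3, 2, 1, 2, 3, 2, 3, 0, 1, 2, 3, 0, 3, 2, 1, 2, 1, 2, 3, 2, 1, 2, 1, 2, 3, 2, 1, 0, 1, 0], 0, false),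
    ([1, 1, 0, 3, 2, 1, 0, 1, 0, 3, 0, 1, 0, 3, 2, 3, 2, 1, 2, 3, 2, 3, 0, 1, 2, 3, 0, 3, 2, 1, 0], 0, false),
    ([1, 1, 0, 3, 2, 1, 0, 1, 0, 3, 0, 1, 0, 3, 2, 3, 2, 1, 2, 3, 2, 3, 0, 1, 2, 3, 0, 3, 2, 1, 0, 1, 2, 3, 2, 1, 2, 1, 0], 0, false),
    ([1, 1, 0, 3, 2, 1, 0, 1, 0, 3, 0, 1, 0, 3, 2, 3, 2, 1, 2, 3, 2, 3, 0, 1, 2, 3, 0, 3, 2, 1, 0, 1, 2, 3, 2, 1, 2, 1, 0, 3, 2, 1, 0, 1, 0, 3, 0, 1, 2, 3, 2, 3, 2, 1, 2, 3, 2, 3, 0], 0, false),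
    ([1, 1, 0, 3, 2, 1, 0, 1, 0, 3, 0, 1, 0, 3, 2, 3, 2, 1, 2, 3, 2, 3, 0, 1, 2, 3, 0, 3, 2, 1, 0, 1, 2, 3, 2, 1, 2, 1, 0, 3, 2, 1, 0, 1, 0, 3, 0, 1, 0], 0, false),
    ([1, 1, 0, 3, 2, 1, 0, 1, 0, 3, 0, 1, 0, 3, 2, 3, 2, 1, 2, 3, 2, 3, 0, 1, 2, 3, 0, 3, 2, 1, 0, 1, 2, 3], 0, false),
    ([1, 1, 0, 3, 2, 1, 0, 1, 0, 3, 0, 1, 0, 3, 2, 3, 2, 1, 2, 3, 2, 3, 0, 1, 2, 3, 0, 3, 2, 1, 0, 1, 2, 3, 0, 1, 2, 1, 0, 3, 2, 1, 0, 1, 0, 3, 0, 1, 0, 3, 2, 3, 2, 1, 2, 3, 2, 3, 0, 1, 2, 3], 0, false)] : List Step)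

/-- A derivation. -/
def sixDeriv7 : List Step :=
  ([([1, 0, 3, 2, 3, 3, 0, 3, 2, 1, 1, 0, 1, 2, 3, 0, 3, 0, 1, 0, 3, 0], 0, true),
    ([1, 0, 3, 2, 3, 3, 0, 3, 2, 1], 1, true),
    ([1, 0, 3, 2, 3], 1, false),
    ([1, 0, 3, 2, 1, 0, 3, 2, 3, 0, 1, 2, 3, 0, 3, 0, 1, 0, 3, 2, 3, 2, 3, 3, 0, 1, 2, 1, 1, 0, 1, 2, 1, 2, 3, 2, 1, 2, 1], 0, true),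
    ([1, 0, 3, 2, 1, 0, 3, 2, 3], 0, true),
    ([1, 0, 3, 2, 1, 0], 0, true),
    ([1, 0, 3, 2, 1, 2, 3, 2, 3, 2, 1, 2, 3], 0, true),
    ([1, 0, 3, 2, 1, 2, 3, 2, 3, 2, 1, 2, 3, 2, 3], 0, true),
    ([1, 0, 3, 2, 1, 2, 3, 2, 3, 2, 1, 2, 3, 2, 3, 2, 1, 0, 3, 2, 3, 2, 3, 3, 0], 0, true),
    ([1, 0, 3, 2, 1, 2, 3, 2, 3, 2, 1, 2, 3, 2, 3, 2, 1, 0, 3, 2, 3, 2, 3, 3, 2, 1, 2, 1, 1], 0, true),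
    ([1, 0, 3, 2, 1, 2, 3, 2, 3, 2, 1, 2, 3, 2, 3, 2, 1], 0, true),
    ([1, 0, 3, 2, 1, 2, 3, 2, 3, 2, 1, 2, 3, 2, 3, 2, 1, 2, 3, 2, 3, 2, 3, 3, 2, 1, 2, 1, 1], 1, true),
    ([1, 0, 3, 2, 1, 2, 3, 2, 3, 2, 1, 2, 3, 2, 3, 2, 1, 2, 3, 2, 3, 2], 1, false),
    ([1, 0, 0, 3, 0, 3, 0, 1, 0, 3, 0, 3, 0, 1, 0, 3, 0, 3], 6, false)] : List Step)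

/-- A derivation. -/
def sixDeriv8 : List Step :=
  ([([1, 0, 3, 2], 0, false),
    ([1, 0, 3, 0, 3, 0, 1, 0, 3, 0, 3, 0, 1, 2, 3, 0, 3, 2, 1, 0, 1, 2, 3, 0, 1], 0, false),
    ([1, 0, 3, 0, 3, 0, 1, 0, 3, 0, 3, 0, 1, 2, 3, 0, 3], 0, false),
    ([1, 0, 3, 0, 3, 0, 1, 0, 3, 0, 3, 0, 1, 2, 3, 0, 3, 0, 1, 0, 1, 2, 3, 0, 1, 0, 1, 0, 3, 2, 1, 2, 1, 2, 3, 2, 1, 0, 3, 0, 3, 0, 1, 0, 3, 0, 3, 0, 1], 0, false),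
    ([1, 0, 3, 0, 3, 0, 1, 0, 3, 0, 3, 0, 1, 2, 3, 0, 3, 0, 1, 0, 1, 2, 3, 0, 1, 0, 1, 0, 3], 0, false),
    ([1, 0, 3, 0, 3, 0, 1, 0, 3, 0, 3, 0, 1, 2, 3, 0, 3, 0, 1, 0, 1], 0, false),
    ([1, 0, 3, 0, 3, 0, 1, 0, 3, 0, 3, 0, 1, 2, 3, 0, 3, 0, 1, 0, 1, 0, 3, 0, 1, 0, 1, 0, 3, 0, 1, 2, 1], 0, false),
    ([1, 0, 3, 0, 3, 0, 1, 0, 3, 0, 3, 0, 1, 2, 3, 0, 3, 0, 1, 0, 1, 0, 3, 0, 1, 0, 1, 0, 3, 0, 1, 2], 0, false),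
    ([1, 0, 3, 0, 3, 0, 1, 0, 3, 0, 3, 0, 1, 2, 3, 0, 3, 0, 1, 0, 1, 0, 3, 0, 1, 0, 1, 0, 3, 0, 1, 0, 1, 0, 3, 2], 0, false),
    ([1, 0, 3, 0, 3, 0, 1, 0, 3, 0, 3, 0, 1, 2, 2, 3, 2, 1, 2, 1, 2, 3, 2, 1, 2, 1, 2, 3, 2, 1, 2, 3, 2, 3, 2, 1, 2, 3, 2, 3, 2, 1, 2, 3, 2, 3, 2], 6, true),
    ([0, 1, 0, 3, 0, 3, 0, 1, 2], 1, false),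
    ([0, 1, 0, 3, 0, 3, 0, 1, 2, 1, 1, 0, 3, 2, 3, 3], 1, true),
    ([0, 1, 0, 3, 0, 3, 0, 1, 2, 1, 1, 0, 3, 2, 3, 3, 0, 3, 2], 1, false),
    ([0, 1, 0, 3, 0, 3, 0, 1, 2, 1, 1, 0, 3, 2, 3, 3, 0, 3, 2, 1, 1, 0, 1, 2, 3, 3], 1, true)] : List Step)

/-- A derivation. -/
def sixDeriv9 : List Step :=
  ([([1, 0, 3, 2, 3, 3, 0, 3, 2, 1, 1, 0, 1, 2, 3, 0, 3, 0, 1, 0, 1, 2, 1, 1], 1, true),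
    ([1, 0, 3, 2, 3, 3, 0, 3, 2, 1, 1, 0, 1, 2, 3, 0, 3, 0, 1, 0, 1, 2, 3, 2, 1, 2, 3, 3, 0, 3, 2, 1, 2, 1, 2, 3, 0, 1, 2, 1], 1, true),
    ([1, 0, 3, 2, 3, 3, 0, 3, 2, 1], 1, true),
    ([1, 0, 3, 2, 3], 1, false),
    ([1, 0, 3, 2, 1, 0, 3, 2, 3, 0, 1, 2, 3, 0, 3, 0, 1, 0, 1, 2, 3, 2, 1, 2, 3, 3, 0, 3, 2, 1, 2, 1, 2, 3, 0, 1, 2, 3], 0, true),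
    ([1, 0, 3, 2, 1, 0, 3, 2, 3], 0, true),
    ([1, 0, 3, 2, 1, 0, 3, 2, 3, 2, 1, 2, 3, 0, 3, 0, 1, 0, 1, 2, 3, 2, 1, 2, 3, 3, 0, 3, 2, 1, 2, 1, 2, 3, 0], 0, true),
    ([1, 0, 3, 2, 1, 0], 0, true),
    ([1, 0, 3, 2, 1, 2, 3, 2, 3, 2, 1, 2, 3], 0, true),
    ([1, 0, 3, 2, 1, 2, 3, 2, 3, 2, 1, 2, 3, 2, 3], 0, true),
    ([1, 0, 3, 2, 1, 2, 3, 2, 3, 2, 1, 2, 3, 2, 3, 2, 1, 0, 1, 2, 3, 2, 1, 2, 3, 3, 0], 0, true),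
    ([1, 0, 3, 2, 1, 2, 3, 2, 3, 2, 1, 2, 3, 2, 3, 2, 1], 0, true),
    ([1, 0, 3, 2, 1, 2, 3, 2, 3, 2, 1, 2, 3, 2, 3, 2, 1, 2, 1, 2, 3, 2, 1, 2], 1, false),
    ([1, 0, 0, 1, 0, 3, 0, 1, 0, 3, 0, 3, 0, 1, 0, 3, 0, 3, 0, 1, 0, 3, 0, 3], 6, false)] : List Step)

/-- A derivation. -/
def sixDeriv10 : List Step :=
  ([([0, 3, 0, 1, 0, 1, 2, 1, 1, 2, 1, 1, 2, 1, 2, 3, 3, 0, 3, 2, 1, 2, 1, 2, 3, 0, 1, 2, 1, 0, 3, 0, 1, 0, 3, 0], 0, true),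
    ([0, 3, 0, 1, 0, 1, 2, 1, 1, 2, 1, 1], 1, true),
    ([0, 3, 0, 1, 0, 1, 2, 1, 1], 1, true),
    ([0, 3, 0, 3, 0, 1, 2, 1, 1, 0, 1, 0, 1, 2, 3, 2, 1, 2, 3, 0, 3], 0, true),
    ([0, 3, 0, 3, 0, 1, 2, 1, 1, 0, 1, 0, 1, 2, 3, 2, 1, 2, 3, 0, 3, 2, 2, 1, 2, 1], 0, true),
    ([0, 3, 0, 3, 0, 1, 2, 1, 1, 0, 1, 0, 1, 2, 3, 2, 1, 2, 3, 0, 3, 2, 2, 1, 2, 1, 2, 3], 0, true),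
    ([0, 3, 0, 3, 0, 1, 2, 1, 1, 0, 1, 0, 1, 2, 3, 2, 1, 2, 3, 0, 3, 2, 2, 1, 2, 1, 2, 3, 2, 1, 0, 3, 2, 3, 2, 3, 3, 0], 0, true),
    ([0, 3, 0, 3, 0, 1, 2, 1, 1, 0, 1, 0, 1, 2, 3, 2, 1, 2, 3, 0, 3, 2, 1, 0, 3, 0, 3, 0, 1], 0, true),
    ([0, 3, 0, 3, 0, 1, 2, 1, 1, 0, 1, 0, 1, 2, 3, 2, 1, 2, 3, 0, 3, 2, 1, 0, 3, 0, 3, 0, 1, 2, 2, 3, 2, 1, 2, 1, 2, 3, 2, 1, 2, 1, 2, 3, 2, 1, 0, 3, 2, 3, 2, 3, 3, 2, 3, 2, 1, 1], 0, true),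
    ([0, 3, 0, 3, 0, 1, 2, 1, 1, 0, 1, 0, 1, 2, 3, 2, 1, 2, 3, 0, 3, 2, 1, 0, 3, 0, 3, 0, 1, 2, 2, 3, 2, 1, 2, 1, 2, 3, 2, 1, 2, 1, 2, 3, 2, 1], 0, true),
    ([0, 3, 0, 3, 0, 1, 2, 1, 1, 0, 1, 0, 1, 2, 3, 2, 1, 2, 3, 0, 3, 2, 1, 0, 3, 0, 3, 0, 1, 2, 2, 3, 2, 1, 2, 1, 2, 3, 2, 1, 2, 1, 2, 3, 2, 1, 2, 3, 2, 3, 2, 3, 3, 2, 3, 2, 1, 1], 1, true),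
    ([0, 3, 0, 3, 0, 1, 2, 1, 1, 0, 1, 0, 1, 2, 3, 2, 1, 2, 3, 0, 3, 2, 1, 0, 3, 0, 3, 0, 1, 2, 2, 3, 2, 1, 2, 1, 2, 3, 2, 1, 2, 1, 2, 3, 2, 1, 2, 3, 2, 3, 2], 1, false),
    ([0, 3, 0, 3, 0, 1, 2, 1, 1, 0, 1, 0, 1, 2, 3, 2, 1, 2, 3, 0, 3, 2, 1, 0, 3, 0, 3, 0, 1, 2, 1, 1], 1, false),
    ([0, 3, 0, 3, 0, 1, 2, 1, 1, 0, 1, 0, 1, 2, 3, 2, 1, 2, 3, 0, 3, 2, 1, 0, 3, 0, 3, 0, 1, 2, 1, 1, 0, 3, 0, 1, 0, 1, 0, 3, 0, 1, 0, 1, 0, 3, 0, 1, 0, 1, 0, 3, 0, 1, 0, 3, 0, 3, 0, 1, 0, 3, 0, 3, 0, 1, 0, 3, 0, 3], 6, false)] : List Step)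

/-- A derivation. -/
def sixDeriv11 : List Step :=
  ([([0, 3, 0, 3, 0, 3, 2, 1, 2, 1, 2, 3, 0, 3, 2, 1, 0, 1, 0, 3, 0, 3, 0, 1, 2, 1, 2, 1, 2, 3, 3, 0, 3, 0, 3, 2, 1, 2, 1, 1, 0, 3, 0, 1, 0], 0, true),
    ([0, 3, 0, 3, 0, 3, 2, 1, 2, 1, 2, 3, 0, 3, 2, 1, 0, 1, 0, 3, 0, 3, 0, 1, 2, 1, 2, 1, 1, 0, 3, 2, 3], 0, true),
    ([0, 3, 0, 3, 0, 3, 2, 1, 2, 1, 2, 3, 0, 3, 2, 1, 0, 1, 0, 3, 0, 3, 0, 1, 2, 1, 2, 1, 1, 0, 3, 2, 3, 2, 3, 3, 0, 3, 0, 3, 2, 1, 2, 1, 1, 0, 3, 0, 1, 0, 1, 0, 3, 2, 1], 0, true),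
    ([0, 3, 0, 3, 0, 3, 2, 1, 2, 1, 2, 3, 0, 3, 2, 1, 0, 1, 0, 3, 0, 3, 0, 1, 2, 1, 2, 1, 1, 0, 3, 2, 3, 2, 3, 3, 0, 3, 0, 3, 2, 1, 2, 1, 1, 0, 3, 0, 1, 0, 1, 0, 3, 2, 1, 2, 2, 3], 0, true),
    ([0, 3, 0, 3, 0, 3, 2, 1, 2, 1, 2, 3, 0, 3, 2, 1, 0, 1, 0, 3, 0, 3, 0, 1, 2, 1, 2, 1, 1, 0, 3, 2, 3, 2, 3, 3, 0, 3, 0, 3, 2, 1, 2, 1, 1, 0, 3, 0, 1, 0, 1, 0, 3, 2, 1, 2, 2, 3, 2, 1, 2, 3, 2, 3, 2, 1, 2, 3, 3, 0, 3, 0, 1, 2, 1, 2, 1, 1, 2, 1, 0, 1, 2, 3, 2, 3, 3], 1, false),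
    ([0, 3, 0, 3, 0, 3, 2, 1, 2, 1, 2, 3, 0, 3, 2, 1, 0, 1, 0, 3, 0, 3, 0, 1, 2, 1, 2, 1, 1, 0, 3, 2, 3, 2, 3, 3, 0, 3, 0, 3, 2, 1, 2, 1, 1, 0, 3, 0, 1, 0, 1, 0, 3, 2, 1, 2, 2, 3, 2, 1, 2, 3, 2, 3, 2, 1, 2, 3, 3, 0, 3, 0, 1, 2, 1, 2], 1, true),
    ([0, 3, 0, 3, 0, 3, 2, 1, 2, 1, 2, 3, 0, 3, 2, 1, 0, 1, 0, 3, 0, 3, 0, 1, 2, 1, 2, 1, 1, 0, 3, 2, 3, 2, 3, 3, 0, 3, 0, 3, 2, 1, 2, 1, 1, 0, 3, 0, 1, 0, 1, 0, 3, 2, 1, 2, 2, 3, 2, 1, 2, 3, 2, 3, 2, 1, 2, 3, 3], 1, false),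
    ([0, 3, 0, 3, 0, 3, 2, 1, 2, 1, 2, 3, 0, 3, 2, 1, 0, 1, 0, 3, 0, 3, 0, 1, 2, 1, 2, 1, 1, 0, 3, 2, 3, 2, 3, 3, 0, 3, 0, 3, 2, 1, 2, 1, 1, 0, 3, 0, 1, 0, 1, 0, 3, 2, 1, 2, 3, 3], 1, true),
    ([0, 3, 0, 3, 0, 3, 2, 1, 2, 1, 2, 3, 0, 3, 2, 1, 0, 1, 0, 3, 0, 3, 0, 1, 2, 1, 2, 1, 1, 0, 3, 2, 3, 2, 3, 3, 0, 3, 0, 3, 2, 1, 2, 1, 1, 0, 3, 0, 1, 0, 1, 0, 3, 2, 1, 2, 3, 3, 3, 2, 3, 2, 1, 2, 3, 2, 3, 2, 1, 2, 1, 0, 3, 0, 1, 2, 1, 2, 3, 2, 1, 0], 0, true),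
    ([0, 3, 0, 3, 0, 3, 2, 1, 2, 1, 2, 3, 0, 3, 2, 1, 0, 1, 0, 3, 0, 3, 0, 1, 2, 1, 2, 1, 1, 0, 3, 2, 3, 2, 3, 3, 0, 3, 0, 3, 2, 1, 2, 1, 1, 0, 3, 0, 1, 0, 1, 0, 3, 2, 1, 2, 3, 3, 3, 2, 3, 2, 1, 2, 3, 2, 3, 2, 1, 2, 1, 0, 3, 0, 1, 2, 1, 2, 3, 2, 1, 2, 1, 2, 3, 2, 1], 0, true),
    ([0, 3, 0, 3, 0, 3, 2, 1, 2, 1, 2, 3, 0, 3, 2, 1, 0, 1, 0, 3, 0, 3, 0, 1, 2, 1, 2, 1, 1, 0, 3, 2, 3, 2, 3, 3, 0, 3, 0, 3, 2, 1, 2, 1, 1, 0, 3, 0, 1, 0, 1, 0, 3, 2, 1, 2, 3, 3, 3, 2, 3, 2, 1, 2, 3, 2, 3, 2, 1, 2, 1], 0, true),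
    ([0, 3, 0, 3, 0, 3, 2, 1, 2, 1, 2, 3, 0, 3, 2, 1, 0, 1, 0, 3, 0, 3, 0, 1, 2, 1, 2, 1, 1, 0, 3, 2, 3, 2, 3, 3, 0, 3, 0, 3, 2, 1, 2, 1, 1, 0, 3, 0, 1, 0, 1, 0, 3, 2, 1, 2, 3, 3, 3, 2, 3, 2, 1, 2, 3, 2, 3, 2, 1, 2, 1, 2, 3, 0, 1, 2, 1, 2, 3, 2, 1, 2, 1, 2, 3, 2, 1, 2, 3, 0], 0, true),
    ([0, 3, 0, 3, 0, 3, 2, 1, 2, 1, 2, 3, 0, 3, 2, 1, 0, 1, 0, 3, 0, 3, 0, 1, 2, 1, 2, 1, 1, 0, 3, 2, 3, 2, 3, 3, 0, 3, 0, 3, 2, 1, 2, 1, 1, 0, 3, 0, 1, 0, 1, 0, 3, 2, 1, 2, 3, 3, 3, 2, 3, 2, 1, 2, 3, 2, 3, 2, 1, 2, 1, 2, 3, 0], 0, true),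
    ([0, 3, 0, 3, 0, 3, 2, 1, 2, 1, 2, 3, 0, 3, 2, 1, 0, 1, 0, 3, 0, 3, 0, 1, 2, 1, 2, 1, 1, 0, 3, 2, 3, 2, 3, 3, 0, 3, 0, 3, 2, 1, 2, 1, 1, 0, 3, 0, 1, 0, 1, 0, 3, 2, 1, 2, 3, 3, 0, 3, 0, 1, 0, 1, 0, 3, 0, 1, 0, 3, 0, 3, 0, 1, 0, 3, 0, 3, 0, 1, 0, 3, 0, 3], 6, false),
    ([0, 3, 0, 3, 0, 3, 2, 1, 2, 1, 2, 3, 0, 3, 2, 1, 0, 1, 0, 3, 0, 3, 0, 1], 0, false),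
    ([0, 3, 0, 3, 0, 3, 2, 1, 2, 1, 2, 3, 0, 3, 2, 1, 0, 1, 0, 3, 0, 3, 0], 0, true),
    ([0, 3, 0, 3, 0, 3, 2, 1, 2, 1, 2, 3, 0], 0, true),
    ([0, 3, 0, 3, 0, 3, 2, 1, 2, 1, 2, 3, 2, 3, 2, 1, 0, 1, 0, 3, 2, 3, 2, 1, 0, 1, 0, 1, 1, 0, 3, 2, 3, 3, 0, 1, 0, 3, 2, 3, 2, 1, 0, 3, 3, 0, 3, 2, 3, 2, 1, 0, 1, 0], 4, false),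
    ([0, 3, 0, 3, 0, 3, 2, 1, 2, 1, 2, 3, 2, 3, 2, 1, 0, 1, 0, 3, 2, 3, 2, 1, 0, 1, 0, 1, 1, 0, 3, 2, 3, 3, 0, 1, 0, 3, 2, 3, 2, 1, 0, 3, 3, 3, 2, 3, 0, 1, 0, 1, 2, 3, 2, 3, 0, 1, 0, 1, 2, 3, 2, 3, 0, 1, 0, 1, 2, 3, 2, 3, 0, 1, 0, 1, 2, 3, 2, 3, 0, 1], 0, true),
    ([0, 3, 0, 3, 0, 3, 2, 1, 2, 1, 2, 3, 2, 3, 2, 1, 0, 1, 0, 3, 2, 3, 2, 1, 0, 1, 0, 1, 1, 0, 3, 2, 3, 3, 0, 1, 0, 3, 2, 3, 2, 1, 0, 3, 3, 3, 2, 3, 0, 1, 0, 1, 2, 3, 2, 3, 0, 1, 0, 1, 2, 3, 2, 3, 0, 1, 0, 1, 2, 3, 2, 3, 0, 1, 0, 1, 2, 3], 0, false)] : List Step)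
  ++ ([([0, 3, 0, 3, 0, 3, 2, 1, 2, 1, 2, 3, 2, 3, 2, 1, 0, 1, 0, 3, 2, 3, 2, 1, 0, 1, 0, 1, 1, 0, 3, 2, 3, 3, 0, 1, 0, 3, 2, 3, 2, 1, 0, 3, 3, 3, 2, 3, 0, 1, 0, 1, 2, 3, 2, 3, 0, 1], 0, true),
    ([0, 3, 0, 3, 0, 3, 2, 1, 2, 1, 2, 3, 2, 3, 2, 1, 0, 1, 0, 3, 2, 3, 2, 1, 0, 1, 0, 1, 1, 0, 3, 2, 3, 3, 0, 1, 0, 3, 2, 3, 2, 1, 0, 3, 3, 3, 2, 3, 0, 1, 0, 1, 2, 3, 2], 1, false),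
    ([0, 3, 0, 3, 0, 3, 2, 1, 2, 1, 2, 3, 2, 3, 2, 1, 0, 1, 0, 3, 2, 3, 2, 1, 0, 1, 0, 1, 1, 0, 3, 2, 3, 3, 0, 1, 0, 3, 2, 3, 2, 1, 0, 3, 3, 3, 2, 3, 0, 1, 0, 1, 2, 3, 2, 1, 1, 0, 1, 2, 3, 3], 1, true),
    ([0, 3, 0, 3, 0, 3, 2, 1, 2, 1, 2, 3, 2, 3, 2, 1, 0, 1, 0, 3, 2, 3, 2, 1, 0, 1, 0, 1, 1, 0, 3, 2, 3, 3, 0, 1, 0, 3, 2, 3, 2, 1, 0, 3, 3], 1, false),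
    ([0, 3, 0, 3, 0, 3, 2, 1, 2, 1, 2], 0, false),
    ([0, 1, 2, 3, 0, 1, 0, 1, 2, 3, 2, 1, 1, 0, 1, 2, 3, 3], 0, false),
    ([0, 1, 2, 3, 0, 1, 0, 1, 2, 3, 2, 1, 1, 0, 1, 2, 3, 3, 0, 3, 2, 3, 0, 1, 2], 0, true),
    ([0, 1, 0], 0, false)] : List Step)

/-- A derivation. -/
def sixDeriv12 : List Step :=
  ([([1, 0, 3, 2, 3, 3, 0, 3, 2, 1, 0, 1, 0, 3, 0, 1, 0, 3, 2, 3, 3, 0, 3, 2, 1, 2, 1, 2, 3, 2, 1, 0, 3, 2, 3], 1, false),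
    ([1, 0, 3, 2, 3], 1, false),
    ([1, 0, 3, 2, 1, 0, 3, 2, 1, 0, 1, 0, 3, 0, 1, 0, 3, 2, 3, 3, 0, 3, 2, 1, 2, 1, 2, 3, 2, 1, 0, 3, 2], 0, false),
    ([1, 0, 3, 2], 0, false),
    ([0, 1, 0, 3, 0, 3, 0], 5, true),
    ([0, 1, 0, 3, 0, 3, 0, 1, 2, 3, 2, 1, 2, 3, 2, 1, 2, 3, 2, 3, 2, 1, 2, 3, 2, 1, 2, 3], 0, false),
    ([0, 1, 0, 3, 0, 3, 0, 1, 2, 3, 2, 1, 2, 3, 2, 1, 2, 3, 2, 3, 2, 1, 2, 3, 2, 1, 2, 3, 0, 1, 2, 3, 2, 3, 2, 1, 2, 3, 2, 1, 2, 3, 2, 1, 2, 3, 2, 3, 2, 1, 2, 3, 2, 1, 2, 3], 0, false),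
    ([0, 1, 0, 3, 0, 3, 0, 1, 2, 3, 2, 1, 2, 3, 2, 1, 2, 3, 2, 3, 2, 1, 2, 3, 2, 1, 2, 3, 0, 1, 2, 3], 0, false),
    ([0, 1, 0, 3, 0, 3, 0, 1, 2, 3, 2, 1, 2, 3, 2, 1, 2, 3, 2, 3, 2, 1, 2, 3, 2, 1, 2, 3, 0, 1, 2, 3, 0, 3, 2, 1, 2, 3, 2, 1, 2, 3, 2, 1, 2, 3, 2, 3, 2, 1, 2, 3, 2, 1, 2, 3, 0, 1, 2, 3], 0, false),
    ([0, 1, 0, 3, 0, 3, 0, 1, 2, 3, 2, 1, 2, 3, 2, 1, 2, 3, 2, 3, 2, 1, 2, 3, 2, 1, 2, 3, 0, 1, 0], 0, false),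
    ([0, 1, 0, 3, 0, 3, 0, 1, 2, 3, 2, 1, 2, 3, 2, 1, 2, 3, 2, 3, 2, 1, 2, 3, 2, 1, 2, 3, 0, 1, 0, 3, 0, 3, 2, 1, 2, 3, 2, 1, 2, 3, 2, 1, 2, 3, 2, 3, 2, 1, 2, 3, 2, 1, 2, 3, 0, 1, 0], 0, false),
    ([0, 1, 0, 3, 0, 3, 0, 1, 2, 3, 2, 1, 2, 3, 2, 1, 2, 3, 2, 3, 0], 0, false),
    ([0, 1, 0, 3, 0, 3, 0, 1, 2, 3, 2, 1, 2, 3, 2, 1, 2, 3, 2, 3, 0, 1, 2, 3, 2, 1, 2, 3, 0, 1, 0, 3, 0, 3, 2, 1, 2, 3, 2, 1, 2, 3, 2, 1, 2, 3, 2, 3, 0], 0, false),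
    ([0, 1, 0, 3, 0, 3, 0, 1, 2, 3, 2, 1, 2, 3, 2, 1, 2, 3, 2, 3, 0, 1, 2, 3, 2, 1, 2, 3, 0, 1, 0, 3, 0, 3, 0], 0, false),
    ([0, 1, 0, 3, 0, 3, 0, 1, 2, 3, 2, 1, 2, 3, 2, 1, 2, 3, 2, 3, 0, 1, 2, 3, 2, 1, 2, 3, 0, 1, 0, 3, 0, 3, 0, 1, 2, 3, 2, 1, 2, 3, 2, 1, 2, 3, 2, 3, 0, 1, 2, 3, 2, 1, 2, 3, 0, 1, 0, 3, 0, 3, 0], 0, false),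
    ([0, 1, 0, 3, 0, 3, 0, 1, 2, 3, 0], 0, false),
    ([0, 1, 0, 3, 0, 3, 0, 1, 2, 3, 0, 1, 2, 3, 2, 1, 2, 3, 2, 3, 0, 1, 2, 3, 2, 1, 2, 3, 0, 1, 0, 3, 0, 3, 0, 1, 2, 3, 0], 0, false),
    ([0, 1, 0, 3, 0, 3, 0, 1, 2], 1, false),
    ([0, 1, 0, 3, 0, 3, 0, 1, 2, 1, 1, 0, 1, 2, 3, 2, 1, 2, 3, 2, 3, 0, 1, 2, 3, 2, 1, 2, 3, 0, 1, 0, 3, 0, 3, 0, 1, 2], 1, false)] : List Step)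

/-- A derivation. -/
def sixDeriv13 : List Step :=
  ([([1, 0, 3, 2, 3, 3, 0, 3, 2, 1, 1, 0, 1, 2, 3, 0, 1, 0, 3, 0, 1, 0, 3, 2, 3, 2, 1, 2, 3, 2, 1, 0, 3, 2, 3, 3, 0, 3, 2, 1], 1, true),
    ([1, 0, 3, 2, 3, 3, 0, 3, 2, 1, 1, 0, 1, 2, 3, 0, 1, 0, 3, 0, 1, 0, 3, 2, 3, 2, 1, 2, 3, 2, 1, 0, 3, 2, 3], 1, false),
    ([1, 0, 3, 2, 3, 3, 0, 3, 2, 1], 1, true),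
    ([1, 0, 3, 2, 3], 1, false),
    ([1, 0, 3, 2, 1, 0, 3, 2, 3, 0, 1, 2, 3, 0, 1, 0, 3, 0, 1, 0, 3, 2, 3, 2, 1, 2, 3, 2, 1, 0, 3, 2, 1, 0, 3, 2, 3, 0, 1, 2, 3, 0, 1, 0, 3, 0, 1, 0, 3, 2, 3, 2, 1, 2, 3, 2, 1], 0, true),
    ([1, 0, 3, 2, 1, 0, 3, 2, 3, 0, 1, 2, 3, 0, 1, 0, 3, 0, 1, 0, 3, 2, 3, 2, 1, 2, 3, 2, 1, 0, 3, 2, 1, 0, 3, 2, 3], 0, true),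
    ([1, 0, 3, 2, 1, 0, 3, 2, 3, 0, 1, 2, 3, 0, 1, 0, 3, 0, 1, 0, 3, 2, 3, 2, 1, 2, 3, 2, 1], 0, true),
    ([1, 0, 3, 2, 1, 0, 3, 2, 3], 0, true),
    ([1, 0, 3, 2, 1, 0, 3, 2, 3, 2, 1, 2, 3, 0, 1, 0, 3, 0, 1, 0, 3, 2, 3, 2, 1, 2, 3, 2, 1, 2, 3, 2, 1, 0, 3, 2, 3, 2, 1, 2, 3, 0, 1, 0, 3, 0, 1, 0], 0, true),
    ([1, 0, 3, 2, 1, 0, 3, 2, 3, 2, 1, 2, 3, 0, 1, 0, 3, 0, 1, 0], 0, true),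
    ([1, 0, 3, 2, 1, 0, 3, 2, 3, 2, 1, 2, 3, 0, 1, 0, 3, 0, 1, 2, 3, 2, 3, 2, 1, 2, 3, 2, 1, 2, 3, 2, 1, 0], 0, true),
    ([1, 0, 3, 2, 1, 0], 0, true),
    ([1, 0, 3, 2, 1, 2, 3, 2, 3, 2, 1, 2, 3, 0, 1, 0, 3, 0, 1, 2, 3, 2, 3, 2, 1, 2, 3, 2, 1, 2, 3, 2, 1, 2, 3, 2, 3, 2, 1, 2, 3, 0, 1, 0], 0, true),
    ([1, 0, 3, 2, 1, 2, 3, 2, 3, 2, 1, 2, 3, 0, 1, 0], 0, true),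
    ([1, 0, 3, 2, 1, 2, 3, 2, 3, 2, 1, 2, 3, 0, 1, 2, 3, 0, 1, 2, 3, 2, 3, 2, 1, 2, 3, 2, 1, 2, 3, 2, 1, 2, 3, 2, 3, 2, 1, 2, 3, 0, 1, 2, 3], 0, true),
    ([1, 0, 3, 2, 1, 2, 3, 2, 3, 2, 1, 2, 3, 0, 1, 2, 3], 0, true),
    ([1, 0, 3, 2, 1, 2, 3, 2, 3, 2, 1, 2, 3, 0, 1, 2, 3, 2, 1, 2, 3, 2, 3, 2, 1, 2, 3, 2, 1, 2, 3, 2, 1, 2, 3, 2, 3, 2, 1, 2, 3], 0, true),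
    ([1, 0, 3, 2, 1, 2, 3, 2, 3, 2, 1, 2, 3], 0, true),
    ([1, 0, 0, 3, 0, 1, 0, 3], 5, false)] : List Step)

/-- A derivation. -/
def sixDeriv14 : List Step :=
  ([([1, 0, 3, 2, 3, 0, 1, 0, 3, 0, 1, 0, 3, 2, 3, 3, 0, 3, 2, 1, 1, 0, 1, 2, 3, 2, 1, 2, 3, 2, 1, 0, 3, 2, 3, 0, 1, 0, 3, 0, 1, 0, 3, 2, 3, 3, 0, 3, 2, 1, 1, 0, 1, 2, 3, 2, 1, 2, 3, 2, 1], 0, true),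
    ([1, 0, 3, 2, 3, 0, 1, 0, 3, 0, 1, 0, 3, 2, 3, 3, 0, 3, 2, 1, 1, 0, 1, 2, 3, 2, 1, 2, 3, 2, 1], 0, true),
    ([1, 0, 3, 2, 3, 0, 1, 0, 3, 0, 1, 0, 3, 2, 3, 3, 0, 3, 2, 1, 1, 0, 1, 2, 3, 2, 1, 2, 3, 2, 1, 2, 3, 2, 3, 0, 1, 0, 3, 0, 1, 0, 3, 2, 3, 3], 1, false),
    ([1, 0, 3, 2, 3, 0, 1, 0, 3, 0, 1, 0, 3, 2, 3, 3, 0, 3, 2], 1, true),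
    ([1, 0, 3, 2, 3, 0, 1, 0, 3, 0, 1, 0, 3, 2, 3, 3], 1, false),
    ([1, 0, 0, 3, 0, 1, 0, 3, 0, 1, 0, 3, 2, 3, 3], 1, true),
    ([1, 0, 0, 3, 0, 1, 0, 3, 0, 1, 0, 3, 2, 3, 3, 3, 0, 1, 2, 3, 2, 1, 2, 3, 2, 1, 2, 3, 2, 3, 0, 1, 0, 3, 0, 1, 0, 3, 2, 1, 0, 3, 2, 3, 0, 1, 2, 3, 2, 1, 2, 3, 2, 1, 2, 3, 2, 3, 0, 1, 0, 3, 0, 1, 0], 0, true),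
    ([1, 0, 0, 3, 0, 1, 0, 3, 0, 1, 0, 3, 2, 3, 3, 3, 0, 1, 2, 3, 2, 1, 2, 3, 2, 1, 2, 3, 2, 3, 0, 1, 0, 3, 0, 1, 0, 3, 2, 1, 0, 3, 2, 3, 0], 0, true),
    ([1, 0, 0, 3, 0, 1, 0, 3, 0, 1, 0, 3, 2, 3, 3, 3, 0, 1, 2, 3, 2, 1, 2, 3, 2, 1, 2, 3, 2, 3, 0, 1, 0, 3, 0, 1, 0], 0, true),
    ([1, 0, 0, 3, 0, 1, 0, 3, 0, 1, 0, 3, 2, 3, 3, 3, 0], 0, true),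
    ([1, 0, 0, 3, 0, 1, 0, 3, 0, 1, 0, 3, 2, 3, 3, 3, 2, 1, 2, 3, 2, 1, 2, 3, 2, 1, 2, 3, 2, 3, 0, 1, 0, 3, 0, 1, 2, 3, 2, 1, 0, 3, 2, 3, 2, 1, 2, 3, 2, 1, 2, 3, 2, 1, 2, 3, 2, 3, 0, 1, 0, 3, 0, 1, 2, 3, 2, 1, 0], 0, true),
    ([1, 0, 0, 3, 0, 1, 0, 3, 0, 1, 0, 3, 2, 3, 3, 3, 2, 1, 2, 3, 2, 1, 2, 3, 2, 1, 2, 3, 2, 3, 0, 1, 0, 3, 0, 1, 2, 3, 2, 1, 0], 0, true),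
    ([1, 0, 0, 3, 0, 1, 0, 3, 0, 1, 0, 3, 2, 3, 3, 3, 2, 1, 2, 3, 2, 1, 2, 3, 2, 1, 2, 3, 2, 3, 0, 1, 0, 3, 0, 1, 2, 3, 2, 1, 2, 3, 2, 3, 2, 1, 2, 3, 2, 1, 2, 3, 2, 1, 2, 3, 2, 3, 0, 1, 0], 0, true),
    ([1, 0, 0, 3, 0, 1, 0, 3, 0, 1, 0, 3, 2, 3, 3, 3, 2, 1, 2, 3, 2, 1, 2, 3, 2, 1, 2, 3, 2, 3, 0, 1, 0], 0, true),
    ([1, 0, 0, 3, 0, 1, 0, 3, 0, 1, 0, 3, 2, 3, 3, 3, 2, 1, 2, 3, 2, 1, 2, 3, 2, 1, 2, 3, 2, 3, 0, 1, 2, 3, 0, 1, 2, 3, 2, 1, 2, 3, 2, 3, 2, 1, 2, 3, 2, 1, 2, 3, 2, 1, 2, 3, 2, 3, 0, 1, 2, 3], 0, true),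
    ([1, 0, 0, 3, 0, 1, 0, 3, 0, 1, 0, 3, 2, 3, 3, 3, 2, 1, 2, 3, 2, 1, 2, 3, 2, 1, 2, 3, 2, 3, 0, 1, 2, 3], 0, true),
    ([1, 0, 0, 3, 0, 1, 0, 3, 0, 1, 0, 3, 2, 3, 3, 3, 2, 1, 2, 3, 2, 1, 2, 3, 2, 1, 2, 3, 2, 3, 0, 1, 2, 3, 2, 1, 2, 3, 2, 1, 2, 3, 2, 3, 2, 1, 2, 3, 2, 1, 2, 3, 2, 1, 2, 3, 2, 3], 0, true),
    ([1, 0, 0, 3, 0, 1, 0, 3, 0, 1, 0, 3, 2, 3, 3, 3, 2, 1, 2, 3, 2, 1, 2, 3, 2, 1, 2, 3, 2, 3], 0, true),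
    ([1, 0, 0, 3, 0, 1, 0, 3, 0, 1, 0, 3, 2, 3, 3, 0, 1, 0, 3, 0, 1, 0, 3, 0, 1, 0, 3, 0, 1, 0, 1, 0, 3, 0, 1, 0, 3, 0, 1, 0, 3], 5, false)] : List Step)

/-- A derivation. -/
def sixDeriv15 : List Step :=
  ([([1, 0, 3, 2, 3, 0, 3, 0, 3, 0, 3, 2, 1, 2, 1, 1, 0, 3, 0, 1, 0], 0, true),
    ([1, 0, 3, 2, 3, 0, 1, 0, 1, 0, 3, 2, 3], 0, true),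
    ([1, 0, 3, 2, 3, 0, 1, 0, 1, 0, 3, 2, 3, 2, 3, 3, 0, 3, 0, 3, 2, 1, 2, 1, 1, 0, 3, 0, 1, 0, 1, 0, 3, 2, 1], 0, true),
    ([1, 0, 3, 2, 3, 0, 1, 0, 1, 0, 3, 2, 3, 2, 3, 3, 0, 3, 0, 3, 2, 1, 2, 1, 1, 0, 3, 0, 1, 0, 1, 0, 3, 2, 1, 2, 2, 3], 0, true),
    ([1, 0, 3, 2, 3, 0, 1, 0, 1, 0, 3, 2, 3, 2, 3, 3, 0, 3, 0, 3, 2, 1, 2, 1, 1, 0, 3, 0, 1, 0, 1, 0, 3, 2, 1, 2, 2, 3, 2, 1, 2, 3, 2, 3, 2, 1, 2, 3, 3, 0, 3, 0, 1, 2, 1, 2, 1, 1, 2, 1, 0, 1, 2, 3, 2, 3, 3], 1, false),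
    ([1, 0, 3, 2, 3, 0, 1, 0, 1, 0, 3, 2, 3, 2, 3, 3, 0, 3, 0, 3, 2, 1, 2, 1, 1, 0, 3, 0, 1, 0, 1, 0, 3, 2, 1, 2, 2, 3, 2, 1, 2, 3, 2, 3, 2, 1, 2, 3, 3, 0, 3, 0, 1, 2, 1, 2], 1, true),
    ([1, 0, 3, 2, 3, 0, 1, 0, 1, 0, 3, 2, 3, 2, 3, 3, 0, 3, 0, 3, 2, 1, 2, 1, 1, 0, 3, 0, 1, 0, 1, 0, 3, 2, 1, 2, 2, 3, 2, 1, 2, 3, 2, 3, 2, 1, 2, 3, 3], 1, false),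
    ([1, 0, 3, 2, 3, 0, 1, 0, 1, 0, 3, 2, 3, 2, 3, 3, 0, 3, 0, 3, 2, 1, 2, 1, 1, 0, 3, 0, 1, 0, 1, 0, 3, 2, 1, 2, 3, 3], 1, true),
    ([1, 0, 3, 2, 3, 0, 1, 0, 1, 0, 3, 2, 3, 2, 3, 3, 0, 3, 0, 3, 2, 1, 2, 1, 1, 0, 3, 0, 1, 0, 1, 0, 3, 2, 1, 2, 3, 3, 3, 2, 3, 2, 1, 2, 3, 2, 3, 2, 1, 2, 1, 0, 3, 0, 1, 2, 1, 2, 3, 2, 1, 0], 0, true),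
    ([1, 0, 3, 2, 3, 0, 1, 0, 1, 0, 3, 2, 3, 2, 3, 3, 0, 3, 0, 3, 2, 1, 2, 1, 1, 0, 3, 0, 1, 0, 1, 0, 3, 2, 1, 2, 3, 3, 3, 2, 3, 2, 1, 2, 3, 2, 3, 2, 1, 2, 1, 0, 3, 0, 1, 2, 1, 2, 3, 2, 1, 2, 1, 2, 3, 2, 1], 0, true),
    ([1, 0, 3, 2, 3, 0, 1, 0, 1, 0, 3, 2, 3, 2, 3, 3, 0, 3, 0, 3, 2, 1, 2, 1, 1, 0, 3, 0, 1, 0, 1, 0, 3, 2, 1, 2, 3, 3, 3, 2, 3, 2, 1, 2, 3, 2, 3, 2, 1, 2, 1], 0, true),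
    ([1, 0, 3, 2, 3, 0, 1, 0, 1, 0, 3, 2, 3, 2, 3, 3, 0, 3, 0, 3, 2, 1, 2, 1, 1, 0, 3, 0, 1, 0, 1, 0, 3, 2, 1, 2, 3, 3, 3, 2, 3, 2, 1, 2, 3, 2, 3, 2, 1, 2, 1, 2, 3, 0, 1, 2, 1, 2, 3, 2, 1, 2, 1, 2, 3, 2, 1, 2, 3, 0], 0, true),
    ([1, 0, 3, 2, 3, 0, 1, 0, 1, 0, 3, 2, 3, 2, 3, 3, 0, 3, 0, 3, 2, 1, 2, 1, 1, 0, 3, 0, 1, 0, 1, 0, 3, 2, 1, 2, 3, 3, 3, 2, 3, 2, 1, 2, 3, 2, 3, 2, 1, 2, 1, 2, 3, 0], 0, true),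
    ([1, 0, 3, 2, 3, 0, 1, 0, 1, 0, 3, 2, 3, 2, 3, 3, 0, 3, 0, 3, 2, 1, 2, 1, 1, 0, 3, 0, 1, 0, 1, 0, 3, 2, 1, 2, 3, 3, 0, 3, 0, 1, 0, 1, 0, 3, 0, 1, 0, 3, 0, 3, 0, 1, 0, 3, 0, 3, 0, 1, 0, 3, 0, 3], 6, false),
    ([1, 0, 3, 2, 3, 0, 1, 0, 1, 0, 3, 2, 3, 2, 3, 3, 0, 1, 0, 3, 0, 3, 2, 3, 3, 0, 1, 2, 1, 1, 0, 3, 0], 0, true),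
    ([1, 0, 3, 2, 3, 0, 1, 0, 1, 0, 3, 2, 3, 2, 3, 3, 0, 1, 0, 3, 0], 0, true),
    ([1, 0, 3, 2, 3, 0, 1, 0, 1, 0, 3, 2, 3, 2, 3, 3, 0, 1, 0, 3, 2, 3, 2, 3, 3, 0, 1, 2, 1, 1, 0, 3, 2, 3, 3, 0], 1, false),
    ([1, 0, 3, 2, 3, 0, 1, 0, 1, 0, 3, 2, 3, 2, 3, 3, 0, 1, 0, 3, 2, 3, 2, 3, 3, 0, 1, 2, 1, 1, 0, 3, 2], 1, false),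
    ([1, 0, 3, 2, 3, 0, 1, 0, 1, 0, 3, 2, 3, 2, 3, 3, 0, 1, 0, 3, 2, 3, 2, 3, 3, 0, 1, 2, 1, 1, 0, 3, 2, 1, 0, 1, 0, 3, 2, 3, 2, 1, 2], 0, false),
    ([1, 0, 3, 2, 3], 0, true)] : List Step)
  ++ ([([1, 0, 3, 2, 3, 2, 1, 0, 1, 0, 3, 2, 3, 2, 3, 3], 1, false),
    ([1, 0, 3, 2, 3, 2, 1, 0, 1, 0, 3, 2, 3, 2, 1, 0, 1, 0, 3, 2, 3, 2, 3, 3, 0, 1], 0, false),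
    ([1, 0, 3, 2, 3, 2, 1, 0, 1, 0, 3, 2, 3, 2, 1, 0, 1, 0, 3, 2, 3, 2, 3, 3, 0, 1, 0, 1, 1], 0, true),
    ([1, 0, 3, 2, 3, 2, 1, 0, 1, 0, 3, 2, 3, 2, 1, 0, 1, 0, 3, 2, 3, 2, 3, 3, 0, 1, 0, 1, 1], 1, true),
    ([1, 0, 3, 2, 3, 2, 1, 0, 1, 0, 3, 2, 3, 2, 1, 0, 1, 0, 3, 2, 3, 2], 1, false),
    ([2, 3, 0, 1, 0, 1, 2, 3, 2, 3, 0, 1, 0, 1, 2, 3, 2, 3, 0, 1, 0, 1, 2, 3, 2, 3, 0, 1, 0, 1], 4, false)] : List Step)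

/-- A derivation. -/
def sixDeriv16 : List Step :=
  ([([1, 0, 3, 2, 3, 0, 3, 0, 3, 0, 3, 2, 1, 1, 0, 3, 0, 3, 2, 3, 2, 1, 1, 0, 3, 0, 3, 0, 3, 2, 1, 1, 0, 3, 2, 3, 2, 1, 2, 3, 3, 0, 3, 0, 3, 2, 1, 2, 1, 1, 0, 3, 0, 1, 0], 0, true),
    ([1, 0, 3, 2, 3, 0, 3, 0, 3, 0, 3, 2, 1, 1, 0, 3, 0, 3, 2, 3, 2, 1, 1, 0, 3, 0, 3, 0, 3, 2, 1, 1, 0, 3, 2, 3, 2, 1, 1, 0, 3, 2, 3], 0, true),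
    ([1, 0, 3, 2, 3, 0, 3, 0, 3, 0, 3, 2, 1, 1, 0, 3, 0, 3, 2, 3, 2, 1, 1, 0, 3, 0, 3, 0, 3, 2, 1, 1, 0, 3, 2, 3, 2, 1, 1, 0, 3, 2, 3, 2, 3, 3, 0, 3, 0, 3, 2, 1, 2, 1, 1, 0, 3, 0, 1, 0, 1, 0, 3, 2, 1], 0, true),
    ([1, 0, 3, 2, 3, 0, 3, 0, 3, 0, 3, 2, 1, 1, 0, 3, 0, 3, 2, 3, 2, 1, 1, 0, 3, 0, 3, 0, 3, 2, 1, 1, 0, 3, 2, 3, 2, 1, 1, 0, 3, 2, 3, 2, 3, 3, 0, 3, 0, 3, 2, 1, 2, 1, 1, 0, 3, 0, 1, 0, 1, 0, 3, 2, 1, 2, 2, 3], 0, true),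
    ([1, 0, 3, 2, 3, 0, 3, 0, 3, 0, 3, 2, 1, 1, 0, 3, 0, 3, 2, 3, 2, 1, 1, 0, 3, 0, 3, 0, 3, 2, 1, 1, 0, 3, 2, 3, 2, 1, 1, 0, 3, 2, 3, 2, 3, 3, 0, 3, 0, 3, 2, 1, 2, 1, 1, 0, 3, 0, 1, 0, 1, 0, 3, 2, 1, 2, 2, 3, 2, 1, 2, 3, 2, 3, 2, 1, 2, 3, 3, 0, 3, 0, 1, 2, 1, 2, 1, 1, 2, 1, 0, 1, 2, 3, 2, 3, 3], 1, false),
    ([1, 0, 3, 2, 3, 0, 3, 0, 3, 0, 3, 2, 1, 1, 0, 3, 0, 3, 2, 3, 2, 1, 1, 0, 3, 0, 3, 0, 3, 2, 1, 1, 0, 3, 2, 3, 2, 1, 1, 0, 3, 2, 3, 2, 3, 3, 0, 3, 0, 3, 2, 1, 2, 1, 1, 0, 3, 0, 1, 0, 1, 0, 3, 2, 1, 2, 2, 3, 2, 1, 2, 3, 2, 3, 2, 1, 2, 3, 3, 0, 3, 0, 1, 2, 1, 2], 1, true),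
    ([1, 0, 3, 2, 3, 0, 3, 0, 3, 0, 3, 2, 1, 1, 0, 3, 0, 3, 2, 3, 2, 1, 1, 0, 3, 0, 3, 0, 3, 2, 1, 1, 0, 3, 2, 3, 2, 1, 1, 0, 3, 2, 3, 2, 3, 3, 0, 3, 0, 3, 2, 1, 2, 1, 1, 0, 3, 0, 1, 0, 1, 0, 3, 2, 1, 2, 2, 3, 2, 1, 2, 3, 2, 3, 2, 1, 2, 3, 3], 1, false),
    ([1, 0, 3, 2, 3, 0, 3, 0, 3, 0, 3, 2, 1, 1, 0, 3, 0, 3, 2, 3, 2, 1, 1, 0, 3, 0, 3, 0, 3, 2, 1, 1, 0, 3, 2, 3, 2, 1, 1, 0, 3, 2, 3, 2, 3, 3, 0, 3, 0, 3, 2, 1, 2, 1, 1, 0, 3, 0, 1, 0, 1, 0, 3, 2, 1, 2, 3, 3], 1, true),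
    ([1, 0, 3, 2, 3, 0, 3, 0, 3, 0, 3, 2, 1, 1, 0, 3, 0, 3, 2, 3, 2, 1, 1, 0, 3, 0, 3, 0, 3, 2, 1, 1, 0, 3, 2, 3, 2, 1, 1, 0, 3, 2, 3, 2, 3, 3, 0, 3, 0, 3, 2, 1, 2, 1, 1, 0, 3, 0, 1, 0, 1, 0, 3, 2, 1, 2, 3, 3, 3, 2, 3, 2, 1, 2, 3, 2, 3, 2, 1, 2, 1, 0, 3, 0, 1, 2, 1, 2, 3, 2, 1, 0], 0, true),
    ([1, 0, 3, 2, 3, 0, 3, 0, 3, 0, 3, 2, 1, 1, 0, 3, 0, 3, 2, 3, 2, 1, 1, 0, 3, 0, 3, 0, 3, 2, 1, 1, 0, 3, 2, 3, 2, 1, 1, 0, 3, 2, 3, 2, 3, 3, 0, 3, 0, 3, 2, 1, 2, 1, 1, 0, 3, 0, 1, 0, 1, 0, 3, 2, 1, 2, 3, 3, 3, 2, 3, 2, 1, 2, 3, 2, 3, 2, 1, 2, 1, 0, 3, 0, 1, 2, 1, 2, 3, 2, 1, 2, 1, 2, 3, 2, 1], 0, true),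
    ([1, 0, 3, 2, 3, 0, 3, 0, 3, 0, 3, 2, 1, 1, 0, 3, 0, 3, 2, 3, 2, 1, 1, 0, 3, 0, 3, 0, 3, 2, 1, 1, 0, 3, 2, 3, 2, 1, 1, 0, 3, 2, 3, 2, 3, 3, 0, 3, 0, 3, 2, 1, 2, 1, 1, 0, 3, 0, 1, 0, 1, 0, 3, 2, 1, 2, 3, 3, 3, 2, 3, 2, 1, 2, 3, 2, 3, 2, 1, 2, 1], 0, true),
    ([1, 0, 3, 2, 3, 0, 3, 0, 3, 0, 3, 2, 1, 1, 0, 3, 0, 3, 2, 3, 2, 1, 1, 0, 3, 0, 3, 0, 3, 2, 1, 1, 0, 3, 2, 3, 2, 1, 1, 0, 3, 2, 3, 2, 3, 3, 0, 3, 0, 3, 2, 1, 2, 1, 1, 0, 3, 0, 1, 0, 1, 0, 3, 2, 1, 2, 3, 3, 3, 2, 3, 2, 1, 2, 3, 2, 3, 2, 1, 2, 1, 2, 3, 0, 1, 2, 1, 2, 3, 2, 1, 2, 1, 2, 3, 2, 1, 2, 3, 0], 0, true),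
    ([1, 0, 3, 2, 3, 0, 3, 0, 3, 0, 3, 2, 1, 1, 0, 3, 0, 3, 2, 3, 2, 1, 1, 0, 3, 0, 3, 0, 3, 2, 1, 1, 0, 3, 2, 3, 2, 1, 1, 0, 3, 2, 3, 2, 3, 3, 0, 3, 0, 3, 2, 1, 2, 1, 1, 0, 3, 0, 1, 0, 1, 0, 3, 2, 1, 2, 3, 3, 3, 2, 3, 2, 1, 2, 3, 2, 3, 2, 1, 2, 1, 2, 3, 0], 0, true),
    ([1, 0, 3, 2, 3, 0, 3, 0, 3, 0, 3, 2, 1, 1, 0, 3, 0, 3, 2, 3, 2, 1, 1, 0, 3, 0, 3, 0, 3, 2, 1, 1, 0, 3, 2, 3, 2, 1, 1, 0, 3, 2, 3, 2, 3, 3, 0, 3, 0, 3, 2, 1, 2, 1, 1, 0, 3, 0, 1, 0, 1, 0, 3, 2, 1, 2, 3, 3, 0, 3, 0, 1, 0, 1, 0, 3, 0, 1, 0, 3, 0, 3, 0, 1, 0, 3, 0, 3, 0, 1, 0, 3, 0, 3], 6, false),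
    ([1, 0, 3, 2, 3, 0, 3, 0, 3, 0, 3, 2, 1, 1, 0, 3, 0], 0, true),
    ([1, 0, 3, 2, 3, 0, 3, 0, 3, 0, 3, 2, 1, 1, 0, 3, 2, 3, 2, 3, 2, 1, 1, 0, 3, 0, 3, 0, 3, 2, 1, 1, 0, 3, 2, 3, 2, 1, 1, 0, 3, 2, 3, 2, 3, 2, 3, 0, 3, 2, 1], 1, true),
    ([1, 0, 3, 2, 3, 0, 3, 0, 3, 0, 3, 2, 1, 1, 0, 3, 2, 3, 2, 3, 2, 1, 1, 0, 3, 0, 3, 0, 3, 2, 1, 1, 0, 3, 2, 3, 2, 1, 1, 0, 3, 2, 3, 2, 3, 2, 3, 0, 3, 2, 3], 0, true),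
    ([1, 0, 0, 1, 0, 1, 2, 1, 0, 1, 0, 1, 0, 1, 2, 3, 3, 0, 1, 0, 1, 2, 3, 3], 1, true),
    ([1, 0, 0, 1, 0, 1, 2, 1, 0, 1, 0, 1, 0, 1, 2, 3, 3, 0, 1, 0, 1, 2, 3, 3, 3, 0], 0, true),
    ([1, 0, 0, 1, 0, 1, 2, 1, 0, 1, 0, 1, 0, 1, 2, 3, 3, 0, 1, 0, 1, 2, 3, 3, 3, 2, 3, 2, 3, 2, 1, 1, 0, 3, 2, 3, 2, 3, 2, 3, 0, 3, 2, 3, 2, 3, 2, 3, 0, 3, 0, 3, 0, 3, 2, 1, 1, 0, 3, 2, 3, 2, 3, 2, 1, 1, 0, 3, 0, 3, 0], 0, true)] : List Step)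
  ++ ([([1, 0, 0, 1, 0, 1, 2, 1, 0, 1, 0, 1, 0, 1, 2, 3, 3, 0, 1, 0, 1, 2, 3, 3, 3, 2, 3, 2, 3, 2, 1, 1, 0, 3, 2, 3, 2, 3, 2, 3, 0], 0, true),
    ([1, 0, 0, 1, 0, 1, 2, 1, 0, 1, 0, 1, 0, 1, 2, 3, 3, 0, 1, 0, 1, 2, 3, 3, 3, 2, 3, 2, 3, 2, 1, 1, 0, 3, 2, 3, 2, 3, 2, 3, 2, 3, 2, 3, 2, 3, 2, 3, 0, 3, 0, 3, 0, 3, 2, 1, 1, 0, 3, 2, 3, 2, 3, 2, 1, 1, 0], 0, true),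
    ([1, 0, 0, 1, 0, 1, 2, 1, 0, 1, 0, 1, 0, 1, 2, 3, 3, 0, 1, 0, 1, 2, 3, 3, 3, 2, 3, 2, 3, 2, 1, 1, 0, 3, 2, 3, 2, 3, 2, 3, 2, 3, 2, 3, 2, 3, 2, 3, 0, 3, 0, 3, 0, 3, 2, 1, 1, 0, 3, 2, 3, 2, 3, 2, 1, 1, 2, 3], 0, true),
    ([1, 0, 0, 1, 0, 1, 2, 1, 0, 1, 0, 1, 0, 1, 2, 3, 3, 0, 1, 0, 1, 2, 3, 3, 3, 2, 3, 2, 3, 2, 1, 1, 0, 3, 2, 3, 2, 3, 2, 3, 2, 3, 2, 3, 2, 3, 2, 3], 0, true),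
    ([1, 0, 0, 1, 0, 1, 2, 1, 0, 1, 0, 1, 0, 1, 2, 3, 3, 0, 1, 0, 1, 2, 3, 3, 3, 2, 3, 2, 3, 2, 1, 1, 0, 3, 2, 3, 2, 3, 2, 3, 2, 3, 2, 3, 2, 3, 2, 3, 2, 3, 0, 3, 0, 3, 2, 1, 1, 0, 3, 2, 3, 2, 3, 2], 1, true),
    ([1, 0, 0, 1, 0, 1, 2, 1, 0, 1, 0, 1, 0, 1, 2, 3, 3, 0, 1, 0, 1, 2, 3, 3, 3, 2, 3, 2, 3, 2], 1, true),
    ([1, 0, 0, 1, 0, 1, 2, 1, 0, 1, 0, 1, 0, 1, 2, 3, 3, 0, 1, 0, 1, 2, 3, 3, 3, 2, 3, 2, 3, 2, 3, 0], 0, true),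
    ([1, 0, 0, 1, 0, 1, 2, 1, 0, 1, 0, 1, 0, 1, 2, 3, 3, 0, 1, 0, 1, 2, 3, 3, 3, 2, 3, 2, 3, 2, 3, 2, 3, 2, 3, 2, 3, 2, 3, 2, 3, 2, 3, 2, 3, 2, 3, 2, 3], 0, true),
    ([1, 0, 0, 1, 0, 1, 2, 1, 0, 1, 0, 1, 0, 1, 2, 3, 3, 0, 1, 0, 1, 2, 3, 3, 3, 2, 3, 2, 3, 2, 3, 2, 3, 2, 3, 2, 3, 2, 3, 2, 3, 2, 3, 2, 3, 2, 3, 2, 3, 2, 3, 0], 0, true),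
    ([1, 0, 0, 1, 0, 1, 2, 1, 0, 1, 0, 1, 0, 1, 2, 3, 3, 0, 1, 0, 1, 2, 3, 3, 3, 2, 3, 2, 3, 2, 3, 2, 3, 2, 3, 2, 3, 2, 3, 2, 3, 2, 3, 2, 3, 2, 3, 2, 3, 2, 3, 2, 3, 2, 1, 1], 0, true),
    ([1, 0, 0, 1, 0, 1, 2, 1, 0, 1, 0, 1, 0, 1, 2, 3, 3, 0, 1, 0, 1, 2, 3, 3, 3, 2, 3, 2, 3, 2, 3, 2, 3, 2, 3, 2, 3, 2, 3, 2, 3, 2, 3, 2, 3, 2, 3, 2, 3, 2, 3, 2, 3, 2, 1, 1], 1, true),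
    ([1, 0, 0, 1, 0, 1, 2, 1, 0, 1, 0, 1, 0, 1, 2, 3, 3, 0, 1, 0, 1, 2, 3, 3, 0, 1, 0, 1, 0, 1, 0, 1, 0, 1, 0, 1, 0, 1, 0, 1, 0, 1, 0, 1, 0, 1, 0, 1, 0, 1, 0, 1, 0, 1, 0, 1], 2, false)] : List Step)

/-- A derivation. -/
def sixDeriv17 : List Step :=
  ([([1, 0, 3, 2, 3, 0, 1, 0, 3, 0, 3, 0, 1, 2, 1, 2, 1, 2, 3, 3, 0, 3, 0, 3, 2, 1, 2, 1, 1, 0, 3, 0, 1, 0, 1, 2, 3, 2, 1, 2, 3, 3, 0, 3, 0, 1, 2, 1, 2, 1, 1, 0, 3, 0, 3, 0, 1, 2, 1, 2, 1, 2, 3, 3, 0, 3, 0, 3, 2, 1, 2, 1, 1, 0, 3, 0, 1, 0, 1, 2, 3, 2, 1, 2, 3, 3, 0, 3, 0, 1, 2, 1, 2, 1, 1, 0, 1, 0, 3, 2, 3, 2, 3, 3, 0, 3, 0, 3, 2, 1, 2, 1, 1, 0, 3, 0, 1, 0, 1, 0, 3, 2, 1, 2, 3, 3, 0, 3,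 0, 1, 0, 1, 0, 3, 0, 1, 0, 3, 0, 3, 0, 1, 0, 3, 0, 3, 0, 1, 0, 3, 0, 3], 6, true),
    ([1, 0, 3, 2, 3, 0, 1, 0, 3, 0, 3, 0, 1, 2, 1, 2, 1, 2, 3, 3, 0, 3, 0, 3, 2, 1, 2, 1, 1, 0, 3, 0, 1, 0, 1, 2, 3, 2, 1, 2, 3, 3, 0, 3, 0, 1, 2, 1, 2, 1, 1, 0, 3, 0, 3, 0, 1, 2, 1, 2, 1, 2, 3, 3, 0, 3, 0, 3, 2, 1, 2, 1, 1, 0, 3, 0, 1, 0, 1, 2, 3, 2, 1, 2, 3, 3, 0, 3, 0, 1, 2, 1, 2, 1, 1, 0, 1, 0, 3, 2, 3, 2, 3, 3, 0, 3, 0, 3, 2, 1, 2, 1, 1, 0, 3, 0, 1, 0, 1, 0, 3, 2, 1, 2, 3, 3, 3, 2, 3, 2, 1, 2, 3, 2, 3, 2, 1, 2, 1, 2, 3, 0], 0, false),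
    ([1, 0, 3, 2, 3, 0, 1, 0, 3, 0, 3, 0, 1, 2, 1, 2, 1, 2, 3, 3, 0, 3, 0, 3, 2, 1, 2, 1, 1, 0, 3, 0, 1, 0, 1, 2, 3, 2, 1, 2, 3, 3, 0, 3, 0, 1, 2, 1, 2, 1, 1, 0, 3, 0, 3, 0, 1, 2, 1, 2, 1, 2, 3, 3, 0, 3, 0, 3, 2, 1, 2, 1, 1, 0, 3, 0, 1, 0, 1, 2, 3, 2, 1, 2, 3, 3, 0, 3, 0, 1, 2, 1, 2, 1, 1, 0, 1, 0, 3, 2, 3, 2, 3, 3, 0, 3, 0, 3, 2, 1, 2, 1, 1, 0, 3, 0, 1, 0, 1, 0, 3, 2, 1, 2, 3, 3, 3, 2, 3, 2, 1, 2, 3, 2, 3, 2, 1, 2, 1, 2, 3, 0, 1, 2, 1, 2, 3, 2, 1, 2, 1, 2, 3, 2, 1, 2, 3, 0], 0, false),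
    ([1, 0, 3, 2, 3, 0, 1, 0, 3, 0, 3, 0, 1, 2, 1, 2, 1, 2, 3, 3, 0, 3, 0, 3, 2, 1, 2, 1, 1, 0, 3, 0, 1, 0, 1, 2, 3, 2, 1, 2, 3, 3, 0, 3, 0, 1, 2, 1, 2, 1, 1, 0, 3, 0, 3, 0, 1, 2, 1, 2, 1, 2, 3, 3, 0, 3, 0, 3, 2, 1, 2, 1, 1, 0, 3, 0, 1, 0, 1, 2, 3, 2, 1, 2, 3, 3, 0, 3, 0, 1, 2, 1, 2, 1, 1, 0, 1, 0, 3, 2, 3, 2, 3, 3, 0, 3, 0, 3, 2, 1, 2, 1, 1, 0, 3, 0, 1, 0, 1, 0, 3, 2, 1, 2, 3, 3, 3, 2, 3, 2, 1, 2, 3, 2, 3, 2, 1, 2, 1], 0, false),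
    ([1, 0, 3, 2, 3, 0, 1, 0, 3, 0, 3, 0, 1, 2, 1, 2, 1, 2, 3, 3, 0, 3, 0, 3, 2, 1, 2, 1, 1, 0, 3, 0, 1, 0, 1, 2, 3, 2, 1, 2, 3, 3, 0, 3, 0, 1, 2, 1, 2, 1, 1, 0, 3, 0, 3, 0, 1, 2, 1, 2, 1, 2, 3, 3, 0, 3, 0, 3, 2, 1, 2, 1, 1, 0, 3, 0, 1, 0, 1, 2, 3, 2, 1, 2, 3, 3, 0, 3, 0, 1, 2, 1, 2, 1, 1, 0, 1, 0, 3, 2, 3, 2, 3, 3, 0, 3, 0, 3, 2, 1, 2, 1, 1, 0, 3, 0, 1, 0, 1, 0, 3, 2, 1, 2, 3, 3, 3, 2, 3, 2, 1, 2, 3, 2, 3, 2, 1, 2, 1, 0, 3, 0, 1, 2, 1, 2, 3, 2, 1, 2, 1, 2, 3, 2, 1], 0, false),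
    ([1, 0, 3, 2, 3, 0, 1, 0, 3, 0, 3, 0, 1, 2, 1, 2, 1, 2, 3, 3, 0, 3, 0, 3, 2, 1, 2, 1, 1, 0, 3, 0, 1, 0, 1, 2, 3, 2, 1, 2, 3, 3, 0, 3, 0, 1, 2, 1, 2, 1, 1, 0, 3, 0, 3, 0, 1, 2, 1, 2, 1, 2, 3, 3, 0, 3, 0, 3, 2, 1, 2, 1, 1, 0, 3, 0, 1, 0, 1, 2, 3, 2, 1, 2, 3, 3, 0, 3, 0, 1, 2, 1, 2, 1, 1, 0, 1, 0, 3, 2, 3, 2, 3, 3, 0, 3, 0, 3, 2, 1, 2, 1, 1, 0, 3, 0, 1, 0, 1, 0, 3, 2, 1, 2, 3, 3, 3, 2, 3, 2, 1, 2, 3, 2, 3, 2, 1, 2, 1, 0, 3, 0, 1, 2, 1, 2, 3, 2, 1, 0], 0, false),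
    ([1, 0, 3, 2, 3, 0, 1, 0, 3, 0, 3, 0, 1, 2, 1, 2, 1, 2, 3, 3, 0, 3, 0, 3, 2, 1, 2, 1, 1, 0, 3, 0, 1, 0, 1, 2, 3, 2, 1, 2, 3, 3, 0, 3, 0, 1, 2, 1, 2, 1, 1, 0, 3, 0, 3, 0, 1, 2, 1, 2, 1, 2, 3, 3, 0, 3, 0, 3, 2, 1, 2, 1, 1, 0, 3, 0, 1, 0, 1, 2, 3, 2, 1, 2, 3, 3, 0, 3, 0, 1, 2, 1, 2, 1, 1, 0, 1, 0, 3, 2, 3, 2, 3, 3, 0, 3, 0, 3, 2, 1, 2, 1, 1, 0, 3, 0, 1, 0, 1, 0, 3, 2, 1, 2, 3, 3], 1, false),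
    ([1, 0, 3, 2, 3, 0, 1, 0, 3, 0, 3, 0, 1, 2, 1, 2, 1, 2, 3, 3, 0, 3, 0, 3, 2, 1, 2, 1, 1, 0, 3, 0, 1, 0, 1, 2, 3, 2, 1, 2, 3, 3, 0, 3, 0, 1, 2, 1, 2, 1, 1, 0, 3, 0, 3, 0, 1, 2, 1, 2, 1, 2, 3, 3, 0, 3, 0, 3, 2, 1, 2, 1, 1, 0, 3, 0, 1, 0, 1, 2, 3, 2, 1, 2, 3, 3, 0, 3, 0, 1, 2, 1, 2, 1, 1, 0, 1, 0, 3, 2, 3, 2, 3, 3, 0, 3, 0, 3, 2, 1, 2, 1, 1, 0, 3, 0, 1, 0, 1, 0, 3, 2, 1, 2, 2, 3, 2, 1, 2, 3, 2, 3, 2, 1, 2, 3, 3], 1, true),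
    ([1, 0, 3, 2, 3, 0, 1, 0, 3, 0, 3, 0, 1, 2, 1, 2, 1, 2, 3, 3, 0, 3, 0, 3, 2, 1, 2, 1, 1, 0, 3, 0, 1, 0, 1, 2, 3, 2, 1, 2, 3, 3, 0, 3, 0, 1, 2, 1, 2, 1, 1, 0, 3, 0, 3, 0, 1, 2, 1, 2, 1, 2, 3, 3, 0, 3, 0, 3, 2, 1, 2, 1, 1, 0, 3, 0, 1, 0, 1, 2, 3, 2, 1, 2, 3, 3, 0, 3, 0, 1, 2, 1, 2, 1, 1, 0, 1, 0, 3, 2, 3, 2, 3, 3, 0, 3, 0, 3, 2, 1, 2, 1, 1, 0, 3, 0, 1, 0, 1, 0, 3, 2, 1, 2, 2, 3, 2, 1, 2, 3, 2, 3, 2, 1, 2, 3, 3, 0, 3, 0, 1, 2, 1, 2], 1, false),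
    ([1, 0, 3, 2, 3, 0, 1, 0, 3, 0, 3, 0, 1, 2, 1, 2, 1, 2, 3, 3, 0, 3, 0, 3, 2, 1, 2, 1, 1, 0, 3, 0, 1, 0, 1, 2, 3, 2, 1, 2, 3, 3, 0, 3, 0, 1, 2, 1, 2, 1, 1, 0, 3, 0, 3, 0, 1, 2, 1, 2, 1, 2, 3, 3, 0, 3, 0, 3, 2, 1, 2, 1, 1, 0, 3, 0, 1, 0, 1, 2, 3, 2, 1, 2, 3, 3, 0, 3, 0, 1, 2, 1, 2, 1, 1, 0, 1, 0, 3, 2, 3, 2, 3, 3, 0, 3, 0, 3, 2, 1, 2, 1, 1, 0, 3, 0, 1, 0, 1, 0, 3, 2, 1, 2, 2, 3, 2, 1, 2, 3, 2, 3, 2, 1, 2, 3, 3, 0, 3, 0, 1, 2, 1, 2, 1, 1, 2, 1, 0, 1, 2, 3, 2, 3, 3], 1, true),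
    ([1, 0, 3, 2, 3, 0, 1, 0, 3, 0, 3, 0, 1, 2, 1, 2, 1, 2, 3, 3, 0, 3, 0, 3, 2, 1, 2, 1, 1, 0, 3, 0, 1, 0, 1, 2, 3, 2, 1, 2, 3, 3, 0, 3, 0, 1, 2, 1, 2, 1, 1, 0, 3, 0, 3, 0, 1, 2, 1, 2, 1, 2, 3, 3, 0, 3, 0, 3, 2, 1, 2, 1, 1, 0, 3, 0, 1, 0, 1, 2, 3, 2, 1, 2, 3, 3, 0, 3, 0, 1, 2, 1, 2, 1, 1, 0, 1, 0, 3, 2, 3, 2, 3, 3, 0, 3, 0, 3, 2, 1, 2, 1, 1, 0, 3, 0, 1, 0, 1, 0, 3, 2, 1, 2, 2, 3], 0, false),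
    ([1, 0, 3, 2, 3, 0, 1, 0, 3, 0, 3, 0, 1, 2, 1, 2, 1, 2, 3, 3, 0, 3, 0, 3, 2, 1, 2, 1, 1, 0, 3, 0, 1, 0, 1, 2, 3, 2, 1, 2, 3, 3, 0, 3, 0, 1, 2, 1, 2, 1, 1, 0, 3, 0, 3, 0, 1, 2, 1, 2, 1, 2, 3, 3, 0, 3, 0, 3, 2, 1, 2, 1, 1, 0, 3, 0, 1, 0, 1, 2, 3, 2, 1, 2, 3, 3, 0, 3, 0, 1, 2, 1, 2, 1, 1, 0, 1, 0, 3, 2, 3, 2, 3, 3, 0, 3, 0, 3, 2, 1, 2, 1, 1, 0, 3, 0, 1, 0, 1, 0, 3, 2, 1], 0, false),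
    ([1, 0, 3, 2, 3, 0, 1, 0, 3, 0, 3, 0, 1, 2, 1, 2, 1, 2, 3, 3, 0, 3, 0, 3, 2, 1, 2, 1, 1, 0, 3, 0, 1, 0, 1, 2, 3, 2, 1, 2, 3, 3, 0, 3, 0, 1, 2, 1, 2, 1, 1, 0, 3, 0, 3, 0, 1, 2, 1, 2, 1, 2, 3, 3, 0, 3, 0, 3, 2, 1, 2, 1, 1, 0, 3, 0, 1, 0, 1, 2, 3, 2, 1, 2, 3, 3, 0, 3, 0, 1, 2, 1, 2, 1, 1, 0, 1, 0, 3, 2, 3], 0, false),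
    ([1, 0, 3, 2, 3, 0, 1, 0, 3, 0, 3, 0, 1, 2, 1, 2, 1, 2, 3, 3, 0, 3, 0, 3, 2, 1, 2, 1, 1, 0, 3, 0, 1, 0, 1, 2, 3, 2, 1, 2, 3, 3, 0, 3, 0, 1, 2, 1, 2, 1, 1, 0, 3, 0, 3, 0, 1, 2, 1, 2, 1, 2, 3, 3, 0, 3, 0, 3, 2, 1, 2, 1, 1, 0, 3, 0, 1, 0, 1], 0, false),
    ([1, 0, 3, 2, 3, 0, 1, 0, 3, 0, 3, 0, 1, 2, 1, 2, 1, 2, 3, 3, 0, 3, 0, 3, 2, 1, 2, 1, 1, 0, 3, 0, 1, 0, 1, 2, 3, 2, 1, 2, 3, 3, 0, 3, 0, 1, 2, 1, 2, 1, 1, 0, 1, 0, 3, 2, 3, 2, 3, 3, 0, 3, 0, 3, 2, 1, 2, 1, 1, 0, 3, 0, 1, 0, 1, 0, 3, 2, 1, 2, 3, 3, 0, 3, 0, 1, 0, 1, 0, 3, 0, 1, 0, 3, 0, 3, 0, 1, 0, 3, 0, 3, 0, 1, 0, 3, 0, 3], 6, true),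
    ([1, 0, 3, 2, 3, 0, 1, 0, 3, 0, 3, 0, 1, 2, 1, 2, 1, 2, 3, 3, 0, 3, 0, 3, 2, 1, 2, 1, 1, 0, 3, 0, 1, 0, 1, 2, 3, 2, 1, 2, 3, 3, 0, 3, 0, 1, 2, 1, 2, 1, 1, 0, 1, 0, 3, 2, 3, 2, 3, 3, 0, 3, 0, 3, 2, 1, 2, 1, 1, 0, 3, 0, 1, 0, 1, 0, 3, 2, 1, 2, 3, 3, 3, 2, 3, 2, 1, 2, 3, 2, 3, 2, 1, 2, 1, 2, 3, 0], 0, false),
    ([1, 0, 3, 2, 3, 0, 1, 0, 3, 0, 3, 0, 1, 2, 1, 2, 1, 2, 3, 3, 0, 3, 0, 3, 2, 1, 2, 1, 1, 0, 3, 0, 1, 0, 1, 2, 3, 2, 1, 2, 3, 3, 0, 3, 0, 1, 2, 1, 2, 1, 1, 0, 1, 0, 3, 2, 3, 2, 3, 3, 0, 3, 0, 3, 2, 1, 2, 1, 1, 0, 3, 0, 1, 0, 1, 0, 3, 2, 1, 2, 3, 3, 3, 2, 3, 2, 1, 2, 3, 2, 3, 2, 1, 2, 1, 2, 3, 0, 1, 2, 1, 2, 3, 2, 1, 2, 1, 2,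 3, 2, 1, 2, 3, 0], 0, false),
    ([1, 0, 3, 2, 3, 0, 1, 0, 3, 0, 3, 0, 1, 2, 1, 2, 1, 2, 3, 3, 0, 3, 0, 3, 2, 1, 2, 1, 1, 0, 3, 0, 1, 0, 1, 2, 3, 2, 1, 2, 3, 3, 0, 3, 0, 1, 2, 1, 2, 1, 1, 0, 1, 0, 3, 2, 3, 2, 3, 3, 0, 3, 0, 3, 2, 1, 2, 1, 1, 0, 3, 0, 1, 0, 1, 0, 3, 2, 1, 2, 3, 3, 3, 2, 3, 2, 1, 2, 3, 2, 3, 2, 1, 2, 1], 0, false),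
    ([1, 0, 3, 2, 3, 0, 1, 0, 3, 0, 3, 0, 1, 2, 1, 2, 1, 2, 3, 3, 0, 3, 0, 3, 2, 1, 2, 1, 1, 0, 3, 0, 1, 0, 1, 2, 3, 2, 1, 2, 3, 3, 0, 3, 0, 1, 2, 1, 2, 1, 1, 0, 1, 0, 3, 2, 3, 2, 3, 3, 0, 3, 0, 3, 2, 1, 2, 1, 1, 0, 3, 0, 1, 0, 1, 0, 3, 2, 1, 2, 3, 3, 3, 2, 3, 2, 1, 2, 3, 2, 3, 2, 1, 2, 1, 0, 3, 0, 1, 2, 1, 2, 3, 2, 1, 2, 1, 2, 3, 2, 1], 0, false),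
    ([1, 0, 3, 2, 3, 0, 1, 0, 3, 0, 3, 0, 1, 2, 1, 2, 1, 2, 3, 3, 0, 3, 0, 3, 2, 1, 2, 1, 1, 0, 3, 0, 1, 0, 1, 2, 3, 2, 1, 2, 3, 3, 0, 3, 0, 1, 2, 1, 2, 1, 1, 0, 1, 0, 3, 2, 3, 2, 3, 3, 0, 3, 0, 3, 2, 1, 2, 1, 1, 0, 3, 0, 1, 0, 1, 0, 3, 2, 1, 2, 3, 3, 3, 2, 3, 2, 1, 2, 3, 2, 3, 2, 1, 2, 1, 0, 3, 0, 1, 2, 1, 2, 3, 2, 1, 0], 0, false)] : List Step)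
  ++ ([([1, 0, 3, 2, 3, 0, 1, 0, 3, 0, 3, 0, 1, 2, 1, 2, 1, 2, 3, 3, 0, 3, 0, 3, 2, 1, 2, 1, 1, 0, 3, 0, 1, 0, 1, 2, 3, 2, 1, 2, 3, 3, 0, 3, 0, 1, 2, 1, 2, 1, 1, 0, 1, 0, 3, 2, 3, 2, 3, 3, 0, 3, 0, 3, 2, 1, 2, 1, 1, 0, 3, 0, 1, 0, 1, 0, 3, 2, 1, 2, 3, 3], 1, false),
    ([1, 0, 3, 2, 3, 0, 1, 0, 3, 0, 3, 0, 1, 2, 1, 2, 1, 2, 3, 3, 0, 3, 0, 3, 2, 1, 2, 1, 1, 0, 3, 0, 1, 0, 1, 2, 3, 2, 1, 2, 3, 3, 0, 3, 0, 1, 2, 1, 2, 1, 1, 0, 1, 0, 3, 2, 3, 2, 3, 3, 0, 3, 0, 3, 2, 1, 2, 1, 1, 0, 3, 0, 1, 0, 1, 0, 3, 2, 1, 2, 2, 3, 2, 1, 2, 3, 2, 3, 2, 1, 2, 3, 3], 1, true),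
    ([1, 0, 3, 2, 3, 0, 1, 0, 3, 0, 3, 0, 1, 2, 1, 2, 1, 2, 3, 3, 0, 3, 0, 3, 2, 1, 2, 1, 1, 0, 3, 0, 1, 0, 1, 2, 3, 2, 1, 2, 3, 3, 0, 3, 0, 1, 2, 1, 2, 1, 1, 0, 1, 0, 3, 2, 3, 2, 3, 3, 0, 3, 0, 3, 2, 1, 2, 1, 1, 0, 3, 0, 1, 0, 1, 0, 3, 2, 1, 2, 2, 3, 2, 1, 2, 3, 2, 3, 2, 1, 2, 3, 3, 0, 3, 0, 1, 2, 1, 2], 1, false),
    ([1, 0, 3, 2, 3, 0, 1, 0, 3, 0, 3, 0, 1, 2, 1, 2, 1, 2, 3, 3, 0, 3, 0, 3, 2, 1, 2, 1, 1, 0, 3, 0, 1, 0, 1, 2, 3, 2, 1, 2, 3, 3, 0, 3, 0, 1, 2, 1, 2, 1, 1, 0, 1, 0, 3, 2, 3, 2, 3, 3, 0, 3, 0, 3, 2, 1, 2, 1, 1, 0, 3, 0, 1, 0, 1, 0, 3, 2, 1, 2, 2, 3, 2, 1, 2, 3, 2, 3, 2, 1, 2, 3, 3, 0, 3, 0, 1, 2, 1, 2, 1, 1, 2, 1, 0, 1,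 2, 3, 2, 3, 3], 1, true),
    ([1, 0, 3, 2, 3, 0, 1, 0, 3, 0, 3, 0, 1, 2, 1, 2, 1, 2, 3, 3, 0, 3, 0, 3, 2, 1, 2, 1, 1, 0, 3, 0, 1, 0, 1, 2, 3, 2, 1, 2, 3, 3, 0, 3, 0, 1, 2, 1, 2, 1, 1, 0, 1, 0, 3, 2, 3, 2, 3, 3, 0, 3, 0, 3, 2, 1, 2, 1, 1, 0, 3, 0, 1, 0, 1, 0, 3, 2, 1, 2, 2, 3], 0, false),
    ([1, 0, 3, 2, 3, 0, 1, 0, 3, 0, 3, 0, 1, 2, 1, 2, 1, 2, 3, 3, 0, 3, 0, 3, 2, 1, 2, 1, 1, 0, 3, 0, 1, 0, 1, 2, 3, 2, 1, 2, 3, 3, 0, 3, 0, 1, 2, 1, 2, 1, 1, 0, 1, 0, 3, 2, 3, 2, 3, 3, 0, 3, 0, 3, 2, 1, 2, 1, 1, 0, 3, 0, 1, 0, 1, 0, 3, 2, 1], 0, false),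
    ([1, 0, 3, 2, 3, 0, 1, 0, 3, 0, 3, 0, 1, 2, 1, 2, 1, 2, 3, 3, 0, 3, 0, 3, 2, 1, 2, 1, 1, 0, 3, 0, 1, 0, 1, 2, 3, 2, 1, 2, 3, 3, 0, 3, 0, 1, 2, 1, 2, 1, 1, 0, 1, 0, 3, 2, 3], 0, false),
    ([1, 0, 3, 2, 3, 0, 1, 0, 3, 0, 3, 0, 1, 2, 1, 2, 1, 2, 3, 3, 0, 3, 0, 3, 2, 1, 2, 1, 1, 0, 3, 0, 1, 0, 1], 0, false),
    ([1, 0, 3, 2, 3, 0, 1, 0, 3, 0, 3, 0, 1, 2, 1, 2, 1, 1, 0, 1, 2, 3, 3, 0, 3, 0, 1, 2, 1, 2, 1, 1, 0, 1, 2, 3, 2, 3, 2, 1], 0, true),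
    ([1, 0, 3, 2, 3, 0, 1, 0, 3, 0, 3, 0, 1, 2, 1, 2, 1, 1, 0, 1, 2, 3, 3, 0, 3, 0], 0, true),
    ([1, 0, 3, 2, 3, 0, 1, 0, 3, 0, 3, 0], 0, true),
    ([1, 0, 3, 2, 3, 0, 1, 0], 0, true),
    ([1, 0, 3, 2, 3, 0, 1, 2, 3, 0, 3, 2, 1, 2, 1, 2, 1, 1, 0, 1, 2, 3, 3], 0, true),
    ([1, 0, 3, 2, 3, 0, 1, 2, 3], 0, true),
    ([1, 0, 3, 2, 3], 0, true),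
    ([1, 0, 3, 2, 3, 2, 1, 2, 3, 2, 3, 2, 1, 2, 1, 2, 1, 1, 0, 1, 2, 3, 3, 2, 3, 2, 1, 2, 1, 2], 1, true),
    ([1, 0, 3, 2, 3, 2, 1, 2, 3, 2, 3, 2, 1, 2, 1, 2, 1, 1, 0, 1, 2, 3, 3], 1, false),
    ([1, 0, 3, 2, 3, 2, 1, 2, 3, 2, 3, 2, 1, 2, 1, 2], 1, true),
    ([1, 0, 3, 2, 3, 2, 1, 2, 3, 2, 3, 2, 1, 2, 1, 2, 3, 0, 1, 2, 1, 2, 3, 2, 1, 2, 1, 2, 3, 0], 0, true),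
    ([1, 0, 3, 2, 3, 2, 1, 2, 3, 2, 3, 2, 1, 2, 1, 2, 3, 0], 0, true)] : List Step)
  ++ ([([1, 0, 0, 3, 0, 1, 0, 1, 0, 3, 0, 1, 0, 3, 0, 3, 0, 1, 0, 3, 0, 3, 0, 1, 0, 3, 0, 3], 6, false)] : List Step)

/-- A derivation. -/
def sixDeriv18 : List Step :=
  ([([1, 0, 3, 2, 3, 0, 3, 0, 3, 0, 3, 2, 1, 2, 1, 1, 0, 3, 0, 1, 0, 3, 2, 3, 2, 1, 2, 3, 3, 0, 3, 0, 1, 2, 1, 2, 1, 1, 0, 3, 0, 1, 0, 3, 2, 3, 3, 0, 1, 2, 1, 1, 0, 1, 2, 3, 2, 1, 2, 3, 3, 0, 3, 0, 3, 2, 1, 2, 1, 1, 0, 3, 0, 1, 0, 1, 2, 3, 2, 1, 2, 3, 3, 0, 3, 0, 1, 2, 1, 2, 1, 1, 0, 1, 0, 3, 2, 3, 2, 3, 3, 0, 3, 0, 3, 2, 1, 2, 1, 1, 0, 3, 0, 1, 0, 1, 0, 3, 2, 1, 2, 3, 3, 0, 3, 0, 1,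 0, 1, 0, 3, 0, 1, 0, 3, 0, 3, 0, 1, 0, 3, 0, 3, 0, 1, 0, 3, 0, 3], 6, true),
    ([1, 0, 3, 2, 3, 0, 3, 0, 3, 0, 3, 2, 1, 2, 1, 1, 0, 3, 0, 1, 0, 3, 2, 3, 2, 1, 2, 3, 3, 0, 3, 0, 1, 2, 1, 2, 1, 1, 0, 3, 0, 1, 0, 3, 2, 3, 3, 0, 1, 2, 1, 1, 0, 1, 2, 3, 2, 1, 2, 3, 3, 0, 3, 0, 3, 2, 1, 2, 1, 1, 0, 3, 0, 1, 0, 1, 2, 3, 2, 1, 2, 3, 3, 0, 3, 0, 1, 2, 1, 2, 1, 1, 0, 1, 0, 3, 2, 3, 2, 3, 3, 0, 3, 0, 3, 2, 1, 2, 1, 1, 0, 3, 0, 1, 0, 1, 0, 3, 2, 1, 2, 3, 3, 3, 2, 3, 2, 1, 2, 3, 2, 3, 2, 1, 2, 1, 2, 3, 0], 0, false),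
    ([1, 0, 3, 2, 3, 0, 3, 0, 3, 0, 3, 2, 1, 2, 1, 1, 0, 3, 0, 1, 0, 3, 2, 3, 2, 1, 2, 3, 3, 0, 3, 0, 1, 2, 1, 2, 1, 1, 0, 3, 0, 1, 0, 3, 2, 3, 3, 0, 1, 2, 1, 1, 0, 1, 2, 3, 2, 1, 2, 3, 3, 0, 3, 0, 3, 2, 1, 2, 1, 1, 0, 3, 0, 1, 0, 1, 2, 3, 2, 1, 2, 3, 3, 0, 3, 0, 1, 2, 1, 2, 1, 1, 0, 1, 0, 3, 2, 3, 2, 3, 3, 0, 3, 0, 3, 2, 1, 2, 1, 1, 0, 3, 0, 1, 0, 1, 0, 3, 2, 1, 2, 3, 3, 3, 2, 3, 2, 1, 2, 3, 2, 3, 2, 1, 2, 1, 2, 3, 0, 1, 2, 1, 2, 3, 2, 1, 2, 1, 2, 3, 2, 1, 2, 3, 0], 0, false),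
    ([1, 0, 3, 2, 3, 0, 3, 0, 3, 0, 3, 2, 1, 2, 1, 1, 0, 3, 0, 1, 0, 3, 2, 3, 2, 1, 2, 3, 3, 0, 3, 0, 1, 2, 1, 2, 1, 1, 0, 3, 0, 1, 0, 3, 2, 3, 3, 0, 1, 2, 1, 1, 0, 1, 2, 3, 2, 1, 2, 3, 3, 0, 3, 0, 3, 2, 1, 2, 1, 1, 0, 3, 0, 1, 0, 1, 2, 3, 2, 1, 2, 3, 3, 0, 3, 0, 1, 2, 1, 2, 1, 1, 0, 1, 0, 3, 2, 3, 2, 3, 3, 0, 3, 0, 3, 2, 1, 2, 1, 1, 0, 3, 0, 1, 0, 1, 0, 3, 2, 1, 2, 3, 3, 3, 2, 3, 2, 1, 2, 3, 2, 3, 2, 1, 2, 1], 0, false),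
    ([1, 0, 3, 2, 3, 0, 3, 0, 3, 0, 3, 2, 1, 2, 1, 1, 0, 3, 0, 1, 0, 3, 2, 3, 2, 1, 2, 3, 3, 0, 3, 0, 1, 2, 1, 2, 1, 1, 0, 3, 0, 1, 0, 3, 2, 3, 3, 0, 1, 2, 1, 1, 0, 1, 2, 3, 2, 1, 2, 3, 3, 0, 3, 0, 3, 2, 1, 2, 1, 1, 0, 3, 0, 1, 0, 1, 2, 3, 2, 1, 2, 3, 3, 0, 3, 0, 1, 2, 1, 2, 1, 1, 0, 1, 0, 3, 2, 3, 2, 3, 3, 0, 3, 0, 3, 2, 1, 2, 1, 1, 0, 3, 0, 1, 0, 1, 0, 3, 2, 1, 2, 3, 3, 3, 2, 3, 2, 1, 2, 3, 2, 3, 2, 1, 2, 1, 0, 3, 0, 1, 2, 1, 2, 3, 2, 1, 2, 1, 2, 3, 2, 1], 0, false),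
    ([1, 0, 3, 2, 3, 0, 3, 0, 3, 0, 3, 2, 1, 2, 1, 1, 0, 3, 0, 1, 0, 3, 2, 3, 2, 1, 2, 3, 3, 0, 3, 0, 1, 2, 1, 2, 1, 1, 0, 3, 0, 1, 0, 3, 2, 3, 3, 0, 1, 2, 1, 1, 0, 1, 2, 3, 2, 1, 2, 3, 3, 0, 3, 0, 3, 2, 1, 2, 1, 1, 0, 3, 0, 1, 0, 1, 2, 3, 2, 1, 2, 3, 3, 0, 3, 0, 1, 2, 1, 2, 1, 1, 0, 1, 0, 3, 2, 3, 2, 3, 3, 0, 3, 0, 3, 2, 1, 2, 1, 1, 0, 3, 0, 1, 0, 1, 0, 3, 2, 1, 2, 3, 3, 3, 2, 3, 2, 1, 2, 3, 2, 3, 2, 1, 2, 1, 0, 3, 0, 1, 2, 1, 2, 3, 2, 1, 0], 0, false),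
    ([1, 0, 3, 2, 3, 0, 3, 0, 3, 0, 3, 2, 1, 2, 1, 1, 0, 3, 0, 1, 0, 3, 2, 3, 2, 1, 2, 3, 3, 0, 3, 0, 1, 2, 1, 2, 1, 1, 0, 3, 0, 1, 0, 3, 2, 3, 3, 0, 1, 2, 1, 1, 0, 1, 2, 3, 2, 1, 2, 3, 3, 0, 3, 0, 3, 2, 1, 2, 1, 1, 0, 3, 0, 1, 0, 1, 2, 3, 2, 1, 2, 3, 3, 0, 3, 0, 1, 2, 1, 2, 1, 1, 0, 1, 0, 3, 2, 3, 2, 3, 3, 0, 3, 0, 3, 2, 1, 2, 1, 1, 0, 3, 0, 1, 0, 1, 0, 3, 2, 1, 2, 3, 3], 1, false),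
    ([1, 0, 3, 2, 3, 0, 3, 0, 3, 0, 3, 2, 1, 2, 1, 1, 0, 3, 0, 1, 0, 3, 2, 3, 2, 1, 2, 3, 3, 0, 3, 0, 1, 2, 1, 2, 1, 1, 0, 3, 0, 1, 0, 3, 2, 3, 3, 0, 1, 2, 1, 1, 0, 1, 2, 3, 2, 1, 2, 3, 3, 0, 3, 0, 3, 2, 1, 2, 1, 1, 0, 3, 0, 1, 0, 1, 2, 3, 2, 1, 2, 3, 3, 0, 3, 0, 1, 2, 1, 2, 1, 1, 0, 1, 0, 3, 2, 3, 2, 3, 3, 0, 3, 0, 3, 2, 1, 2, 1, 1, 0, 3, 0, 1, 0, 1, 0, 3, 2, 1, 2, 2, 3, 2, 1, 2, 3, 2, 3, 2, 1, 2, 3, 3], 1, true),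
    ([1, 0, 3, 2, 3, 0, 3, 0, 3, 0, 3, 2, 1, 2, 1, 1, 0, 3, 0, 1, 0, 3, 2, 3, 2, 1, 2, 3, 3, 0, 3, 0, 1, 2, 1, 2, 1, 1, 0, 3, 0, 1, 0, 3, 2, 3, 3, 0, 1, 2, 1, 1, 0, 1, 2, 3, 2, 1, 2, 3, 3, 0, 3, 0, 3, 2, 1, 2, 1, 1, 0, 3, 0, 1, 0, 1, 2, 3, 2, 1, 2, 3, 3, 0, 3, 0, 1, 2, 1, 2, 1, 1, 0, 1, 0, 3, 2, 3, 2, 3, 3, 0, 3, 0, 3, 2, 1, 2, 1, 1, 0, 3, 0, 1, 0, 1, 0, 3, 2, 1, 2, 2, 3, 2, 1, 2, 3, 2, 3, 2, 1, 2, 3, 3, 0, 3, 0, 1, 2, 1, 2], 1, false),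
    ([1, 0, 3, 2, 3, 0, 3, 0, 3, 0, 3, 2, 1, 2, 1, 1, 0, 3, 0, 1, 0, 3, 2, 3, 2, 1, 2, 3, 3, 0, 3, 0, 1, 2, 1, 2, 1, 1, 0, 3, 0, 1, 0, 3, 2, 3, 3, 0, 1, 2, 1, 1, 0, 1, 2, 3, 2, 1, 2, 3, 3, 0, 3, 0, 3, 2, 1, 2, 1, 1, 0, 3, 0, 1, 0, 1, 2, 3, 2, 1, 2, 3, 3, 0, 3, 0, 1, 2, 1, 2, 1, 1, 0, 1, 0, 3, 2, 3, 2, 3, 3, 0, 3, 0, 3, 2, 1, 2, 1, 1, 0, 3, 0, 1, 0, 1, 0, 3, 2, 1, 2, 2, 3, 2, 1, 2, 3, 2, 3, 2, 1, 2, 3, 3, 0, 3, 0, 1, 2, 1, 2, 1, 1, 2, 1, 0, 1, 2, 3, 2, 3, 3], 1, true),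
    ([1, 0, 3, 2, 3, 0, 3, 0, 3, 0, 3, 2, 1, 2, 1, 1, 0, 3, 0, 1, 0, 3, 2, 3, 2, 1, 2, 3, 3, 0, 3, 0, 1, 2, 1, 2, 1, 1, 0, 3, 0, 1, 0, 3, 2, 3, 3, 0, 1, 2, 1, 1, 0, 1, 2, 3, 2, 1, 2, 3, 3, 0, 3, 0, 3, 2, 1, 2, 1, 1, 0, 3, 0, 1, 0, 1, 2, 3, 2, 1, 2, 3, 3, 0, 3, 0, 1, 2, 1, 2, 1, 1, 0, 1, 0, 3, 2, 3, 2, 3, 3, 0, 3, 0, 3, 2, 1, 2, 1, 1, 0, 3, 0, 1, 0, 1, 0, 3, 2, 1, 2, 2, 3], 0, false),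
    ([1, 0, 3, 2, 3, 0, 3, 0, 3, 0, 3, 2, 1, 2, 1, 1, 0, 3, 0, 1, 0, 3, 2, 3, 2, 1, 2, 3, 3, 0, 3, 0, 1, 2, 1, 2, 1, 1, 0, 3, 0, 1, 0, 3, 2, 3, 3, 0, 1, 2, 1, 1, 0, 1, 2, 3, 2, 1, 2, 3, 3, 0, 3, 0, 3, 2, 1, 2, 1, 1, 0, 3, 0, 1, 0, 1, 2, 3, 2, 1, 2, 3, 3, 0, 3, 0, 1, 2, 1, 2, 1, 1, 0, 1, 0, 3, 2, 3, 2, 3, 3, 0, 3, 0, 3, 2, 1, 2, 1, 1, 0, 3, 0, 1, 0, 1, 0, 3, 2, 1], 0, false),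
    ([1, 0, 3, 2, 3, 0, 3, 0, 3, 0, 3, 2, 1, 2, 1, 1, 0, 3, 0, 1, 0, 3, 2, 3, 2, 1, 2, 3, 3, 0, 3, 0, 1, 2, 1, 2, 1, 1, 0, 3, 0, 1, 0, 3, 2, 3, 3, 0, 1, 2, 1, 1, 0, 1, 2, 3, 2, 1, 2, 3, 3, 0, 3, 0, 3, 2, 1, 2, 1, 1, 0, 3, 0, 1, 0, 1, 2, 3, 2, 1, 2, 3, 3, 0, 3, 0, 1, 2, 1, 2, 1, 1, 0, 1, 0, 3, 2, 3], 0, false),
    ([1, 0, 3, 2, 3, 0, 3, 0, 3, 0, 3, 2, 1, 2, 1, 1, 0, 3, 0, 1, 0, 3, 2, 3, 2, 1, 2, 3, 3, 0, 3, 0, 1, 2, 1, 2, 1, 1, 0, 3, 0, 1, 0, 3, 2, 3, 3, 0, 1, 2, 1, 1, 0, 1, 2, 3, 2, 1, 2, 3, 3, 0, 3, 0, 3, 2, 1, 2, 1, 1, 0, 3, 0, 1, 0, 1], 0, false),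
    ([1, 0, 3, 2, 3, 0, 3, 0, 3, 0, 3, 2, 1, 2, 1, 1, 0, 3, 0, 1, 0], 0, true),
    ([1, 0, 3, 2, 3, 0, 1, 0, 1, 0, 3, 2, 3], 0, true),
    ([1, 0, 3, 2, 3, 0, 1, 0, 1, 0, 3, 2, 3, 2, 3, 3, 0, 3, 0, 3, 2, 1, 2, 1, 1, 0, 3, 0, 1, 0, 1, 0, 3, 2, 1], 0, true),
    ([1, 0, 3, 2, 3, 0, 1, 0, 1, 0, 3, 2, 3, 2, 3, 3, 0, 3, 0, 3, 2, 1, 2, 1, 1, 0, 3, 0, 1, 0, 1, 0, 3, 2, 1, 2, 2, 3], 0, true),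
    ([1, 0, 3, 2, 3, 0, 1, 0, 1, 0, 3, 2, 3, 2, 3, 3, 0, 3, 0, 3, 2, 1, 2, 1, 1, 0, 3, 0, 1, 0, 1, 0, 3, 2, 1, 2, 2, 3, 2, 1, 2, 3, 2, 3, 2, 1, 2, 3, 3, 0, 3, 0, 1, 2, 1, 2, 1, 1, 2, 1, 0, 1, 2, 3, 2, 3, 3], 1, false),
    ([1, 0, 3, 2, 3, 0, 1, 0, 1, 0, 3, 2, 3, 2, 3, 3, 0, 3, 0, 3, 2, 1, 2, 1, 1, 0, 3, 0, 1, 0, 1, 0, 3, 2, 1, 2, 2, 3, 2, 1, 2, 3, 2, 3, 2, 1, 2, 3, 3, 0, 3, 0, 1, 2, 1, 2], 1, true)] : List Step)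
  ++ ([([1, 0, 3, 2, 3, 0, 1, 0, 1, 0, 3, 2, 3, 2, 3, 3, 0, 3, 0, 3, 2, 1, 2, 1, 1, 0, 3, 0, 1, 0, 1, 0, 3, 2, 1, 2, 2, 3, 2, 1, 2, 3, 2, 3, 2, 1, 2, 3, 3], 1, false),
    ([1, 0, 3, 2, 3, 0, 1, 0, 1, 0, 3, 2, 3, 2, 3, 3, 0, 3, 0, 3, 2, 1, 2, 1, 1, 0, 3, 0, 1, 0, 1, 0, 3, 2, 1, 2, 3, 3], 1, true),
    ([1, 0, 3, 2, 3, 0, 1, 0, 1, 0, 3, 2, 3, 2, 3, 3, 0, 3, 0, 3, 2, 1, 2, 1, 1, 0, 3, 0, 1, 0, 1, 0, 3, 2, 1, 2, 3, 3, 3, 2, 3, 2, 1, 2, 3, 2, 3, 2, 1, 2, 1, 0, 3, 0, 1, 2, 1, 2, 3, 2, 1, 0], 0, true),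
    ([1, 0, 3, 2, 3, 0, 1, 0, 1, 0, 3, 2, 3, 2, 3, 3, 0, 3, 0, 3, 2, 1, 2, 1, 1, 0, 3, 0, 1, 0, 1, 0, 3, 2, 1, 2, 3, 3, 3, 2, 3, 2, 1, 2, 3, 2, 3, 2, 1, 2, 1, 0, 3, 0, 1, 2, 1, 2, 3, 2, 1, 2, 1, 2, 3, 2, 1], 0, true),
    ([1, 0, 3, 2, 3, 0, 1, 0, 1, 0, 3, 2, 3, 2, 3, 3, 0, 3, 0, 3, 2, 1, 2, 1, 1, 0, 3, 0, 1, 0, 1, 0, 3, 2, 1, 2, 3, 3, 3, 2, 3, 2, 1, 2, 3, 2, 3, 2, 1, 2, 1], 0, true),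
    ([1, 0, 3, 2, 3, 0, 1, 0, 1, 0, 3, 2, 3, 2, 3, 3, 0, 3, 0, 3, 2, 1, 2, 1, 1, 0, 3, 0, 1, 0, 1, 0, 3, 2, 1, 2, 3, 3, 3, 2, 3, 2, 1, 2, 3, 2, 3, 2, 1, 2, 1, 2, 3, 0, 1, 2, 1, 2, 3, 2, 1, 2, 1, 2, 3, 2, 1, 2, 3, 0], 0, true),
    ([1, 0, 3, 2, 3, 0, 1, 0, 1, 0, 3, 2, 3, 2, 3, 3, 0, 3, 0, 3, 2, 1, 2, 1, 1, 0, 3, 0, 1, 0, 1, 0, 3, 2, 1, 2, 3, 3, 3, 2, 3, 2, 1, 2, 3, 2, 3, 2, 1, 2, 1, 2, 3, 0], 0, true),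
    ([1, 0, 3, 2, 3, 0, 1, 0, 1, 0, 3, 2, 3, 2, 3, 3, 0, 3, 0, 3, 2, 1, 2, 1, 1, 0, 3, 0, 1, 0, 1, 0, 3, 2, 1, 2, 3, 3, 0, 3, 0, 1, 0, 1, 0, 3, 0, 1, 0, 3, 0, 3, 0, 1, 0, 3, 0, 3, 0, 1, 0, 3, 0, 3], 6, false),
    ([1, 0, 3, 2], 0, false),
    ([1, 0, 3, 0, 3, 0, 1, 0, 1, 0, 3, 2, 3, 3, 0, 1, 0, 3, 2, 3, 3], 1, false),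
    ([0, 1, 0, 1, 0, 3, 2, 3, 3, 0, 1, 0, 3, 2, 3, 3], 1, true),
    ([0, 1, 0, 1, 0, 3, 2, 3, 3, 0, 1, 0, 3, 2, 3, 3, 0, 0, 3, 0, 1, 0, 3, 0, 3, 0, 1, 0, 3, 0, 3, 0, 1, 0, 3, 0, 3], 6, true),
    ([0, 1, 0, 1, 0, 3, 2, 3, 3, 0, 1, 0, 3, 2, 3, 3, 0, 3, 2, 3, 2, 1, 2, 3, 2, 3, 0], 0, false),
    ([0, 1, 0, 1, 0, 3, 2, 3, 3, 0, 1, 0, 3, 2, 3, 3, 0, 3, 2, 3, 2, 1, 2, 3, 2, 3, 0, 1, 2, 3, 2, 3, 2, 1, 2, 1, 2, 3, 2, 1, 2, 1, 0], 0, false),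
    ([0, 1, 0, 1, 0, 3, 2, 3, 3, 0, 1, 0, 3, 2, 3, 3, 0, 3, 2, 3, 2, 1, 2, 3, 2], 1, false),
    ([0, 1, 0, 1, 0, 3, 2, 3, 3, 0, 1, 0, 3, 2, 3, 3, 0, 3, 2, 3, 2, 1, 2, 3, 2, 1, 1, 0, 1, 2, 3, 2, 3, 2, 1, 2, 1, 2, 3, 2, 1, 2, 1, 0, 3, 2, 3, 3], 1, true),
    ([0, 1, 0, 1, 0, 3, 2, 3, 3, 0, 1, 0, 3, 2, 3, 3, 0, 3, 2, 3, 2, 1, 2, 3, 2, 1, 1, 0, 1, 2, 3, 2, 3, 2, 1, 2, 1, 2, 3], 0, false),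
    ([0, 1, 0, 1, 0, 3, 2, 3, 3, 0, 1, 0, 3, 2, 3, 3, 0, 3, 2, 3, 2, 1, 2, 3, 2, 1, 1, 0, 1, 2, 3, 2, 3, 2, 1, 2, 1, 2, 3, 0, 1, 2, 1, 0, 3, 2, 3, 3], 0, false),
    ([0, 1, 0, 1, 0, 3, 2, 3, 3, 0, 1, 0, 3, 2, 3, 3, 0, 3, 2, 3, 2, 1, 2, 3, 2, 1, 1, 0, 1, 2, 3, 2, 3, 2, 1, 2, 1, 2, 3, 0, 1, 0], 0, false),
    ([0, 1, 0, 1, 0, 3, 2, 3, 3, 0, 1, 0, 3, 2, 3, 3, 0, 3, 2, 3, 2, 1, 2, 3, 2, 1, 1, 0, 1, 2, 3, 2, 3, 2, 1, 2, 1, 2, 3, 0, 1, 0, 1, 0, 3, 2, 3, 3, 0, 1, 2, 3, 2, 1, 0], 0, false)] : List Step)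
  ++ ([([0, 1, 0, 1, 0, 3, 2, 3, 3, 0, 1, 0, 3, 2, 3, 3, 0, 3, 2, 3, 0], 0, false),
    ([0, 1, 0, 1, 0, 3, 2, 3, 3, 0, 1, 0, 3, 2, 3, 3, 0, 3, 2, 3, 0, 1, 2, 3, 2, 1, 1, 0, 1, 2, 3, 2, 3, 2, 1, 2, 1, 2, 3, 0, 1, 0, 1, 0, 3, 2, 3, 3, 0, 1, 0], 0, false)] : List Step)

/-- A derivation. -/
def sixDeriv19 : List Step :=
  ([([1, 0, 3, 2, 3, 3, 0, 3, 2, 1, 0, 3, 0, 1, 0, 1, 2, 1, 1, 2, 1, 2, 3, 2, 1, 2, 3, 0, 1, 2, 1, 0, 3, 0, 1, 0, 3, 0, 3, 3, 0, 3, 2, 3, 3, 0, 1, 2, 1, 1, 0, 1, 2, 1, 1], 0, false),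
    ([1, 0, 3, 2, 3, 3, 0, 3, 2, 1, 0, 3, 0, 1, 0, 1, 2, 1, 1, 2, 1, 2, 3, 2, 1, 2, 3, 0, 1, 2, 1, 0, 3, 0, 1, 0, 3, 0, 3, 3, 0, 3, 2, 3, 3, 0, 1, 2, 1, 1, 0, 1], 0, false),
    ([1, 0, 3, 2, 3, 3, 0, 3, 2, 1, 0, 3, 0, 1, 0, 1, 2, 1, 1], 0, false),
    ([1, 0, 3, 2, 3, 3, 0, 3, 2, 1, 0, 3, 0, 1, 0, 1], 0, false),
    ([1, 0, 3, 2, 3, 3, 0, 3, 2, 1, 0, 3, 0, 1, 0, 1, 0, 1, 1, 0, 1, 2, 3, 2, 1, 2, 3, 0, 1, 2, 1, 0, 3, 0, 1, 0, 3, 0, 3, 3, 0, 3, 2, 3, 3, 0, 1, 2, 1, 1, 0, 1, 0, 1, 1], 1, true),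
    ([1, 0, 3, 2, 3, 3, 0, 3, 2, 1, 0, 3, 0, 1, 0, 1, 0, 1, 1, 0, 1, 2, 3, 2, 1, 2, 3, 0, 1, 2, 1, 0, 3, 0, 1, 0, 3, 0], 1, false),
    ([1, 0, 3, 2, 3, 3, 0, 3, 2, 1, 0, 3, 0, 1, 0, 1, 0, 1, 1], 1, true),
    ([1, 0, 3, 2, 3], 1, false),
    ([1, 0, 3, 2], 0, false),
    ([1, 0, 3, 0, 1, 0, 3, 2, 1, 0, 3, 0, 1, 0, 1, 0, 3, 0, 1, 2, 3, 2, 1, 2, 3, 0, 1], 0, false),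
    ([1, 0, 3, 0, 1, 0, 3], 0, false),
    ([1, 0, 3, 0, 1, 0, 3, 0, 1, 0, 3, 0, 1, 0, 1, 0, 3, 0, 1, 2, 3, 2, 1, 2, 3, 0, 1, 0, 1, 0, 3, 0, 1, 0, 3, 0, 1, 0, 3, 2, 3, 3, 0, 1, 2, 1, 1, 0, 1, 0, 3, 0, 1, 2, 3, 2, 1, 2], 0, false),
    ([1, 0, 3, 0, 1, 0, 3, 0, 1, 0, 3, 0, 1, 0, 1, 0, 3, 0, 1, 2, 3, 2, 1, 2], 0, false),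
    ([1, 0, 3, 0, 1, 0, 3, 0, 1, 0, 3, 0, 1, 0, 1, 0, 3, 0, 1, 2, 3, 2, 1, 0, 3, 0, 1, 0, 1, 0, 3, 0, 1, 0, 3, 0, 1, 0, 3, 2, 3, 3, 0, 1, 2, 1, 1, 0, 1, 0, 3, 0, 1, 2, 3, 2], 0, false),
    ([1, 0, 3, 0, 1, 0, 3, 0, 1, 0, 3, 0, 1, 0, 1, 0, 3, 0, 1, 2, 3, 2], 0, false),
    ([1, 0, 3, 0, 1, 0, 3, 0, 1, 0, 3, 0, 1, 0, 1, 0, 3, 0, 1, 2, 3, 0, 1, 0, 3, 0, 1, 0, 1, 0, 3, 0, 1, 0, 3, 0, 1, 0, 3, 2, 3, 3, 0, 1], 0, false),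
    ([1, 0, 3, 0, 1, 0, 3, 0, 1, 0, 3, 0, 1, 0, 1, 0, 3, 0, 1, 2, 3, 0, 1, 0, 3, 0, 1, 0, 1, 0, 3, 0, 1, 0, 3, 0, 1, 0, 3, 2, 3, 3, 0, 1, 0, 1, 1, 0, 1, 0, 3, 0, 1, 2], 0, false),
    ([1, 0, 3, 0, 1, 0, 3, 0, 1, 0, 3, 0, 1, 0, 1, 0, 3, 0, 1, 2, 3, 0, 1, 0, 3, 0, 1, 0, 1, 0, 3, 0, 1, 0, 3, 0, 1, 0, 3, 2], 0, false),
    ([1, 0, 3, 0, 1, 0, 3, 0, 1, 0, 3, 0, 1, 0, 1, 0, 3, 0, 1, 2], 0, false),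
    ([1, 0, 3, 0, 1, 0, 3, 0, 1, 0, 3, 0, 1, 0, 1, 0, 3, 0, 1, 0, 3, 0, 1, 0, 3, 0, 1, 0, 1, 0, 3, 0, 1, 0, 3, 0, 1, 0, 3, 0, 3, 3, 0, 1, 0, 1, 1], 1, true)] : List Step)
  ++ ([([1, 0, 3, 0, 1, 0, 3, 0, 1, 0, 3, 0, 1, 0, 1, 0, 3, 0, 1, 0, 3, 0, 1, 0, 3, 0, 1, 0, 1, 0, 3, 0, 1, 0, 3, 0, 1, 0, 3, 0], 1, false),
    ([2, 3, 2, 1, 2, 3, 2, 1, 2, 3, 2, 1, 2, 3, 2, 3, 2, 1, 2, 3, 2, 1, 2, 3, 2, 1, 2, 3, 2, 3, 2, 1, 2, 3, 2, 1, 2, 3, 2, 1, 2, 3, 2, 3, 2], 5, true)] : List Step)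

/-- A derivation. -/
def sixDeriv20 : List Step :=
  ([([1, 0, 3, 2, 3, 3, 0, 3, 2, 1, 0, 3, 0, 1, 0, 3, 0, 3, 3, 0, 3, 2, 3, 3, 0, 3, 3, 2, 1, 2, 1, 1, 0, 3, 0, 1, 0], 0, true),
    ([1, 0, 3, 2, 3, 3, 0, 3, 2, 1, 0, 3, 0, 1, 0, 3, 0, 3, 3, 0, 3, 2, 3, 3, 0, 3, 2, 1, 2, 1, 1, 0, 1, 0, 3, 2, 3], 0, true),
    ([1, 0, 3, 2, 3, 3, 0, 3, 2, 1, 0, 3, 0, 1, 0, 3, 0, 3, 3, 0, 3, 2, 3, 3, 0, 3, 2, 1, 2, 1, 1, 0, 1, 0, 3, 2, 3, 2, 3, 3, 0, 3, 0, 3, 2, 1, 2, 1, 1, 0, 3, 0, 1, 0, 1, 0, 3, 2, 1], 0, true),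
    ([1, 0, 3, 2, 3, 3, 0, 3, 2, 1, 0, 3, 0, 1, 0, 3, 0, 3, 3, 0, 3, 2, 3, 3, 0, 3, 2, 1, 2, 1, 1, 0, 1, 0, 3, 2, 3, 2, 3, 3, 0, 3, 0, 3, 2, 1, 2, 1, 1, 0, 3, 0, 1, 0, 1, 0, 3, 2, 1, 2, 2, 3], 0, true),
    ([1, 0, 3, 2, 3, 3, 0, 3, 2, 1, 0, 3, 0, 1, 0, 3, 0, 3, 3, 0, 3, 2, 3, 3, 0, 3, 2, 1, 2, 1, 1, 0, 1, 0, 3, 2, 3, 2, 3, 3, 0, 3, 0, 3, 2, 1, 2, 1, 1, 0, 3, 0, 1, 0, 1, 0, 3, 2, 1, 2, 2, 3, 2, 1, 2, 3, 2, 3, 2, 1, 2, 3, 3, 0, 3, 0, 1, 2, 1, 2, 1, 1, 2, 1, 0, 1, 2, 3, 2, 3, 3], 1, false),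
    ([1, 0, 3, 2, 3, 3, 0, 3, 2, 1, 0, 3, 0, 1, 0, 3, 0, 3, 3, 0, 3, 2, 3, 3, 0, 3, 2, 1, 2, 1, 1, 0, 1, 0, 3, 2, 3, 2, 3, 3, 0, 3, 0, 3, 2, 1, 2, 1, 1, 0, 3, 0, 1, 0, 1, 0, 3, 2, 1, 2, 2, 3, 2, 1, 2, 3, 2, 3, 2, 1, 2, 3, 3, 0, 3, 0, 1, 2, 1, 2], 1, true),
    ([1, 0, 3, 2, 3, 3, 0, 3, 2, 1, 0, 3, 0, 1, 0, 3, 0, 3, 3, 0, 3, 2, 3, 3, 0, 3, 2, 1, 2, 1, 1, 0, 1, 0, 3, 2, 3, 2, 3, 3, 0, 3, 0, 3, 2, 1, 2, 1, 1, 0, 3, 0, 1, 0, 1, 0, 3, 2, 1, 2, 2, 3, 2, 1, 2, 3, 2, 3, 2, 1, 2, 3, 3], 1, false),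
    ([1, 0, 3, 2, 3, 3, 0, 3, 2, 1, 0, 3, 0, 1, 0, 3, 0, 3, 3, 0, 3, 2, 3, 3, 0, 3, 2, 1, 2, 1, 1, 0, 1, 0, 3, 2, 3, 2, 3, 3, 0, 3, 0, 3, 2, 1, 2, 1, 1, 0, 3, 0, 1, 0, 1, 0, 3, 2, 1, 2, 3, 3], 1, true),
    ([1, 0, 3, 2, 3, 3, 0, 3, 2, 1, 0, 3, 0, 1, 0, 3, 0, 3, 3, 0, 3, 2, 3, 3, 0, 3, 2, 1, 2, 1, 1, 0, 1, 0, 3, 2, 3, 2, 3, 3, 0, 3, 0, 3, 2, 1, 2, 1, 1, 0, 3, 0, 1, 0, 1, 0, 3, 2, 1, 2, 3, 3, 3, 2, 3, 2, 1, 2, 3, 2, 3, 2, 1, 2, 1, 0, 3, 0, 1, 2, 1, 2, 3, 2, 1, 0], 0, true),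
    ([1, 0, 3, 2, 3, 3, 0, 3, 2, 1, 0, 3, 0, 1, 0, 3, 0, 3, 3, 0, 3, 2, 3, 3, 0, 3, 2, 1, 2, 1, 1, 0, 1, 0, 3, 2, 3, 2, 3, 3, 0, 3, 0, 3, 2, 1, 2, 1, 1, 0, 3, 0, 1, 0, 1, 0, 3, 2, 1, 2, 3, 3, 3, 2, 3, 2, 1, 2, 3, 2, 3, 2, 1, 2, 1, 0, 3, 0, 1, 2, 1, 2, 3, 2, 1, 2, 1, 2, 3, 2, 1], 0, true),
    ([1, 0, 3, 2, 3, 3, 0, 3, 2, 1, 0, 3, 0, 1, 0, 3, 0, 3, 3, 0, 3, 2, 3, 3, 0, 3, 2, 1, 2, 1, 1, 0, 1, 0, 3, 2, 3, 2, 3, 3, 0, 3, 0, 3, 2, 1, 2, 1, 1, 0, 3, 0, 1, 0, 1, 0, 3, 2, 1, 2, 3, 3, 3, 2, 3, 2, 1, 2, 3, 2, 3, 2, 1, 2, 1], 0, true),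
    ([1, 0, 3, 2, 3, 3, 0, 3, 2, 1, 0, 3, 0, 1, 0, 3, 0, 3, 3, 0, 3, 2, 3, 3, 0, 3, 2, 1, 2, 1, 1, 0, 1, 0, 3, 2, 3, 2, 3, 3, 0, 3, 0, 3, 2, 1, 2, 1, 1, 0, 3, 0, 1, 0, 1, 0, 3, 2, 1, 2, 3, 3, 3, 2, 3, 2, 1, 2, 3, 2, 3, 2, 1, 2, 1, 2, 3, 0, 1, 2, 1, 2, 3, 2, 1, 2, 1, 2, 3, 2, 1, 2, 3, 0], 0, true),
    ([1, 0, 3, 2, 3, 3, 0, 3, 2, 1, 0, 3, 0, 1, 0, 3, 0, 3, 3, 0, 3, 2, 3, 3, 0, 3, 2, 1, 2, 1, 1, 0, 1, 0, 3, 2, 3, 2, 3, 3, 0, 3, 0, 3, 2, 1, 2, 1, 1, 0, 3, 0, 1, 0, 1, 0, 3, 2, 1, 2, 3, 3, 3, 2, 3, 2, 1, 2, 3, 2, 3, 2, 1, 2, 1, 2, 3, 0], 0, true),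
    ([1, 0, 3, 2, 3, 3, 0, 3, 2, 1, 0, 3, 0, 1, 0, 3, 0, 3, 3, 0, 3, 2, 3, 3, 0, 3, 2, 1, 2, 1, 1, 0, 1, 0, 3, 2, 3, 2, 3, 3, 0, 3, 0, 3, 2, 1, 2, 1, 1, 0, 3, 0, 1, 0, 1, 0, 3, 2, 1, 2, 3, 3, 0, 3, 0, 1, 0, 1, 0, 3, 0, 1, 0, 3, 0, 3, 0, 1, 0, 3, 0, 3, 0, 1, 0, 3, 0, 3], 6, false),
    ([1, 0, 3, 2, 3, 3, 0, 3, 2, 1, 0, 3, 0, 1, 0, 3, 0], 0, true),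
    ([1, 0, 3, 2, 3, 3, 0, 3, 2, 1, 0, 3, 0, 1, 0, 3, 2], 1, false),
    ([1, 0, 3, 2, 3], 1, false),
    ([0, 1, 0, 3, 0, 1, 0, 3, 2, 3, 3], 1, true),
    ([0, 1, 0, 3, 0, 1, 0, 3, 2, 3, 3, 3, 0, 1], 0, false),
    ([0, 1, 0, 3, 0, 1, 0, 3, 2, 3, 3, 3, 0], 0, true)] : List Step)
  ++ ([([0, 1, 0, 3, 0, 1, 0, 3, 2, 3, 3, 3, 2, 1, 0, 3, 2, 1, 2, 3, 2, 1, 0, 3, 2, 1, 0, 3, 2, 1, 0, 3, 0, 1, 0, 3, 2, 1, 0, 3, 2, 3, 3, 0, 3, 2, 1, 2, 1, 1, 0, 1, 0, 3, 2, 3, 3, 0, 3, 0, 1], 0, false),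
    ([0, 1, 0, 3, 0, 1, 0, 3, 2, 3, 3, 3, 2, 1, 0, 3, 2, 1, 2, 3, 2, 1, 0, 3, 2, 1, 0, 3, 2, 1, 0, 3, 0, 1, 0, 3, 2, 1, 0, 3, 2, 3, 3, 0, 3, 2, 1, 2, 1, 1, 0, 1, 0, 3, 2, 3, 3, 0, 3, 0], 0, true),
    ([0, 1, 0, 3, 0, 1, 0, 3, 2, 3, 3, 3, 2, 1, 0, 3, 2, 1, 2, 3, 2, 1, 0, 3, 2, 1, 0, 3, 2, 1, 0, 3, 0, 1, 0, 3, 2, 1, 0, 3, 2, 3, 3, 0, 3, 2, 1, 2, 1, 1, 0], 0, true),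
    ([0, 1, 0, 3, 0, 1, 0, 3, 2, 3, 3, 3, 2, 1, 0, 3, 2, 1], 0, false),
    ([0, 1, 0, 3, 0, 1, 0, 3, 2, 3, 3, 3, 2, 1, 0, 3, 2, 1, 0, 3, 2, 1, 0, 3, 2, 1, 0, 3, 2, 1, 0, 3, 0, 1, 0, 3, 2, 1, 0, 3, 2, 3, 3, 0, 3, 2, 1, 2], 1, true),
    ([0, 1, 0, 3, 0, 1, 0, 3, 2, 3, 3, 3, 2, 1, 0, 3, 2, 1, 0, 3, 2, 1, 0, 3, 2, 1, 0, 3, 2, 1, 0, 3, 0, 1, 0, 3, 2, 1, 0, 3, 2, 3, 3, 0, 3, 2, 1, 2, 3, 2, 1, 0, 3, 2, 3, 3], 1, false),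
    ([0, 1, 0, 3, 0, 1, 0, 3, 2, 3, 3, 3, 2, 1, 0, 3, 2, 1, 0, 3, 2, 1, 0, 3, 2, 1, 0, 3, 2, 1, 0, 3, 0, 1, 0, 3, 2, 1, 0, 3, 2, 3, 3, 0, 3, 2, 1, 2], 0, false),
    ([0, 1, 0, 3, 0, 1, 0, 3, 2, 3, 3, 3, 2, 1, 0, 3, 2, 1, 0, 3, 2, 1, 0, 3, 2, 1, 0, 3, 2, 1, 0, 3], 0, true),
    ([0, 1, 0, 3, 0, 1, 0, 3, 2, 3, 3, 3, 2, 1, 0, 3, 2, 1, 0, 3, 2, 1, 0, 3, 2, 1, 0, 3, 2, 1, 0, 3, 2, 1, 0, 3, 2, 1, 0, 3, 2], 1, false),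
    ([0, 1, 0, 3, 0, 1, 0, 3, 2, 3, 3, 2, 3, 0, 1, 2, 3, 0, 1], 3, false)] : List Step)

/-- A derivation. -/
def sixDeriv21 : List Step :=
  ([([1, 0, 3, 2, 3, 3, 0, 1, 2, 1, 1, 0, 3, 2, 3, 3, 0, 1, 2, 1, 1, 0, 3, 2, 3, 3, 0, 1, 2, 1, 1, 0, 3, 2, 3, 3, 0, 1, 2, 1, 1, 0, 3, 2, 3, 3, 0, 1, 2, 1], 1, true),
    ([1, 0, 3, 2, 3, 3, 0, 1, 2, 1, 1, 0, 3, 2, 3, 3, 0, 1, 2, 1, 1, 0, 3, 2, 3, 3, 0, 1, 2, 1, 1, 0, 3, 2, 3, 3, 0, 1, 2, 1, 1, 0, 3, 2, 3], 1, false),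
    ([1, 0, 3, 2, 3, 3, 0, 1, 2, 1, 1, 0, 3, 2, 3, 3, 0, 1, 2, 1, 1, 0, 3, 2, 3, 3, 0, 1, 2, 1, 1, 0, 3, 2, 3, 3, 0, 1, 2, 1], 1, true),
    ([1, 0, 3, 2, 3, 3, 0, 1, 2, 1, 1, 0, 3, 2, 3, 3, 0, 1, 2, 1, 1, 0, 3, 2, 3, 3, 0, 1, 2, 1, 1, 0, 3, 2, 3], 1, false),
    ([1, 0, 3, 2, 3, 3, 0, 1, 2, 1, 1, 0, 3, 2, 3, 3, 0, 1, 2, 1, 1, 0, 3, 2, 3, 3, 0, 1, 2, 1], 1, true),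
    ([1, 0, 3, 2, 3, 3, 0, 1, 2, 1, 1, 0, 3, 2, 3, 3, 0, 1, 2, 1, 1, 0, 3, 2, 3], 1, false),
    ([1, 0, 3, 2, 3, 3, 0, 1, 2, 1, 1, 0, 3, 2, 3, 3, 0, 1, 2, 1], 1, true),
    ([1, 0, 3, 2, 3, 3, 0, 1, 2, 1, 1, 0, 3, 2, 3], 1, false),
    ([1, 0, 3, 2, 3, 3, 0, 1, 2, 1], 1, true),
    ([1, 0, 3, 2, 3], 1, false),
    ([1, 0, 3, 2, 1, 0, 1, 2, 3, 0, 3, 2, 1, 0, 1, 2, 3, 0, 3, 2, 1, 0, 1, 2, 3, 0, 3, 2, 1, 0, 1, 2, 3, 0, 3, 2, 1, 0, 1, 2, 3], 0, true),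
    ([1, 0, 3, 2, 1, 0, 1, 2, 3, 0, 3, 2, 1, 0, 1, 2, 3, 0, 3, 2, 1, 0, 1, 2, 3, 0, 3, 2, 1, 0, 1, 2, 3, 0, 3, 2], 0, false),
    ([1, 0, 3, 2, 1, 0, 1, 2, 3, 0, 3, 2, 1, 0, 1, 2, 3, 0, 3, 2, 1, 0, 1, 2, 3, 0, 3, 2, 1, 0, 1, 2, 3], 0, true),
    ([1, 0, 3, 2, 1, 0, 1, 2, 3, 0, 3, 2, 1, 0, 1, 2, 3, 0, 3, 2, 1, 0, 1, 2, 3, 0, 3, 2], 0, false),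
    ([1, 0, 3, 2, 1, 0, 1, 2, 3, 0, 3, 2, 1, 0, 1, 2, 3, 0, 3, 2, 1, 0, 1, 2, 3], 0, true),
    ([1, 0, 3, 2, 1, 0, 1, 2, 3, 0, 3, 2, 1, 0, 1, 2, 3, 0, 3, 2], 0, false),
    ([1, 0, 3, 2, 1, 0, 1, 2, 3, 0, 3, 2, 1, 0, 1, 2, 3], 0, true),
    ([1, 0, 3, 2, 1, 0, 1, 2, 3, 0, 3, 2], 0, false),
    ([1, 0, 3, 2, 1, 0, 1, 2, 3], 0, true),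
    ([1, 0, 3, 2], 0, false)] : List Step)
  ++ ([([1, 0, 0, 1, 0], 4, true)] : List Step)

/-- A derivation. -/
def sixDeriv22 : List Step :=
  ([([0, 3, 0, 1, 0, 1, 2, 1, 1, 2, 1, 1, 2, 1, 2, 3, 3, 0, 3, 2, 1, 2, 1, 1, 0, 3, 0, 1, 0], 0, true),
    ([0, 3, 0, 1, 0, 1, 2, 1, 1, 2, 1, 1, 2, 1, 2, 3, 2, 1, 1, 0, 1, 0, 3, 2, 3], 0, true),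
    ([0, 3, 0, 1, 0, 1, 2, 1, 1, 2, 1, 1, 2, 1, 2, 3, 2, 1, 1, 0, 1, 0, 3, 2, 3, 2, 3, 3, 0, 3, 0, 3, 2, 1, 2, 1, 1, 0, 3, 0, 1, 0, 1, 0, 3, 2, 1], 0, true),
    ([0, 3, 0, 1, 0, 1, 2, 1, 1, 2, 1, 1, 2, 1, 2, 3, 2, 1, 1, 0, 1, 0, 3, 2, 3, 2, 3, 3, 0, 3, 0, 3, 2, 1, 2, 1, 1, 0, 3, 0, 1, 0, 1, 0, 3, 2, 1, 2, 2, 3], 0, true),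
    ([0, 3, 0, 1, 0, 1, 2, 1, 1, 2, 1, 1, 2, 1, 2, 3, 2, 1, 1, 0, 1, 0, 3, 2, 3, 2, 3, 3, 0, 3, 0, 3, 2, 1, 2, 1, 1, 0, 3, 0, 1, 0, 1, 0, 3, 2, 1, 2, 2, 3, 2, 1, 2, 3, 2, 3, 2, 1, 2, 3, 3, 0, 3, 0, 1, 2, 1, 2, 1, 1, 2, 1, 0, 1, 2, 3, 2, 3, 3], 1, false),
    ([0, 3, 0, 1, 0, 1, 2, 1, 1, 2, 1, 1, 2, 1, 2, 3, 2, 1, 1, 0, 1, 0, 3, 2, 3, 2, 3, 3, 0, 3, 0, 3, 2, 1, 2, 1, 1, 0, 3, 0, 1, 0, 1, 0, 3, 2, 1, 2, 2, 3, 2, 1, 2, 3, 2, 3, 2, 1, 2, 3, 3, 0, 3, 0, 1, 2, 1, 2], 1, true),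
    ([0, 3, 0, 1, 0, 1, 2, 1, 1, 2, 1, 1, 2, 1, 2, 3, 2, 1, 1, 0, 1, 0, 3, 2, 3, 2, 3, 3, 0, 3, 0, 3, 2, 1, 2, 1, 1, 0, 3, 0, 1, 0, 1, 0, 3, 2, 1, 2, 2, 3, 2, 1, 2, 3, 2, 3, 2, 1, 2, 3, 3], 1, false),
    ([0, 3, 0, 1, 0, 1, 2, 1, 1, 2, 1, 1, 2, 1, 2, 3, 2, 1, 1, 0, 1, 0, 3, 2, 3, 2, 3, 3, 0, 3, 0, 3, 2, 1, 2, 1, 1, 0, 3, 0, 1, 0, 1, 0, 3, 2, 1, 2, 3, 3], 1, true),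
    ([0, 3, 0, 1, 0, 1, 2, 1, 1, 2, 1, 1, 2, 1, 2, 3, 2, 1, 1, 0, 1, 0, 3, 2, 3, 2, 3, 3, 0, 3, 0, 3, 2, 1, 2, 1, 1, 0, 3, 0, 1, 0, 1, 0, 3, 2, 1, 2, 3, 3, 3, 2, 3, 2, 1, 2, 3, 2, 3, 2, 1, 2, 1, 0, 3, 0, 1, 2, 1, 2, 3, 2, 1, 0], 0, true),
    ([0, 3, 0, 1, 0, 1, 2, 1, 1, 2, 1, 1, 2, 1, 2, 3, 2, 1, 1, 0, 1, 0, 3, 2, 3, 2, 3, 3, 0, 3, 0, 3, 2, 1, 2, 1, 1, 0, 3, 0, 1, 0, 1, 0, 3, 2, 1, 2, 3, 3, 3, 2, 3, 2, 1, 2, 3, 2, 3, 2, 1, 2, 1, 0, 3, 0, 1, 2, 1, 2, 3, 2, 1, 2, 1, 2, 3, 2, 1], 0, true),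
    ([0, 3, 0, 1, 0, 1, 2, 1, 1, 2, 1, 1, 2, 1, 2, 3, 2, 1, 1, 0, 1, 0, 3, 2, 3, 2, 3, 3, 0, 3, 0, 3, 2, 1, 2, 1, 1, 0, 3, 0, 1, 0, 1, 0, 3, 2, 1, 2, 3, 3, 3, 2, 3, 2, 1, 2, 3, 2, 3, 2, 1, 2, 1], 0, true),
    ([0, 3, 0, 1, 0, 1, 2, 1, 1, 2, 1, 1, 2, 1, 2, 3, 2, 1, 1, 0, 1, 0, 3, 2, 3, 2, 3, 3, 0, 3, 0, 3, 2, 1, 2, 1, 1, 0, 3, 0, 1, 0, 1, 0, 3, 2, 1, 2, 3, 3, 3, 2, 3, 2, 1, 2, 3, 2, 3, 2, 1, 2, 1, 2, 3, 0, 1, 2, 1, 2, 3, 2, 1, 2, 1, 2, 3, 2, 1, 2, 3, 0], 0, true),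
    ([0, 3, 0, 1, 0, 1, 2, 1, 1, 2, 1, 1, 2, 1, 2, 3, 2, 1, 1, 0, 1, 0, 3, 2, 3, 2, 3, 3, 0, 3, 0, 3, 2, 1, 2, 1, 1, 0, 3, 0, 1, 0, 1, 0, 3, 2, 1, 2, 3, 3, 3, 2, 3, 2, 1, 2, 3, 2, 3, 2, 1, 2, 1, 2, 3, 0], 0, true),
    ([0, 3, 0, 1, 0, 1, 2, 1, 1, 2, 1, 1, 2, 1, 2, 3, 2, 1, 1, 0, 1, 0, 3, 2, 3, 2, 3, 3, 0, 3, 0, 3, 2, 1, 2, 1, 1, 0, 3, 0, 1, 0, 1, 0, 3, 2, 1, 2, 3, 3, 0, 3, 0, 1, 0, 1, 0, 3, 0, 1, 0, 3, 0, 3, 0, 1, 0, 3, 0, 3, 0, 1, 0, 3, 0, 3], 6, false),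
    ([0, 3, 0, 1, 0, 1, 0, 3, 0, 3, 0, 1, 2, 3, 2, 1, 1, 0, 1, 0, 3, 2, 3, 2, 3, 3, 0, 1, 0, 3, 0, 1, 0, 1, 0, 3, 0, 1, 0, 1, 0, 3, 0, 1, 0, 3, 0, 3, 0, 1, 0, 3, 0, 3, 0, 1, 0, 3, 0, 3], 6, true),
    ([0, 3, 0, 1, 0, 1, 0, 3, 0, 3, 0, 1, 2, 3, 2, 1, 1, 0, 1, 0, 3, 2, 3, 2, 3, 3, 3, 2, 1, 2, 1, 2, 3, 2, 1, 2, 1, 2, 3, 2, 1, 2, 1, 2, 3, 2], 1, true),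
    ([0, 3, 0, 1, 0, 1, 0, 3, 0, 3, 0, 1, 2, 3, 2, 1, 1, 0, 1, 0, 3, 2, 3, 2, 3, 3, 3, 2, 1, 2, 1, 2, 3, 2, 1, 2, 1, 2, 3, 2, 1, 2, 1, 2, 3, 2, 3, 3, 2, 3, 2, 1, 1], 1, false),
    ([0, 3, 0, 1, 0, 1, 0, 3, 0, 3, 0, 1, 2, 3, 2, 1, 1, 0, 1, 0, 3, 2, 3, 2, 3, 3, 3, 2, 1, 2, 1, 2, 3, 2, 1, 2, 1], 0, false),
    ([0, 3, 0, 1, 0, 1, 0, 3, 0, 3, 0, 1, 2, 3, 2, 1, 1, 0, 1, 0, 3, 2, 3, 2, 3, 3, 3, 2, 1, 2, 1, 2, 3, 2, 1, 2, 1, 0, 3, 2, 1, 2, 1, 2, 3, 2, 3, 3, 2, 3, 2, 1, 1], 0, false),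
    ([0, 3, 0, 1, 0, 1, 0, 3, 0, 3, 0, 1, 2, 3, 2, 1, 1, 0, 1, 0, 3, 2, 3, 2, 3, 3, 3, 2, 1, 2, 1, 2, 3, 2, 1, 2, 1, 0, 3, 2, 1, 2, 1, 2, 3, 2, 3, 3, 0], 0, false)] : List Step)
  ++ ([([0, 3, 0, 1, 0, 1, 0, 3, 0, 3, 0, 1, 2, 3, 2, 1, 1, 0, 1, 0, 3, 2, 3, 2, 3, 3, 3, 2, 1, 2, 1, 2, 3, 2, 1], 0, false),
    ([0, 3, 0, 1, 0, 1, 0, 3, 0, 3, 0, 1, 2, 3, 2, 1, 1, 0, 1, 0, 3, 2, 3, 2, 3, 3, 3, 2, 1, 0], 0, false),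
    ([0, 3, 0, 1, 0, 1, 0, 3, 0, 3, 0, 1, 2, 3, 2, 1, 1, 0, 1, 0, 3, 2, 3, 2, 3, 3], 1, false),
    ([0, 3, 0, 1, 0, 1, 0, 3, 0, 3, 0, 1, 2, 3, 2, 1, 1, 0, 1, 0, 3, 2, 3, 2, 2, 1, 0, 1, 2, 3, 2, 3, 3], 1, true),
    ([0, 3, 0, 1, 0, 1, 0, 3, 0, 3, 0, 1, 2, 3, 2, 1, 1, 0, 1, 0, 3, 2, 3], 0, false),
    ([0, 3, 0, 3, 0, 3, 2, 1, 1, 0, 1, 2, 1, 1], 1, false),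
    ([0, 3, 0, 3, 0, 3, 2, 1, 1, 0, 1, 2, 1, 1, 2, 1, 1], 1, false),
    ([0, 3, 0, 3, 0, 3, 2, 1, 1, 0, 1, 2, 1, 1, 2, 1, 1, 2, 1, 2, 3, 2, 1, 1, 0, 1, 0, 1, 2, 3, 2, 3, 3, 0, 1, 0, 3, 2], 1, true),
    ([0, 3, 0, 3, 0, 3, 2, 1, 1, 0, 1, 2, 1, 1, 2, 1, 1, 2, 1, 2, 3, 2, 1, 1, 0, 1, 0, 1, 2, 3, 2, 3, 3, 0, 1, 0, 3, 2, 3, 3, 2], 1, true),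
    ([0, 3, 0, 3, 0, 3, 2, 1, 1, 0, 1, 2, 1, 1, 2, 1, 1, 2, 1, 2, 3, 2, 1, 1, 0, 1, 0, 1, 2, 3, 2, 3, 3, 0, 1, 0, 3, 0], 0, false),
    ([0, 3, 0, 3, 0, 3, 2, 1, 1, 0, 1, 2, 1, 1, 2, 1, 1, 2, 1, 2, 3, 2, 1, 1, 0, 1, 0, 1, 2, 3, 2, 3, 3, 0, 1, 0, 3, 0, 3, 3, 0], 0, false),
    ([0, 3, 0, 3, 0, 3, 2, 1, 1, 0, 1, 2, 1, 1, 2, 1, 1, 2, 1, 2, 3, 2, 1, 1, 0, 1, 0, 1, 2, 3, 2, 3, 3, 0, 1, 0, 3, 0, 3, 3, 0, 3, 3, 0], 0, false)] : List Step)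

/-- A derivation. -/
def sixDeriv23 : List Step :=
  ([([0, 1, 0, 3, 0, 1, 0, 3, 2, 3, 3, 0, 1, 2, 1, 1, 0, 3, 2, 3, 3, 0, 1, 2, 1, 1, 0, 3, 2, 3, 3, 0, 1, 2, 1, 1, 0, 3, 2, 3, 3, 0, 1, 2, 1, 1, 0, 3, 2, 3, 3], 1, false),
    ([0, 1, 0, 3, 0, 1, 0, 3, 2, 3, 3, 0, 1, 2, 1, 1, 0, 3, 2, 3, 3, 0, 1, 2, 1, 1, 0, 3, 2, 3, 3, 0, 1, 2, 1, 1, 0, 3, 2, 3, 3, 0, 1, 2], 1, true),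
    ([0, 1, 0, 3, 0, 1, 0, 3, 2, 3, 3, 0, 1, 2, 1, 1, 0, 3, 2, 3, 3, 0, 1, 2, 1, 1, 0, 3, 2, 3, 3, 0, 1, 2, 1, 1, 0, 3, 2, 3, 3], 1, false),
    ([0, 1, 0, 3, 0, 1, 0, 3, 2, 3, 3, 0, 1, 2, 1, 1, 0, 3, 2, 3, 3, 0, 1, 2, 1, 1, 0, 3, 2, 3, 3, 0, 1, 2], 1, true),
    ([0, 1, 0, 3, 0, 1, 0, 3, 2, 3, 3, 0, 1, 2, 1, 1, 0, 3, 2, 3, 3, 0, 1, 2, 1, 1, 0, 3, 2, 3, 3], 1, false),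
    ([0, 1, 0, 3, 0, 1, 0, 3, 2, 3, 3, 0, 1, 2, 1, 1, 0, 3, 2, 3, 3, 0, 1, 2], 1, true),
    ([0, 1, 0, 3, 0, 1, 0, 3, 2, 3, 3, 0, 1, 2, 1, 1, 0, 3, 2, 3, 3], 1, false),
    ([0, 1, 0, 3, 0, 1, 0, 3, 2, 3, 3, 0, 1, 2], 1, true),
    ([0, 1, 0, 3, 0, 1, 0, 3, 2, 3, 3], 1, false),
    ([0, 1, 0, 3, 0, 3], 1, true),
    ([0, 1, 0, 3, 0, 3, 3, 0, 3, 2, 1, 0, 1, 2, 3, 0, 3, 2, 1, 0, 1, 2, 3, 0, 3, 2, 1, 0, 1, 2, 3, 0, 3, 2, 1, 0, 1, 2, 3, 0, 3], 0, false),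
    ([0, 1, 0, 3, 0, 3, 3, 0, 3, 2, 1, 0, 1, 2, 3, 0, 3, 2, 1, 0, 1, 2, 3, 0, 3, 2, 1, 0, 1, 2, 3, 0, 3, 2, 1, 0, 1, 2, 3, 0], 0, true),
    ([0, 1, 0, 3, 0, 3, 3, 0, 3, 2, 1, 0, 1, 2, 3, 0, 3, 2, 1, 0, 1, 2, 3, 0, 3, 2, 1, 0, 1, 2, 3, 0, 3], 0, false),
    ([0, 1, 0, 3, 0, 3, 3, 0, 3, 2, 1, 0, 1, 2, 3, 0, 3, 2, 1, 0, 1, 2, 3, 0, 3, 2, 1, 0, 1, 2, 3, 0], 0, true),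
    ([0, 1, 0, 3, 0, 3, 3, 0, 3, 2, 1, 0, 1, 2, 3, 0, 3, 2, 1, 0, 1, 2, 3, 0, 3], 0, false),
    ([0, 1, 0, 3, 0, 3, 3, 0, 3, 2, 1, 0, 1, 2, 3, 0, 3, 2, 1, 0, 1, 2, 3, 0], 0, true),
    ([0, 1, 0, 3, 0, 3, 3, 0, 3, 2, 1, 0, 1, 2, 3, 0, 3], 0, false),
    ([0, 1, 0, 3, 0, 3, 3, 0, 3, 2, 1, 0, 1, 2, 3, 0], 0, true),
    ([0, 1, 0, 3, 0, 3, 3, 0, 3], 0, false),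
    ([0, 1, 0, 3, 0, 3, 3, 0], 0, true)] : List Step)
  ++ ([([0, 1, 0, 3, 0, 3, 0], 4, true)] : List Step)

/-- A derivation. -/
def sixDeriv24 : List Step :=
  ([([0, 1, 0, 3, 0, 3, 0, 1, 2, 1, 2, 1, 2, 3, 3, 0, 3, 0, 3, 2, 1, 2, 1, 1, 0, 3, 0, 1, 0, 1, 2, 3, 2, 1, 2, 3, 3, 0, 3, 0, 1, 2, 1, 2, 1, 1, 0, 3, 0, 3, 0, 0, 1, 0, 3, 0, 3, 0, 1, 0, 3, 0, 3, 0, 1, 0, 3, 0, 3], 6, true),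
    ([0, 1, 0, 3, 0, 3, 0, 1, 2, 1, 2, 1, 2, 3, 3, 0, 3, 0, 3, 2, 1, 2, 1, 1, 0, 3, 0, 1, 0, 1, 2, 3, 2, 1, 2, 3, 3, 0, 3, 0, 1, 2, 1, 2, 1, 1, 0, 3, 0, 3, 0, 1, 2, 3, 2, 3, 2, 1, 2, 3, 2, 3, 2, 1, 2, 3, 2, 3, 0], 0, false),
    ([0, 1, 0, 3, 0, 3, 0, 1, 2, 1, 2, 1, 2, 3, 3, 0, 3, 0, 3, 2, 1, 2, 1, 1, 0, 3, 0, 1, 0, 1, 2, 3, 2, 1, 2, 3, 3, 0, 3, 0, 1, 2, 1, 2, 1, 1, 0, 3, 0, 3, 0, 1, 2, 3, 2, 3, 2, 1, 2, 3, 2, 3, 2, 1, 2, 3, 2, 3, 0, 1, 2, 1, 2, 3, 2, 1, 2, 1, 2, 3, 0], 0, false),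
    ([0, 1, 0, 3, 0, 3, 0, 1, 2, 1, 2, 1, 2, 3, 3, 0, 3, 0, 3, 2, 1, 2, 1, 1, 0, 3, 0, 1, 0, 1, 2, 3, 2, 1, 2, 3, 3, 0, 3, 0, 1, 2, 1, 2, 1, 1, 0, 3, 0, 3, 0, 1, 2, 3, 2, 3, 2, 1, 2, 3, 2, 3, 2, 1, 2, 3, 2], 1, false),
    ([0, 1, 0, 3, 0, 3, 0, 1, 2, 1, 2, 1, 2, 3, 3, 0, 3, 0, 3, 2, 1, 2, 1, 1, 0, 3, 0, 1, 0, 1, 2, 3, 2, 1, 2, 3, 3, 0, 3, 0, 1, 2, 1, 2, 1, 1, 0, 3, 0, 3, 0, 1, 2, 3, 2, 3, 2, 1, 2, 3, 2, 3, 2, 1, 2, 3, 2, 1, 1, 0, 1, 2, 3, 3], 1, true),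
    ([0, 1, 0, 3, 0, 3, 0, 1, 2, 1, 2, 1, 2, 3, 3, 0, 3, 0, 3, 2, 1, 2, 1, 1, 0, 3, 0, 1, 0, 1, 2, 3, 2, 1, 2, 3, 3, 0, 3, 0, 1, 2, 1, 2, 1, 1, 0, 3, 0, 3, 0, 1, 2, 3, 2, 3, 2, 1, 2, 3, 2, 3, 2, 1, 2, 3, 2, 1, 1, 0, 1, 2, 3, 3, 2, 3, 2, 1, 2, 1, 2], 1, false),
    ([0, 1, 0, 3, 0, 3, 0, 1, 2, 1, 2, 1, 2, 3, 3, 0, 3, 0, 3, 2, 1, 2, 1, 1, 0, 3, 0, 1, 0, 1, 2, 3, 2, 1, 2, 3, 3, 0, 3, 0, 1, 2, 1, 2, 1, 1, 0, 3, 0, 3, 0, 1, 2, 3, 2, 3, 2, 1, 2, 3, 2, 3, 2, 1, 2, 3, 2, 1, 1, 0, 1, 2, 3, 3, 2, 3, 2, 1, 2, 1, 2, 1, 1, 0, 1, 2, 3, 3], 1, true),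
    ([0, 1, 0, 3, 0, 3, 0, 1, 2, 1, 2, 1, 2, 3, 3, 0, 3, 0, 3, 2, 1, 2, 1, 1, 0, 3, 0, 1, 0, 1, 2, 3, 2, 1, 2, 3, 3, 0, 3, 0, 1, 2, 1, 2, 1, 1, 0, 3, 0, 3, 0, 1, 2, 3, 2, 3, 2, 1, 2, 3, 2, 3, 2, 1, 2, 3, 2, 1, 1, 0, 1, 2, 3, 3], 0, false),
    ([0, 1, 0, 3, 0, 3, 0, 1, 2, 1, 2, 1, 2, 3, 3, 0, 3, 0, 3, 2, 1, 2, 1, 1, 0, 3, 0, 1, 0, 1, 2, 3, 2, 1, 2, 3, 3, 0, 3, 0, 1, 2, 1, 2, 1, 1, 0, 3, 0, 3, 0, 1, 2, 3, 2, 3, 2, 1, 2, 3, 2, 3, 2, 1, 2, 3, 2, 1, 1, 0, 1, 2, 3, 3, 0, 3, 2, 1, 2, 1, 2, 1, 1, 0, 1, 2, 3, 3], 0, false),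
    ([0, 1, 0, 3, 0, 3, 0, 1, 2, 1, 2, 1, 2, 3, 3, 0, 3, 0, 3, 2, 1, 2, 1, 1, 0, 3, 0, 1, 0, 1, 2, 3, 2, 1, 2, 3, 3, 0, 3, 0, 1, 2, 1, 2, 1, 1, 0, 3, 0, 3, 0, 1, 2, 3, 2, 3, 2, 1, 0], 0, false),
    ([0, 1, 0, 3, 0, 3, 0, 1, 2, 1, 2, 1, 2, 3, 3, 0, 3, 0, 3, 2, 1, 2, 1, 1, 0, 3, 0, 1, 0, 1, 2, 3, 2, 1, 2, 3, 3, 0, 3, 0, 1, 2, 1, 2, 1, 1, 0, 3, 0, 3, 0, 1, 2, 3, 2, 3, 2, 1, 0, 3, 2, 3, 2, 1, 2, 3, 2, 1, 1, 0, 1, 2, 3, 3, 0, 3, 0], 0, false),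
    ([0, 1, 0, 3, 0, 3, 0, 1, 2, 1, 2, 1, 2, 3, 3, 0, 3, 0, 3, 2, 1, 2, 1, 1, 0, 3, 0, 1, 0, 1, 2, 3, 2, 1, 2, 3, 3, 0, 3, 0, 1, 2, 1, 2, 1, 1, 0, 3, 0, 3, 0, 1, 2, 3, 2, 3, 2, 1, 0, 3, 2, 3, 2, 1, 2, 3, 2, 1, 1, 0, 1, 2, 3, 3, 0, 3, 0, 1, 2, 1, 2, 1, 1, 0, 1, 2, 3, 3, 0, 3, 0], 0, false),
    ([0, 1, 0, 3, 0, 3, 0, 1, 2, 1, 2, 1, 2, 3, 3, 0, 3, 0, 3, 2, 1, 2, 1, 1, 0, 3, 0, 1, 0, 1, 2, 3, 2, 1, 2, 3, 3, 0, 3, 0, 1, 2, 1, 2, 1, 1, 0, 3, 0, 3, 0, 1, 2, 3, 0], 0, false),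
    ([0, 1, 0, 3, 0, 3, 0, 1, 2, 1, 2, 1, 2, 3, 3, 0, 3, 0, 3, 2, 1, 2, 1, 1, 0, 3, 0, 1, 0, 1, 2, 3, 2, 1, 2, 3, 3, 0, 3, 0, 1, 2, 1, 2, 1, 1, 0, 3, 0, 3, 0, 1, 2, 3, 0, 3, 2, 1, 0, 3, 2, 3, 0], 0, false),
    ([0, 1, 0, 3, 0, 3, 0, 1, 2, 1, 2, 1, 2, 3, 3, 0, 3, 0, 3, 2, 1, 2, 1, 1, 0, 3, 0, 1, 0, 1, 2, 3, 2, 1, 2, 3, 3, 0, 3, 0, 1, 2, 1, 2, 1, 1, 0, 3, 0, 3, 0, 1, 2], 1, false),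
    ([0, 1, 0, 3, 0, 3, 0, 1, 2, 1, 2, 1, 2, 3, 3, 0, 3, 0, 3, 2, 1, 2, 1, 1, 0, 3, 0, 1, 0, 1, 2, 3, 2, 1, 2, 3, 3, 0, 3, 0, 1, 2, 1, 2, 1, 1, 0, 3, 0, 3, 0, 1, 2, 1, 1, 0, 3, 2, 3, 3], 1, true),
    ([0, 1, 0, 3, 0, 3, 0, 1, 2, 1, 2, 1, 2, 3, 3, 0, 3, 0, 3, 2, 1, 2, 1, 1, 0, 3, 0, 1, 0, 1, 2, 3, 2, 1, 2, 3, 3, 0, 3, 0, 1, 2, 1, 2, 1, 1, 0, 3, 0, 3, 0, 1, 2, 1, 1, 0, 3, 2, 3, 3, 0, 3, 2], 1, false),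
    ([0, 1, 0, 3, 0, 3, 0, 1, 2, 1, 2, 1, 2, 3, 3, 0, 3, 0, 3, 2, 1, 2, 1, 1, 0, 3, 0, 1, 0, 1, 2, 3, 2, 1, 2, 3, 3, 0, 3, 0, 1, 2, 1, 2, 1, 1, 0, 3, 0, 3, 0, 1, 2, 1, 1, 0, 3, 2, 3, 3, 0, 3, 2, 1, 1, 0, 1, 2, 3, 2, 1, 2, 3, 3, 0, 3, 0, 3, 2, 1, 2, 1, 1, 0, 3, 0, 1, 0, 1], 0, true),
    ([0, 1, 0, 3, 0, 3, 0, 1, 2, 1, 2, 1, 2, 3, 3, 0, 3, 0, 3, 2, 1, 2, 1, 1, 0, 3, 0, 1, 0, 1, 2, 3, 2, 1, 2, 3, 3, 0, 3, 0, 1, 2, 1, 2, 1, 1, 0, 3, 0, 3, 0, 1, 2, 1, 1, 0, 3, 2, 3, 3, 0, 3, 2, 1, 1, 0, 1, 2, 3, 2, 1, 2, 3, 3, 0, 3, 0, 3, 2, 1, 2, 1, 1, 0, 3, 0, 1, 0, 1, 2, 3, 2, 1, 2, 3, 3, 0, 3, 0, 1, 2, 1, 2, 1, 1, 0, 1, 0, 3, 2, 3], 0, true),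
    ([0, 1, 0, 3, 0, 3, 0, 1, 2, 1, 2, 1, 2, 3, 3, 0, 3, 0, 3, 2, 1, 2, 1, 1, 0, 3, 0, 1, 0, 1, 2, 3, 2, 1, 2, 3, 3, 0, 3, 0, 1, 2, 1, 2, 1, 1, 0, 3, 0, 3, 0, 1, 2, 1, 1, 0, 3, 2, 3, 3, 0, 3, 2, 1, 1, 0, 1, 2, 3, 2, 1, 2, 3, 3, 0, 3, 0, 3, 2, 1, 2, 1, 1, 0, 3, 0, 1, 0, 1, 2, 3, 2, 1, 2, 3, 3, 0, 3, 0, 1, 2, 1, 2, 1, 1, 0, 1, 0, 3, 2, 3, 2, 3, 3, 0, 3, 0, 3, 2, 1, 2, 1, 1, 0, 3, 0, 1, 0, 1, 0, 3, 2, 1], 0, true)] : List Step)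
  ++ ([([0, 1, 0, 3, 0, 3, 0, 1, 2, 1, 2, 1, 2, 3, 3, 0, 3, 0, 3, 2, 1, 2, 1, 1, 0, 3, 0, 1, 0, 1, 2, 3, 2, 1, 2, 3, 3, 0, 3, 0, 1, 2, 1, 2, 1, 1, 0, 3, 0, 3, 0, 1, 2, 1, 1, 0, 3, 2, 3, 3, 0, 3, 2, 1, 1, 0, 1, 2, 3, 2, 1, 2, 3, 3, 0, 3, 0, 3, 2, 1, 2, 1, 1, 0, 3, 0, 1, 0, 1, 2, 3, 2, 1, 2, 3, 3, 0, 3, 0, 1, 2, 1, 2, 1, 1, 0, 1, 0, 3, 2, 3, 2, 3, 3, 0, 3, 0, 3, 2, 1, 2, 1, 1, 0, 3, 0, 1, 0, 1, 0, 3, 2, 1, 2, 2, 3], 0, true),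
    ([0, 1, 0, 3, 0, 3, 0, 1, 2, 1, 2, 1, 2, 3, 3, 0, 3, 0, 3, 2, 1, 2, 1, 1, 0, 3, 0, 1, 0, 1, 2, 3, 2, 1, 2, 3, 3, 0, 3, 0, 1, 2, 1, 2, 1, 1, 0, 3, 0, 3, 0, 1, 2, 1, 1, 0, 3, 2, 3, 3, 0, 3, 2, 1, 1, 0, 1, 2, 3, 2, 1, 2, 3, 3, 0, 3, 0, 3, 2, 1, 2, 1, 1, 0, 3, 0, 1, 0, 1, 2, 3, 2, 1, 2, 3, 3, 0, 3, 0, 1, 2, 1, 2, 1, 1, 0, 1, 0, 3, 2, 3, 2, 3, 3, 0, 3, 0, 3, 2, 1, 2, 1, 1, 0, 3, 0, 1, 0, 1, 0, 3, 2, 1, 2, 2, 3, 2, 1, 2, 3, 2, 3, 2, 1, 2, 3, 3, 0, 3, 0, 1, 2, 1, 2, 1, 1, 2, 1, 0, 1, 2, 3, 2, 3, 3], 1, false),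
    ([0, 1, 0, 3, 0, 3, 0, 1, 2, 1, 2, 1, 2, 3, 3, 0, 3, 0, 3, 2, 1, 2, 1, 1, 0, 3, 0, 1, 0, 1, 2, 3, 2, 1, 2, 3, 3, 0, 3, 0, 1, 2, 1, 2, 1, 1, 0, 3, 0, 3, 0, 1, 2, 1, 1, 0, 3, 2, 3, 3, 0, 3, 2, 1, 1, 0, 1, 2, 3, 2, 1, 2, 3, 3, 0, 3, 0, 3, 2, 1, 2, 1, 1, 0, 3, 0, 1, 0, 1, 2, 3, 2, 1, 2, 3, 3, 0, 3, 0, 1, 2, 1, 2, 1, 1, 0, 1, 0, 3, 2, 3, 2, 3, 3, 0, 3, 0, 3, 2, 1, 2, 1, 1, 0, 3, 0, 1, 0, 1, 0, 3, 2, 1, 2, 2, 3, 2, 1, 2, 3, 2, 3, 2, 1, 2, 3, 3, 0, 3, 0, 1, 2, 1, 2], 1, true),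
    ([0, 1, 0, 3, 0, 3, 0, 1, 2, 1, 2, 1, 2, 3, 3, 0, 3, 0, 3, 2, 1, 2, 1, 1, 0, 3, 0, 1, 0, 1, 2, 3, 2, 1, 2, 3, 3, 0, 3, 0, 1, 2, 1, 2, 1, 1, 0, 3, 0, 3, 0, 1, 2, 1, 1, 0, 3, 2, 3, 3, 0, 3, 2, 1, 1, 0, 1, 2, 3, 2, 1, 2, 3, 3, 0, 3, 0, 3, 2, 1, 2, 1, 1, 0, 3, 0, 1, 0, 1, 2, 3, 2, 1, 2, 3, 3, 0, 3, 0, 1, 2, 1, 2, 1, 1, 0, 1, 0, 3, 2, 3, 2, 3, 3, 0, 3, 0, 3, 2, 1, 2, 1, 1, 0, 3, 0, 1, 0, 1, 0, 3, 2, 1, 2, 2, 3, 2, 1, 2, 3, 2, 3, 2, 1, 2, 3, 3], 1, false),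
    ([0, 1, 0, 3, 0, 3, 0, 1, 2, 1, 2, 1, 2, 3, 3, 0, 3, 0, 3, 2, 1, 2, 1, 1, 0, 3, 0, 1, 0, 1, 2, 3, 2, 1, 2, 3, 3, 0, 3, 0, 1, 2, 1, 2, 1, 1, 0, 3, 0, 3, 0, 1, 2, 1, 1, 0, 3, 2, 3, 3, 0, 3, 2, 1, 1, 0, 1, 2, 3, 2, 1, 2, 3, 3, 0, 3, 0, 3, 2, 1, 2, 1, 1, 0, 3, 0, 1, 0, 1, 2, 3, 2, 1, 2, 3, 3, 0, 3, 0, 1, 2, 1, 2, 1, 1, 0, 1, 0, 3, 2, 3, 2, 3, 3, 0, 3, 0, 3, 2, 1, 2, 1, 1, 0, 3, 0, 1, 0, 1, 0, 3, 2, 1, 2, 3, 3], 1, true),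
    ([0, 1, 0, 3, 0, 3, 0, 1, 2, 1, 2, 1, 2, 3, 3, 0, 3, 0, 3, 2, 1, 2, 1, 1, 0, 3, 0, 1, 0, 1, 2, 3, 2, 1, 2, 3, 3, 0, 3, 0, 1, 2, 1, 2, 1, 1, 0, 3, 0, 3, 0, 1, 2, 1, 1, 0, 3, 2, 3, 3, 0, 3, 2, 1, 1, 0, 1, 2, 3, 2, 1, 2, 3, 3, 0, 3, 0, 3, 2, 1, 2, 1, 1, 0, 3, 0, 1, 0, 1, 2, 3, 2, 1, 2, 3, 3, 0, 3, 0, 1, 2, 1, 2, 1, 1, 0, 1, 0, 3, 2, 3, 2, 3, 3, 0, 3, 0, 3, 2, 1, 2, 1, 1, 0, 3, 0, 1, 0, 1, 0, 3, 2, 1, 2, 3, 3, 3, 2, 3, 2, 1, 2, 3, 2, 3, 2, 1, 2, 1, 0, 3, 0, 1, 2, 1, 2, 3, 2, 1, 0], 0, true),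
    ([0, 1, 0, 3, 0, 3, 0, 1, 2, 1, 2, 1, 2, 3, 3, 0, 3, 0, 3, 2, 1, 2, 1, 1, 0, 3, 0, 1, 0, 1, 2, 3, 2, 1, 2, 3, 3, 0, 3, 0, 1, 2, 1, 2, 1, 1, 0, 3, 0, 3, 0, 1, 2, 1, 1, 0, 3, 2, 3, 3, 0, 3, 2, 1, 1, 0, 1, 2, 3, 2, 1, 2, 3, 3, 0, 3, 0, 3, 2, 1, 2, 1, 1, 0, 3, 0, 1, 0, 1, 2, 3, 2, 1, 2, 3, 3, 0, 3, 0, 1, 2, 1, 2, 1, 1, 0, 1, 0, 3, 2, 3, 2, 3, 3, 0, 3, 0, 3, 2, 1, 2, 1, 1, 0, 3, 0, 1, 0, 1, 0, 3, 2, 1, 2, 3, 3, 3, 2, 3, 2, 1, 2, 3, 2, 3, 2, 1, 2, 1, 0, 3, 0, 1, 2, 1, 2, 3, 2, 1, 2, 1, 2, 3, 2, 1], 0, true),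
    ([0, 1, 0, 3, 0, 3, 0, 1, 2, 1, 2, 1, 2, 3, 3, 0, 3, 0, 3, 2, 1, 2, 1, 1, 0, 3, 0, 1, 0, 1, 2, 3, 2, 1, 2, 3, 3, 0, 3, 0, 1, 2, 1, 2, 1, 1, 0, 3, 0, 3, 0, 1, 2, 1, 1, 0, 3, 2, 3, 3, 0, 3, 2, 1, 1, 0, 1, 2, 3, 2, 1, 2, 3, 3, 0, 3, 0, 3, 2, 1, 2, 1, 1, 0, 3, 0, 1, 0, 1, 2, 3, 2, 1, 2, 3, 3, 0, 3, 0, 1, 2, 1, 2, 1, 1, 0, 1, 0, 3, 2, 3, 2, 3, 3, 0, 3, 0, 3, 2, 1, 2, 1, 1, 0, 3, 0, 1, 0, 1, 0, 3, 2, 1, 2, 3, 3, 3, 2, 3, 2, 1, 2, 3, 2, 3, 2, 1, 2, 1], 0, true),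
    ([0, 1, 0, 3, 0, 3, 0, 1, 2, 1, 2, 1, 2, 3, 3, 0, 3, 0, 3, 2, 1, 2, 1, 1, 0, 3, 0, 1, 0, 1, 2, 3, 2, 1, 2, 3, 3, 0, 3, 0, 1, 2, 1, 2, 1, 1, 0, 3, 0, 3, 0, 1, 2, 1, 1, 0, 3, 2, 3, 3, 0, 3, 2, 1, 1, 0, 1, 2, 3, 2, 1, 2, 3, 3, 0, 3, 0, 3, 2, 1, 2, 1, 1, 0, 3, 0, 1, 0, 1, 2, 3, 2, 1, 2, 3, 3, 0, 3, 0, 1, 2, 1, 2, 1, 1, 0, 1, 0, 3, 2, 3, 2, 3, 3, 0, 3, 0, 3, 2, 1, 2, 1, 1, 0, 3, 0, 1, 0, 1, 0, 3, 2, 1, 2, 3, 3, 3, 2, 3, 2, 1, 2, 3, 2, 3, 2, 1, 2, 1, 2, 3, 0, 1, 2, 1, 2, 3, 2, 1, 2, 1, 2, 3, 2, 1, 2, 3, 0], 0, true),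
    ([0, 1, 0, 3, 0, 3, 0, 1, 2, 1, 2, 1, 2, 3, 3, 0, 3, 0, 3, 2, 1, 2, 1, 1, 0, 3, 0, 1, 0, 1, 2, 3, 2, 1, 2, 3, 3, 0, 3, 0, 1, 2, 1, 2, 1, 1, 0, 3, 0, 3, 0, 1, 2, 1, 1, 0, 3, 2, 3, 3, 0, 3, 2, 1, 1, 0, 1, 2, 3, 2, 1, 2, 3, 3, 0, 3, 0, 3, 2, 1, 2, 1, 1, 0, 3, 0, 1, 0, 1, 2, 3, 2, 1, 2, 3, 3, 0, 3, 0, 1, 2, 1, 2, 1, 1, 0, 1, 0, 3, 2, 3, 2, 3, 3, 0, 3, 0, 3, 2, 1, 2, 1, 1, 0, 3, 0, 1, 0, 1, 0, 3, 2, 1, 2, 3, 3, 3, 2, 3, 2, 1, 2, 3, 2, 3, 2, 1, 2, 1, 2, 3, 0], 0, true),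
    ([0, 1, 0, 3, 0, 3, 0, 1, 2, 1, 2, 1, 2, 3, 3, 0, 3, 0, 3, 2, 1, 2, 1, 1, 0, 3, 0, 1, 0, 1, 2, 3, 2, 1, 2, 3, 3, 0, 3, 0, 1, 2, 1, 2, 1, 1, 0, 3, 0, 3, 0, 1, 2, 1, 1, 0, 3, 2, 3, 3, 0, 3, 2, 1, 1, 0, 1, 2, 3, 2, 1, 2, 3, 3, 0, 3, 0, 3, 2, 1, 2, 1, 1, 0, 3, 0, 1, 0, 1, 2, 3, 2, 1, 2, 3, 3, 0, 3, 0, 1, 2, 1, 2, 1, 1, 0, 1, 0, 3, 2, 3, 2, 3, 3, 0, 3, 0, 3, 2, 1, 2, 1, 1, 0, 3, 0, 1, 0, 1, 0, 3, 2, 1, 2, 3, 3, 0, 3, 0, 1, 0, 1, 0, 3, 0, 1, 0, 3, 0, 3, 0, 1, 0, 3, 0, 3, 0, 1, 0, 3, 0, 3], 6, false),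
    ([0, 1, 0, 3, 0, 3, 0, 1, 2, 1, 2, 1, 2, 3, 3, 0, 3, 0, 3, 2, 1, 2, 1, 1, 0, 3, 0, 1, 0, 1, 2, 3, 2, 1, 2, 3, 3, 0, 3, 0, 1, 2, 1, 2, 1, 1, 0, 3, 0, 3, 0, 1, 2, 1, 1, 0, 3, 2, 3, 3, 0, 3, 2, 1, 1, 0, 1, 2, 3, 2, 1, 2, 3, 3, 0, 3, 0, 3, 2, 1, 2, 1, 1, 0, 3, 0, 1, 0, 1, 2, 3, 2, 1, 2, 3, 3, 0, 3, 0, 1, 2, 1, 2, 1, 1, 0, 3, 0, 3, 0, 1, 2, 1, 2, 1, 2, 3, 3, 0, 3, 0, 3, 2, 1, 2, 1, 1, 0, 3, 0, 1, 0, 1], 0, true),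
    ([0, 1, 0, 3, 0, 3, 0, 1, 2, 1, 2, 1, 2, 3, 3, 0, 3, 0, 3, 2, 1, 2, 1, 1, 0, 3, 0, 1, 0, 1, 2, 3, 2, 1, 2, 3, 3, 0, 3, 0, 1, 2, 1, 2, 1, 1, 0, 3, 0, 3, 0, 1, 2, 1, 1, 0, 3, 2, 3, 3, 0, 3, 2, 1, 1, 0, 1, 2, 3, 2, 1, 2, 3, 3, 0, 3, 0, 3, 2, 1, 2, 1, 1, 0, 3, 0, 1, 0, 1, 2, 3, 2, 1, 2, 3, 3, 0, 3, 0, 1, 2, 1, 2, 1, 1, 0, 3, 0, 3, 0, 1, 2, 1, 2, 1, 2, 3, 3, 0, 3, 0, 3, 2, 1, 2, 1, 1, 0, 3, 0, 1, 0, 1, 2, 3, 2, 1, 2, 3, 3, 0, 3, 0, 1, 2, 1, 2, 1, 1, 0, 1, 0, 3, 2, 3], 0, true),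
    ([0, 1, 0, 3, 0, 3, 0, 1, 2, 1, 2, 1, 2, 3, 3, 0, 3, 0, 3, 2, 1, 2, 1, 1, 0, 3, 0, 1, 0, 1, 2, 3, 2, 1, 2, 3, 3, 0, 3, 0, 1, 2, 1, 2, 1, 1, 0, 3, 0, 3, 0, 1, 2, 1, 1, 0, 3, 2, 3, 3, 0, 3, 2, 1, 1, 0, 1, 2, 3, 2, 1, 2, 3, 3, 0, 3, 0, 3, 2, 1, 2, 1, 1, 0, 3, 0, 1, 0, 1, 2, 3, 2, 1, 2, 3, 3, 0, 3, 0, 1, 2, 1, 2, 1, 1, 0, 3, 0, 3, 0, 1, 2, 1, 2, 1, 2, 3, 3, 0, 3, 0, 3, 2, 1, 2, 1, 1, 0, 3, 0, 1, 0, 1, 2, 3, 2, 1, 2, 3, 3, 0, 3, 0, 1, 2, 1, 2, 1, 1, 0, 1, 0, 3, 2, 3, 2, 3, 3, 0, 3, 0, 3, 2, 1, 2, 1, 1, 0, 3, 0, 1, 0, 1, 0, 3, 2, 1], 0, true),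
    ([0, 1, 0, 3, 0, 3, 0, 1, 2, 1, 2, 1, 2, 3, 3, 0, 3, 0, 3, 2, 1, 2, 1, 1, 0, 3, 0, 1, 0, 1, 2, 3, 2, 1, 2, 3, 3, 0, 3, 0, 1, 2, 1, 2, 1, 1, 0, 3, 0, 3, 0, 1, 2, 1, 1, 0, 3, 2, 3, 3, 0, 3, 2, 1, 1, 0, 1, 2, 3, 2, 1, 2, 3, 3, 0, 3, 0, 3, 2, 1, 2, 1, 1, 0, 3, 0, 1, 0, 1, 2, 3, 2, 1, 2, 3, 3, 0, 3, 0, 1, 2, 1, 2, 1, 1, 0, 3, 0, 3, 0, 1, 2, 1, 2, 1, 2, 3, 3, 0, 3, 0, 3, 2, 1, 2, 1, 1, 0, 3, 0, 1, 0, 1, 2, 3, 2, 1, 2, 3, 3, 0, 3, 0, 1, 2, 1, 2, 1, 1, 0, 1, 0, 3, 2, 3, 2, 3, 3, 0, 3, 0, 3, 2, 1, 2, 1, 1, 0, 3, 0, 1, 0, 1, 0, 3, 2, 1, 2, 2, 3], 0, true),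
    ([0, 1, 0, 3, 0, 3, 0, 1, 2, 1, 2, 1, 2, 3, 3, 0, 3, 0, 3, 2, 1, 2, 1, 1, 0, 3, 0, 1, 0, 1, 2, 3, 2, 1, 2, 3, 3, 0, 3, 0, 1, 2, 1, 2, 1, 1, 0, 3, 0, 3, 0, 1, 2, 1, 1, 0, 3, 2, 3, 3, 0, 3, 2, 1, 1, 0, 1, 2, 3, 2, 1, 2, 3, 3, 0, 3, 0, 3, 2, 1, 2, 1, 1, 0, 3, 0, 1, 0, 1, 2, 3, 2, 1, 2, 3, 3, 0, 3, 0, 1, 2, 1, 2, 1, 1, 0, 3, 0, 3, 0, 1, 2, 1, 2, 1, 2, 3, 3, 0, 3, 0, 3, 2, 1, 2, 1, 1, 0, 3, 0, 1, 0, 1, 2, 3, 2, 1, 2, 3, 3, 0, 3, 0, 1, 2, 1, 2, 1, 1, 0, 1, 0, 3, 2, 3, 2, 3, 3, 0, 3, 0, 3, 2, 1, 2, 1, 1, 0, 3, 0, 1, 0, 1, 0, 3, 2, 1, 2, 2, 3, 2, 1, 2, 3, 2, 3, 2, 1, 2, 3, 3, 0, 3, 0, 1, 2, 1, 2, 1, 1, 2, 1, 0, 1, 2, 3, 2, 3, 3], 1, false),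
    ([0, 1, 0, 3, 0, 3, 0, 1, 2, 1, 2, 1, 2, 3, 3, 0, 3, 0, 3, 2, 1, 2, 1, 1, 0, 3, 0, 1, 0, 1, 2, 3, 2, 1, 2, 3, 3, 0, 3, 0, 1, 2, 1, 2, 1, 1, 0, 3, 0, 3, 0, 1, 2, 1, 1, 0, 3, 2, 3, 3, 0, 3, 2, 1, 1, 0, 1, 2, 3, 2, 1, 2, 3, 3, 0, 3, 0, 3, 2, 1, 2, 1, 1, 0, 3, 0, 1, 0, 1, 2, 3, 2, 1, 2, 3, 3, 0, 3, 0, 1, 2, 1, 2, 1, 1, 0, 3, 0, 3, 0, 1, 2, 1, 2, 1, 2, 3, 3, 0, 3, 0, 3, 2, 1, 2, 1, 1, 0, 3, 0, 1, 0, 1, 2, 3, 2, 1, 2, 3, 3, 0, 3, 0, 1, 2, 1, 2, 1, 1, 0, 1, 0, 3, 2, 3, 2, 3, 3, 0, 3, 0, 3, 2, 1, 2, 1, 1, 0, 3, 0, 1, 0, 1, 0, 3, 2, 1, 2, 2, 3, 2, 1, 2, 3, 2, 3, 2, 1, 2, 3, 3, 0, 3, 0, 1, 2, 1, 2], 1, true),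
    ([0, 1, 0, 3, 0, 3, 0, 1, 2, 1, 2, 1, 2, 3, 3, 0, 3, 0, 3, 2, 1, 2, 1, 1, 0, 3, 0, 1, 0, 1, 2, 3, 2, 1, 2, 3, 3, 0, 3, 0, 1, 2, 1, 2, 1, 1, 0, 3, 0, 3, 0, 1, 2, 1, 1, 0, 3, 2, 3, 3, 0, 3, 2, 1, 1, 0, 1, 2, 3, 2, 1, 2, 3, 3, 0, 3, 0, 3, 2, 1, 2, 1, 1, 0, 3, 0, 1, 0, 1, 2, 3, 2, 1, 2, 3, 3, 0, 3, 0, 1, 2, 1, 2, 1, 1, 0, 3, 0, 3, 0, 1, 2, 1, 2, 1, 2, 3, 3, 0, 3, 0, 3, 2, 1, 2, 1, 1, 0, 3, 0, 1, 0, 1, 2, 3, 2, 1, 2, 3, 3, 0, 3, 0, 1, 2, 1, 2, 1, 1, 0, 1, 0, 3, 2, 3, 2, 3, 3, 0, 3, 0, 3, 2, 1, 2, 1, 1, 0, 3, 0, 1, 0, 1, 0, 3, 2, 1, 2, 2, 3, 2, 1, 2, 3, 2, 3, 2, 1, 2, 3, 3], 1, false),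
    ([0, 1, 0, 3, 0, 3, 0, 1, 2, 1, 2, 1, 2, 3, 3, 0, 3, 0, 3, 2, 1, 2, 1, 1, 0, 3, 0, 1, 0, 1, 2, 3, 2, 1, 2, 3, 3, 0, 3, 0, 1, 2, 1, 2, 1, 1, 0, 3, 0, 3, 0, 1, 2, 1, 1, 0, 3, 2, 3, 3, 0, 3, 2, 1, 1, 0, 1, 2, 3, 2, 1, 2, 3, 3, 0, 3, 0, 3, 2, 1, 2, 1, 1, 0, 3, 0, 1, 0, 1, 2, 3, 2, 1, 2, 3, 3, 0, 3, 0, 1, 2, 1, 2, 1, 1, 0, 3, 0, 3, 0, 1, 2, 1, 2, 1, 2, 3, 3, 0, 3, 0, 3, 2, 1, 2, 1, 1, 0, 3, 0, 1, 0, 1, 2, 3, 2, 1, 2, 3, 3, 0, 3, 0, 1, 2, 1, 2, 1, 1, 0, 1, 0, 3, 2, 3, 2, 3, 3, 0, 3, 0, 3, 2, 1, 2, 1, 1, 0, 3, 0, 1, 0, 1, 0, 3, 2, 1, 2, 3, 3], 1, true),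
    ([0, 1, 0, 3, 0, 3, 0, 1, 2, 1, 2, 1, 2, 3, 3, 0, 3, 0, 3, 2, 1, 2, 1, 1, 0, 3, 0, 1, 0, 1, 2, 3, 2, 1, 2, 3, 3, 0, 3, 0, 1, 2, 1, 2, 1, 1, 0, 3, 0, 3, 0, 1, 2, 1, 1, 0, 3, 2, 3, 3, 0, 3, 2, 1, 1, 0, 1, 2, 3, 2, 1, 2, 3, 3, 0, 3, 0, 3, 2, 1, 2, 1, 1, 0, 3, 0, 1, 0, 1, 2, 3, 2, 1, 2, 3, 3, 0, 3, 0, 1, 2, 1, 2, 1, 1, 0, 3, 0, 3, 0, 1, 2, 1, 2, 1, 2, 3, 3, 0, 3, 0, 3, 2, 1, 2, 1, 1, 0, 3, 0, 1, 0, 1, 2, 3, 2, 1, 2, 3, 3, 0, 3, 0, 1, 2, 1, 2, 1, 1, 0, 1, 0, 3, 2, 3, 2, 3, 3, 0, 3, 0, 3, 2, 1, 2, 1, 1, 0, 3, 0, 1, 0, 1, 0, 3, 2, 1, 2, 3, 3, 3, 2, 3, 2, 1, 2, 3, 2, 3, 2, 1, 2, 1, 0, 3, 0, 1, 2, 1, 2, 3, 2, 1, 0], 0, true)] : List Step)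
  ++ ([([0, 1, 0, 3, 0, 3, 0, 1, 2, 1, 2, 1, 2, 3, 3, 0, 3, 0, 3, 2, 1, 2, 1, 1, 0, 3, 0, 1, 0, 1, 2, 3, 2, 1, 2, 3, 3, 0, 3, 0, 1, 2, 1, 2, 1, 1, 0, 3, 0, 3, 0, 1, 2, 1, 1, 0, 3, 2, 3, 3, 0, 3, 2, 1, 1, 0, 1, 2, 3, 2, 1, 2, 3, 3, 0, 3, 0, 3, 2, 1, 2, 1, 1, 0, 3, 0, 1, 0, 1, 2, 3, 2, 1, 2, 3, 3, 0, 3, 0, 1, 2, 1, 2, 1, 1, 0, 3, 0, 3, 0, 1, 2, 1, 2, 1, 2, 3, 3, 0, 3, 0, 3, 2, 1, 2, 1, 1, 0, 3, 0, 1, 0, 1, 2, 3, 2, 1, 2, 3, 3, 0, 3, 0, 1, 2, 1, 2, 1, 1, 0, 1, 0, 3, 2, 3, 2, 3, 3, 0, 3, 0, 3, 2, 1, 2, 1, 1, 0, 3, 0, 1, 0, 1, 0, 3, 2, 1, 2, 3, 3, 3, 2, 3, 2, 1, 2, 3, 2, 3, 2, 1, 2, 1, 0, 3, 0, 1, 2, 1, 2, 3, 2, 1, 2, 1, 2, 3, 2, 1], 0, true),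
    ([0, 1, 0, 3, 0, 3, 0, 1, 2, 1, 2, 1, 2, 3, 3, 0, 3, 0, 3, 2, 1, 2, 1, 1, 0, 3, 0, 1, 0, 1, 2, 3, 2, 1, 2, 3, 3, 0, 3, 0, 1, 2, 1, 2, 1, 1, 0, 3, 0, 3, 0, 1, 2, 1, 1, 0, 3, 2, 3, 3, 0, 3, 2, 1, 1, 0, 1, 2, 3, 2, 1, 2, 3, 3, 0, 3, 0, 3, 2, 1, 2, 1, 1, 0, 3, 0, 1, 0, 1, 2, 3, 2, 1, 2, 3, 3, 0, 3, 0, 1, 2, 1, 2, 1, 1, 0, 3, 0, 3, 0, 1, 2, 1, 2, 1, 2, 3, 3, 0, 3, 0, 3, 2, 1, 2, 1, 1, 0, 3, 0, 1, 0, 1, 2, 3, 2, 1, 2, 3, 3, 0, 3, 0, 1, 2, 1, 2, 1, 1, 0, 1, 0, 3, 2, 3, 2, 3, 3, 0, 3, 0, 3, 2, 1, 2, 1, 1, 0, 3, 0, 1, 0, 1, 0, 3, 2, 1, 2, 3, 3, 3, 2, 3, 2, 1, 2, 3, 2, 3, 2, 1, 2, 1], 0, true),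
    ([0, 1, 0, 3, 0, 3, 0, 1, 2, 1, 2, 1, 2, 3, 3, 0, 3, 0, 3, 2, 1, 2, 1, 1, 0, 3, 0, 1, 0, 1, 2, 3, 2, 1, 2, 3, 3, 0, 3, 0, 1, 2, 1, 2, 1, 1, 0, 3, 0, 3, 0, 1, 2, 1, 1, 0, 3, 2, 3, 3, 0, 3, 2, 1, 1, 0, 1, 2, 3, 2, 1, 2, 3, 3, 0, 3, 0, 3, 2, 1, 2, 1, 1, 0, 3, 0, 1, 0, 1, 2, 3, 2, 1, 2, 3, 3, 0, 3, 0, 1, 2, 1, 2, 1, 1, 0, 3, 0, 3, 0, 1, 2, 1, 2, 1, 2, 3, 3, 0, 3, 0, 3, 2, 1, 2, 1, 1, 0, 3, 0, 1, 0, 1, 2, 3, 2, 1, 2, 3, 3, 0, 3, 0, 1, 2, 1, 2, 1, 1, 0, 1, 0, 3, 2, 3, 2, 3, 3, 0, 3, 0, 3, 2, 1, 2, 1, 1, 0, 3, 0, 1, 0, 1, 0, 3, 2, 1, 2, 3, 3, 3, 2, 3, 2, 1, 2, 3, 2, 3, 2, 1, 2, 1, 2, 3, 0, 1, 2, 1, 2, 3, 2, 1, 2, 1, 2, 3, 2, 1, 2, 3, 0],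 0, true),
    ([0, 1, 0, 3, 0, 3, 0, 1, 2, 1, 2, 1, 2, 3, 3, 0, 3, 0, 3, 2, 1, 2, 1, 1, 0, 3, 0, 1, 0, 1, 2, 3, 2, 1, 2, 3, 3, 0, 3, 0, 1, 2, 1, 2, 1, 1, 0, 3, 0, 3, 0, 1, 2, 1, 1, 0, 3, 2, 3, 3, 0, 3, 2, 1, 1, 0, 1, 2, 3, 2, 1, 2, 3, 3, 0, 3, 0, 3, 2, 1, 2, 1, 1, 0, 3, 0, 1, 0, 1, 2, 3, 2, 1, 2, 3, 3, 0, 3, 0, 1, 2, 1, 2, 1, 1, 0, 3, 0, 3, 0, 1, 2, 1, 2, 1, 2, 3, 3, 0, 3, 0, 3, 2, 1, 2, 1, 1, 0, 3, 0, 1, 0, 1, 2, 3, 2, 1, 2, 3, 3, 0, 3, 0, 1, 2, 1, 2, 1, 1, 0, 1, 0, 3, 2, 3, 2, 3, 3, 0, 3, 0, 3, 2, 1, 2, 1, 1, 0, 3, 0, 1, 0, 1, 0, 3, 2, 1, 2, 3, 3, 3, 2, 3, 2, 1, 2, 3, 2, 3, 2, 1, 2, 1, 2, 3, 0], 0, true),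
    ([0, 1, 0, 3, 0, 3, 0, 1, 2, 1, 2, 1, 2, 3, 3, 0, 3, 0, 3, 2, 1, 2, 1, 1, 0, 3, 0, 1, 0, 1, 2, 3, 2, 1, 2, 3, 3, 0, 3, 0, 1, 2, 1, 2, 1, 1, 0, 3, 0, 3, 0, 1, 2, 1, 1, 0, 3, 2, 3, 3, 0, 3, 2, 1, 1, 0, 1, 2, 3, 2, 1, 2, 3, 3, 0, 3, 0, 3, 2, 1, 2, 1, 1, 0, 3, 0, 1, 0, 1, 2, 3, 2, 1, 2, 3, 3, 0, 3, 0, 1, 2, 1, 2, 1, 1, 0, 3, 0, 3, 0, 1, 2, 1, 2, 1, 2, 3, 3, 0, 3, 0, 3, 2, 1, 2, 1, 1, 0, 3, 0, 1, 0, 1, 2, 3, 2, 1, 2, 3, 3, 0, 3, 0, 1, 2, 1, 2, 1, 1, 0, 1, 0, 3, 2, 3, 2, 3, 3, 0, 3, 0, 3, 2, 1, 2, 1, 1, 0, 3, 0, 1, 0, 1, 0, 3, 2, 1, 2, 3, 3, 0, 3, 0, 1, 0, 1, 0, 3, 0, 1, 0, 3, 0, 3, 0, 1, 0, 3, 0, 3, 0, 1, 0, 3, 0, 3], 6, false)] : List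 Step)

/-- A derivation. -/
def sixDeriv25 : List Step :=
  ([([1, 0, 3, 2, 3, 3, 0, 3, 2, 1, 0, 3, 0, 1, 0, 3, 0, 3, 2, 3, 3, 0, 3, 3, 2, 1, 2, 1, 1, 0, 3, 0, 1, 0], 0, true),
    ([1, 0, 3, 2, 3, 3, 0, 3, 2, 1, 0, 3, 0, 1, 0, 3, 0, 3, 2, 3, 3, 0, 3, 2, 1, 2, 1, 1, 0, 1, 0, 3, 2, 3], 0, true),
    ([1, 0, 3, 2, 3, 3, 0, 3, 2, 1, 0, 3, 0, 1, 0, 3, 0, 3, 2, 3, 3, 0, 3, 2, 1, 2, 1, 1, 0, 1, 0, 3, 2, 3, 2, 3, 3, 0, 3, 0, 3, 2, 1, 2, 1, 1, 0, 3, 0, 1, 0, 1, 0, 3, 2, 1], 0, true),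
    ([1, 0, 3, 2, 3, 3, 0, 3, 2, 1, 0, 3, 0, 1, 0, 3, 0, 3, 2, 3, 3, 0, 3, 2, 1, 2, 1, 1, 0, 1, 0, 3, 2, 3, 2, 3, 3, 0, 3, 0, 3, 2, 1, 2, 1, 1, 0, 3, 0, 1, 0, 1, 0, 3, 2, 1, 2, 2, 3], 0, true),
    ([1, 0, 3, 2, 3, 3, 0, 3, 2, 1, 0, 3, 0, 1, 0, 3, 0, 3, 2, 3, 3, 0, 3, 2, 1, 2, 1, 1, 0, 1, 0, 3, 2, 3, 2, 3, 3, 0, 3, 0, 3, 2, 1, 2, 1, 1, 0, 3, 0, 1, 0, 1, 0, 3, 2, 1, 2, 2, 3, 2, 1, 2, 3, 2, 3, 2, 1, 2, 3, 3, 0, 3, 0, 1, 2, 1, 2, 1, 1, 2, 1, 0, 1, 2, 3, 2, 3, 3], 1, false),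
    ([1, 0, 3, 2, 3, 3, 0, 3, 2, 1, 0, 3, 0, 1, 0, 3, 0, 3, 2, 3, 3, 0, 3, 2, 1, 2, 1, 1, 0, 1, 0, 3, 2, 3, 2, 3, 3, 0, 3, 0, 3, 2, 1, 2, 1, 1, 0, 3, 0, 1, 0, 1, 0, 3, 2, 1, 2, 2, 3, 2, 1, 2, 3, 2, 3, 2, 1, 2, 3, 3, 0, 3, 0, 1, 2, 1, 2], 1, true),
    ([1, 0, 3, 2, 3, 3, 0, 3, 2, 1, 0, 3, 0, 1, 0, 3, 0, 3, 2, 3, 3, 0, 3, 2, 1, 2, 1, 1, 0, 1, 0, 3, 2, 3, 2, 3, 3, 0, 3, 0, 3, 2, 1, 2, 1, 1, 0, 3, 0, 1, 0, 1, 0, 3, 2, 1, 2, 2, 3, 2, 1, 2, 3, 2, 3, 2, 1, 2, 3, 3], 1, false),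
    ([1, 0, 3, 2, 3, 3, 0, 3, 2, 1, 0, 3, 0, 1, 0, 3, 0, 3, 2, 3, 3, 0, 3, 2, 1, 2, 1, 1, 0, 1, 0, 3, 2, 3, 2, 3, 3, 0, 3, 0, 3, 2, 1, 2, 1, 1, 0, 3, 0, 1, 0, 1, 0, 3, 2, 1, 2, 3, 3], 1, true),
    ([1, 0, 3, 2, 3, 3, 0, 3, 2, 1, 0, 3, 0, 1, 0, 3, 0, 3, 2, 3, 3, 0, 3, 2, 1, 2, 1, 1, 0, 1, 0, 3, 2, 3, 2, 3, 3, 0, 3, 0, 3, 2, 1, 2, 1, 1, 0, 3, 0, 1, 0, 1, 0, 3, 2, 1, 2, 3, 3, 3, 2, 3, 2, 1, 2, 3, 2, 3, 2, 1, 2, 1, 0, 3, 0, 1, 2, 1, 2, 3, 2, 1, 0], 0, true),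
    ([1, 0, 3, 2, 3, 3, 0, 3, 2, 1, 0, 3, 0, 1, 0, 3, 0, 3, 2, 3, 3, 0, 3, 2, 1, 2, 1, 1, 0, 1, 0, 3, 2, 3, 2, 3, 3, 0, 3, 0, 3, 2, 1, 2, 1, 1, 0, 3, 0, 1, 0, 1, 0, 3, 2, 1, 2, 3, 3, 3, 2, 3, 2, 1, 2, 3, 2, 3, 2, 1, 2, 1, 0, 3, 0, 1, 2, 1, 2, 3, 2, 1, 2, 1, 2, 3, 2, 1], 0, true),
    ([1, 0, 3, 2, 3, 3, 0, 3, 2, 1, 0, 3, 0, 1, 0, 3, 0, 3, 2, 3, 3, 0, 3, 2, 1, 2, 1, 1, 0, 1, 0, 3, 2, 3, 2, 3, 3, 0, 3, 0, 3, 2, 1, 2, 1, 1, 0, 3, 0, 1, 0, 1, 0, 3, 2, 1, 2, 3, 3, 3, 2, 3, 2, 1, 2, 3, 2, 3, 2, 1, 2, 1], 0, true),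
    ([1, 0, 3, 2, 3, 3, 0, 3, 2, 1, 0, 3, 0, 1, 0, 3, 0, 3, 2, 3, 3, 0, 3, 2, 1, 2, 1, 1, 0, 1, 0, 3, 2, 3, 2, 3, 3, 0, 3, 0, 3, 2, 1, 2, 1, 1, 0, 3, 0, 1, 0, 1, 0, 3, 2, 1, 2, 3, 3, 3, 2, 3, 2, 1, 2, 3, 2, 3, 2, 1, 2, 1, 2, 3, 0, 1, 2, 1, 2, 3, 2, 1, 2, 1, 2, 3, 2, 1, 2, 3, 0], 0, true),
    ([1, 0, 3, 2, 3, 3, 0, 3, 2, 1, 0, 3, 0, 1, 0, 3, 0, 3, 2, 3, 3, 0, 3, 2, 1, 2, 1, 1, 0, 1, 0, 3, 2, 3, 2, 3, 3, 0, 3, 0, 3, 2, 1, 2, 1, 1, 0, 3, 0, 1, 0, 1, 0, 3, 2, 1, 2, 3, 3, 3, 2, 3, 2, 1, 2, 3, 2, 3, 2, 1, 2, 1, 2, 3, 0], 0, true),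
    ([1, 0, 3, 2, 3, 3, 0, 3, 2, 1, 0, 3, 0, 1, 0, 3, 0, 3, 2, 3, 3, 0, 3, 2, 1, 2, 1, 1, 0, 1, 0, 3, 2, 3, 2, 3, 3, 0, 3, 0, 3, 2, 1, 2, 1, 1, 0, 3, 0, 1, 0, 1, 0, 3, 2, 1, 2, 3, 3, 0, 3, 0, 1, 0, 1, 0, 3, 0, 1, 0, 3, 0, 3, 0, 1, 0, 3, 0, 3, 0, 1, 0, 3, 0, 3], 6, false),
    ([1, 0, 3, 2, 3, 3, 0, 3, 2, 1, 0, 3, 0, 1, 0, 3, 0], 0, true),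
    ([1, 0, 3, 2, 3, 3, 0, 3, 2, 1, 0, 3, 0, 1, 0, 3, 2, 3, 2, 3, 3, 0, 3, 2, 1, 2, 1, 1, 0, 1, 0, 3, 2, 3, 2, 3, 3, 0, 3, 0, 1, 2, 1, 1, 0, 1, 2, 1, 1, 2, 1, 1], 1, true),
    ([1, 0, 3, 2, 3, 3, 0, 3, 2, 1, 0, 3, 0, 1, 0, 3, 2, 3, 2, 3, 3, 0, 3, 2, 1, 2, 1, 1, 0, 1, 0, 3, 2, 3, 2, 3, 3, 0, 3, 0, 1, 2, 1, 1, 0, 1, 2, 1, 1], 1, true),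
    ([1, 0, 3, 2, 3, 3, 0, 3, 2, 1, 0, 3, 0, 1, 0, 3, 2, 3, 2, 3, 3, 0, 3, 2, 1, 2, 1, 1, 0, 1, 0, 3, 2, 3, 2, 3, 3, 0, 3, 0, 1, 2, 1, 1, 0, 1, 2, 3, 2, 3, 2, 1, 2, 3, 2, 1, 2, 3, 0, 1, 2, 1], 1, true),
    ([1, 0, 3, 2, 3], 1, false),
    ([1, 0, 3, 2, 1, 0, 3, 2, 1, 0, 3, 0, 1, 0, 3, 2, 3, 2, 3, 3, 0, 3, 2, 1, 2, 1, 1, 0, 1, 0, 3, 2, 3, 2, 3, 3, 0, 3, 0, 1, 2, 1, 1, 0, 1, 2, 3, 2, 3, 2, 1, 2, 3, 2, 1, 2, 3, 0, 1, 2, 3], 0, true)] : List Step)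
  ++ ([([1, 0, 3, 2, 1, 0, 3, 2, 1, 0, 3, 0, 1, 0, 3, 2, 3, 2, 3, 3, 0, 3, 2, 1, 2, 1, 1, 0, 1, 0, 3, 2, 3, 2, 3, 3, 0, 3, 0, 1, 2, 1, 1, 0, 1, 2, 3, 2, 3, 2, 1, 2, 3, 2, 1, 2, 3, 0], 0, true),
    ([1, 0, 3, 2, 1, 0], 0, true),
    ([1, 0, 3, 2, 1, 2, 3, 2, 1, 0, 3, 0, 1, 0, 3, 2, 3, 2, 3, 3, 0, 3, 2, 1, 2, 1, 1, 0], 0, true),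
    ([1, 0, 3, 2, 1, 2, 3, 2, 1], 0, true),
    ([1, 0, 3, 2, 1, 2, 3, 2, 1, 2, 3, 0, 1, 0, 3, 2, 3, 2, 3, 3, 0, 3, 2, 1, 2, 1, 1, 2, 1, 0, 3, 2, 3, 2, 3, 3], 1, false),
    ([1, 0, 3, 2, 1, 2, 3, 2, 1, 2, 3, 0, 1, 0, 3, 2, 3, 2, 3, 3, 0, 3, 2, 1, 2], 1, true),
    ([1, 0, 3, 2, 1, 2, 3, 2, 1, 2, 3, 0, 1, 0, 3, 2, 3, 2, 3, 3, 0, 3, 2, 1, 2, 3, 2, 1, 0], 0, true),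
    ([1, 0, 3, 2, 1, 2, 3, 2, 1, 2, 3, 0, 1, 0, 3, 2, 3, 2, 3, 3, 0, 3, 2, 1, 2, 3, 2, 1, 2, 3, 2, 3, 2, 1], 0, true),
    ([1, 0, 3, 2, 1, 2, 3, 2, 1, 2, 3], 0, true),
    ([1, 0, 3, 2, 1, 2, 3, 2, 1, 2, 3, 2, 1, 0, 3, 2, 3, 2, 3, 3, 0, 3, 2, 1, 2, 3, 2, 1, 2, 3, 2, 3, 2, 1, 2, 3, 0], 0, true),
    ([1, 0, 3, 2, 1, 2, 3, 2, 1, 2, 3, 2, 1, 0, 3, 2, 3, 2, 3, 3, 0], 0, true),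
    ([1, 0, 3, 2, 1, 2, 3, 2, 1, 2, 3, 2, 1, 0, 3, 2, 3, 2, 3, 3, 2, 3, 2, 1, 2, 3, 2, 1, 2, 3, 2, 3, 2, 1, 2, 3, 2, 1, 2, 1, 1], 0, true),
    ([1, 0, 3, 2, 1, 2, 3, 2, 1, 2, 3, 2, 1], 0, true),
    ([1, 0, 3, 2, 1, 2, 3, 2, 1, 2, 3, 2, 1, 2, 3, 2, 3, 2, 3, 3, 2, 3, 2, 1, 2, 3, 2, 1, 2, 3, 2, 3, 2, 1, 2, 3, 2, 1, 2, 1, 1], 1, true),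
    ([1, 0, 3, 2, 1, 2, 3, 2, 1, 2, 3, 2, 1, 2, 3, 2, 3, 2], 1, false),
    ([1, 0, 0, 1, 0, 3, 0, 1, 0, 3, 0, 1, 0, 3, 0, 1, 0, 1, 0, 3, 0, 1, 0, 3, 0, 1, 0, 3, 0, 1, 0, 1, 0, 3, 0, 1, 0, 3, 0, 1, 0, 3], 5, false)] : List Step)

/-- A derivation. -/
def sixDeriv26 : List Step :=
  ([([0, 3, 0, 3, 0, 3, 2, 1, 2, 1, 1, 0, 3, 0, 1, 0, 3, 2, 3, 2, 1, 2, 3, 3, 0, 3, 0, 1, 2, 1, 2, 1, 1, 0, 3, 0, 3, 0, 3, 2, 1, 2, 1, 2, 3, 3, 0, 3, 0, 3, 2, 1, 2, 1, 1, 0, 3, 0, 1, 0, 1, 2, 3, 2, 1, 2, 3, 3, 0, 3, 0, 3, 2, 1, 2, 1, 1, 0, 3, 0, 1, 0, 3, 2, 3, 2, 1, 2, 3, 3, 0, 3, 0, 1, 2, 1, 2, 1, 1, 0, 3, 0, 3, 0, 3, 2, 1, 2, 1, 2, 3, 3, 0, 3, 0, 3, 2, 1,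 2, 1, 1, 0, 3, 0, 1, 0, 1, 2, 3, 2, 1, 2, 3, 3, 0, 3, 0, 1, 2, 1, 2, 1, 1, 0, 1, 0, 3, 2, 3, 2, 3, 3, 0, 3, 0, 3, 2, 1, 2, 1, 1, 0, 3, 0, 1, 0, 1, 0, 3, 2, 1, 2, 3, 3, 0, 3, 0, 1, 0, 1, 0, 3, 0, 1, 0, 3, 0, 3, 0, 1, 0, 3, 0, 3, 0, 1, 0, 3, 0, 3], 6, true),
    ([0, 3, 0, 3, 0, 3, 2, 1, 2, 1, 1, 0, 3, 0, 1, 0, 3, 2, 3, 2, 1, 2, 3, 3, 0, 3, 0, 1, 2, 1, 2, 1, 1, 0, 3, 0, 3, 0, 3, 2, 1, 2, 1, 2, 3, 3, 0, 3, 0, 3, 2, 1, 2, 1, 1, 0, 3, 0, 1, 0, 1, 2, 3, 2, 1, 2, 3, 3, 0, 3, 0, 3, 2, 1, 2, 1, 1, 0, 3, 0, 1, 0, 3, 2, 3, 2, 1, 2, 3, 3, 0, 3, 0, 1, 2, 1, 2, 1, 1, 0, 3, 0, 3, 0, 3, 2, 1, 2, 1, 2, 3, 3, 0, 3, 0, 3, 2, 1, 2, 1, 1, 0, 3, 0, 1, 0,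 1, 2, 3, 2, 1, 2, 3, 3, 0, 3, 0, 1, 2, 1, 2, 1, 1, 0, 1, 0, 3, 2, 3, 2, 3, 3, 0, 3, 0, 3, 2, 1, 2, 1, 1, 0, 3, 0, 1, 0, 1, 0, 3, 2, 1, 2, 3, 3, 3, 2, 3, 2, 1, 2, 3, 2, 3, 2, 1, 2, 1, 2, 3, 0], 0, false),
    ([0, 3, 0, 3, 0, 3, 2, 1, 2, 1, 1, 0, 3, 0, 1, 0, 3, 2, 3, 2, 1, 2, 3, 3, 0, 3, 0, 1, 2, 1, 2, 1, 1, 0, 3, 0, 3, 0, 3, 2, 1, 2, 1, 2, 3, 3, 0, 3, 0, 3, 2, 1, 2, 1, 1, 0, 3, 0, 1, 0, 1, 2, 3, 2, 1, 2, 3, 3, 0, 3, 0, 3, 2, 1, 2, 1, 1, 0, 3, 0, 1, 0, 3, 2, 3, 2, 1, 2, 3, 3, 0, 3, 0, 1, 2, 1, 2, 1, 1, 0, 3, 0, 3, 0, 3, 2, 1, 2, 1, 2, 3, 3, 0, 3, 0, 3, 2, 1, 2, 1, 1, 0, 3, 0, 1, 0, 1, 2, 3, 2, 1, 2, 3, 3, 0, 3, 0, 1, 2, 1, 2, 1, 1, 0,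 1, 0, 3, 2, 3, 2, 3, 3, 0, 3, 0, 3, 2, 1, 2, 1, 1, 0, 3, 0, 1, 0, 1, 0, 3, 2, 1, 2, 3, 3, 3, 2, 3, 2, 1, 2, 3, 2, 3, 2, 1, 2, 1, 2, 3, 0, 1, 2, 1, 2, 3, 2, 1, 2, 1, 2, 3, 2, 1, 2, 3, 0], 0, false),
    ([0, 3, 0, 3, 0, 3, 2, 1, 2, 1, 1, 0, 3, 0, 1, 0, 3, 2, 3, 2, 1, 2, 3, 3, 0, 3, 0, 1, 2, 1, 2, 1, 1, 0, 3, 0, 3, 0, 3, 2, 1, 2, 1, 2, 3, 3, 0, 3, 0, 3, 2, 1, 2, 1, 1, 0, 3, 0, 1, 0, 1, 2, 3, 2, 1, 2, 3, 3, 0, 3, 0, 3, 2, 1, 2, 1, 1, 0, 3, 0, 1, 0, 3, 2, 3, 2, 1, 2, 3, 3, 0, 3, 0, 1, 2, 1, 2, 1, 1, 0, 3, 0, 3, 0, 3, 2, 1, 2, 1, 2, 3, 3, 0, 3, 0, 3, 2, 1, 2, 1, 1, 0, 3, 0, 1, 0, 1, 2, 3, 2, 1, 2, 3, 3, 0, 3, 0, 1, 2, 1, 2, 1, 1, 0, 1, 0,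 3, 2, 3, 2, 3, 3, 0, 3, 0, 3, 2, 1, 2, 1, 1, 0, 3, 0, 1, 0, 1, 0, 3, 2, 1, 2, 3, 3, 3, 2, 3, 2, 1, 2, 3, 2, 3, 2, 1, 2, 1], 0, false),
    ([0, 3, 0, 3, 0, 3, 2, 1, 2, 1, 1, 0, 3, 0, 1, 0, 3, 2, 3, 2, 1, 2, 3, 3, 0, 3, 0, 1, 2, 1, 2, 1, 1, 0, 3, 0, 3, 0, 3, 2, 1, 2, 1, 2, 3, 3, 0, 3, 0, 3, 2, 1, 2, 1, 1, 0, 3, 0, 1, 0, 1, 2, 3, 2, 1, 2, 3, 3, 0, 3, 0, 3, 2, 1, 2, 1, 1, 0, 3, 0, 1, 0, 3, 2, 3, 2, 1, 2, 3, 3, 0, 3, 0, 1, 2, 1, 2, 1, 1, 0, 3, 0, 3, 0, 3, 2, 1, 2, 1, 2, 3, 3, 0, 3, 0, 3, 2, 1, 2, 1, 1, 0, 3, 0, 1, 0, 1, 2, 3, 2, 1, 2, 3, 3, 0, 3, 0, 1, 2, 1, 2, 1, 1, 0, 1, 0, 3, 2, 3, 2, 3, 3, 0, 3, 0, 3, 2, 1, 2, 1, 1, 0, 3, 0, 1, 0, 1,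 0, 3, 2, 1, 2, 3, 3, 3, 2, 3, 2, 1, 2, 3, 2, 3, 2, 1, 2, 1, 0, 3, 0, 1, 2, 1, 2, 3, 2, 1, 2, 1, 2, 3, 2, 1], 0, false),
    ([0, 3, 0, 3, 0, 3, 2, 1, 2, 1, 1, 0, 3, 0, 1, 0, 3, 2, 3, 2, 1, 2, 3, 3, 0, 3, 0, 1, 2, 1, 2, 1, 1, 0, 3, 0, 3, 0, 3, 2, 1, 2, 1, 2, 3, 3, 0, 3, 0, 3, 2, 1, 2, 1, 1, 0, 3, 0, 1, 0, 1, 2, 3, 2, 1, 2, 3, 3, 0, 3, 0, 3, 2, 1, 2, 1, 1, 0, 3, 0, 1, 0, 3, 2, 3, 2, 1, 2, 3, 3, 0, 3, 0, 1, 2, 1, 2, 1, 1, 0, 3, 0, 3, 0, 3, 2, 1, 2, 1, 2, 3, 3, 0, 3, 0, 3, 2, 1, 2, 1, 1, 0, 3, 0, 1, 0, 1, 2, 3, 2, 1, 2, 3, 3, 0, 3, 0, 1, 2, 1, 2, 1, 1, 0, 1, 0, 3, 2, 3, 2, 3, 3, 0, 3, 0, 3, 2, 1, 2, 1, 1, 0, 3, 0, 1, 0, 1, 0, 3, 2, 1, 2,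 3, 3, 3, 2, 3, 2, 1, 2, 3, 2, 3, 2, 1, 2, 1, 0, 3, 0, 1, 2, 1, 2, 3, 2, 1, 0], 0, false),
    ([0, 3, 0, 3, 0, 3, 2, 1, 2, 1, 1, 0, 3, 0, 1, 0, 3, 2, 3, 2, 1, 2, 3, 3, 0, 3, 0, 1, 2, 1, 2, 1, 1, 0, 3, 0, 3, 0, 3, 2, 1, 2, 1, 2, 3, 3, 0, 3, 0, 3, 2, 1, 2, 1, 1, 0, 3, 0, 1, 0, 1, 2, 3, 2, 1, 2, 3, 3, 0, 3, 0, 3, 2, 1, 2, 1, 1, 0, 3, 0, 1, 0, 3, 2, 3, 2, 1, 2, 3, 3, 0, 3, 0, 1, 2, 1, 2, 1, 1, 0, 3, 0, 3, 0, 3, 2, 1, 2, 1, 2, 3, 3, 0, 3, 0, 3, 2, 1, 2, 1, 1, 0, 3, 0, 1, 0, 1, 2, 3, 2, 1, 2, 3, 3, 0, 3, 0, 1, 2, 1, 2, 1, 1, 0, 1, 0, 3, 2, 3, 2, 3, 3, 0, 3, 0, 3, 2, 1, 2, 1, 1, 0, 3, 0, 1, 0, 1, 0, 3, 2, 1, 2, 3, 3], 1, false),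
    ([0, 3, 0, 3, 0, 3, 2, 1, 2, 1, 1, 0, 3, 0, 1, 0, 3, 2, 3, 2, 1, 2, 3, 3, 0, 3, 0, 1, 2, 1, 2, 1, 1, 0, 3, 0, 3, 0, 3, 2, 1, 2, 1, 2, 3, 3, 0, 3, 0, 3, 2, 1, 2, 1, 1, 0, 3, 0, 1, 0, 1, 2, 3, 2, 1, 2, 3, 3, 0, 3, 0, 3, 2, 1, 2, 1, 1, 0, 3, 0, 1, 0, 3, 2, 3, 2, 1, 2, 3, 3, 0, 3, 0, 1, 2, 1, 2, 1, 1, 0, 3, 0, 3, 0, 3, 2, 1, 2, 1, 2, 3, 3, 0, 3, 0, 3, 2, 1, 2, 1, 1, 0, 3, 0, 1, 0, 1, 2, 3, 2, 1, 2, 3, 3, 0, 3, 0, 1, 2, 1, 2, 1, 1, 0, 1, 0, 3, 2, 3, 2, 3, 3, 0, 3, 0, 3, 2, 1, 2, 1, 1, 0, 3, 0, 1, 0, 1, 0, 3, 2, 1, 2, 2, 3, 2, 1, 2, 3, 2, 3, 2, 1, 2, 3, 3], 1, true),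
    ([0, 3, 0, 3, 0, 3, 2, 1, 2, 1, 1, 0, 3, 0, 1, 0, 3, 2, 3, 2, 1, 2, 3, 3, 0, 3, 0, 1, 2, 1, 2, 1, 1, 0, 3, 0, 3, 0, 3, 2, 1, 2, 1, 2, 3, 3, 0, 3, 0, 3, 2, 1, 2, 1, 1, 0, 3, 0, 1, 0, 1, 2, 3, 2, 1, 2, 3, 3, 0, 3, 0, 3, 2, 1, 2, 1, 1, 0, 3, 0, 1, 0, 3, 2, 3, 2, 1, 2, 3, 3, 0, 3, 0, 1, 2, 1, 2, 1, 1, 0, 3, 0, 3, 0, 3, 2, 1, 2, 1, 2, 3, 3, 0, 3, 0, 3, 2, 1, 2, 1, 1, 0, 3, 0, 1, 0, 1, 2, 3, 2, 1, 2, 3, 3, 0, 3, 0, 1, 2, 1, 2, 1, 1, 0, 1, 0, 3, 2, 3, 2, 3, 3, 0, 3, 0, 3, 2, 1, 2, 1, 1, 0, 3, 0, 1, 0, 1, 0, 3, 2, 1, 2, 2, 3, 2, 1, 2, 3, 2, 3, 2, 1, 2, 3, 3, 0, 3, 0, 1, 2, 1, 2], 1, false),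
    ([0, 3, 0, 3, 0, 3, 2, 1, 2, 1, 1, 0, 3, 0, 1, 0, 3, 2, 3, 2, 1, 2, 3, 3, 0, 3, 0, 1, 2, 1, 2, 1, 1, 0, 3, 0, 3, 0, 3, 2, 1, 2, 1, 2, 3, 3, 0, 3, 0, 3, 2, 1, 2, 1, 1, 0, 3, 0, 1, 0, 1, 2, 3, 2, 1, 2, 3, 3, 0, 3, 0, 3, 2, 1, 2, 1, 1, 0, 3, 0, 1, 0, 3, 2, 3, 2, 1, 2, 3, 3, 0, 3, 0, 1, 2, 1, 2, 1, 1, 0, 3, 0, 3, 0, 3, 2, 1, 2, 1, 2, 3, 3, 0, 3, 0, 3, 2, 1, 2, 1, 1, 0, 3, 0, 1, 0, 1, 2, 3, 2, 1, 2, 3, 3, 0, 3, 0, 1, 2, 1, 2, 1, 1, 0, 1, 0, 3, 2, 3, 2, 3, 3, 0, 3, 0, 3, 2, 1, 2, 1, 1, 0, 3, 0, 1, 0, 1, 0, 3, 2, 1, 2, 2, 3, 2, 1, 2, 3, 2, 3, 2, 1, 2, 3, 3, 0, 3, 0, 1, 2, 1, 2, 1, 1, 2, 1, 0, 1, 2, 3, 2, 3, 3], 1, true),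
    ([0, 3, 0, 3, 0, 3, 2, 1, 2, 1, 1, 0, 3, 0, 1, 0, 3, 2, 3, 2, 1, 2, 3, 3, 0, 3, 0, 1, 2, 1, 2, 1, 1, 0, 3, 0, 3, 0, 3, 2, 1, 2, 1, 2, 3, 3, 0, 3, 0, 3, 2, 1, 2, 1, 1, 0, 3, 0, 1, 0, 1, 2, 3, 2, 1, 2, 3, 3, 0, 3, 0, 3, 2, 1, 2, 1, 1, 0, 3, 0, 1, 0, 3, 2, 3, 2, 1, 2, 3, 3, 0, 3, 0, 1, 2, 1, 2, 1, 1, 0, 3, 0, 3, 0, 3, 2, 1, 2, 1, 2, 3, 3, 0, 3, 0, 3, 2, 1, 2, 1, 1, 0, 3, 0, 1, 0, 1, 2, 3, 2, 1, 2, 3, 3, 0, 3, 0, 1, 2, 1, 2, 1, 1, 0, 1, 0, 3, 2, 3, 2, 3, 3, 0, 3, 0, 3, 2, 1, 2, 1, 1, 0, 3, 0, 1, 0, 1, 0, 3, 2, 1, 2, 2, 3], 0, false),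
    ([0, 3, 0, 3, 0, 3, 2, 1, 2, 1, 1, 0, 3, 0, 1, 0, 3, 2, 3, 2, 1, 2, 3, 3, 0, 3, 0, 1, 2, 1, 2, 1, 1, 0, 3, 0, 3, 0, 3, 2, 1, 2, 1, 2, 3, 3, 0, 3, 0, 3, 2, 1, 2, 1, 1, 0, 3, 0, 1, 0, 1, 2, 3, 2, 1, 2, 3, 3, 0, 3, 0, 3, 2, 1, 2, 1, 1, 0, 3, 0, 1, 0, 3, 2, 3, 2, 1, 2, 3, 3, 0, 3, 0, 1, 2, 1, 2, 1, 1, 0, 3, 0, 3, 0, 3, 2, 1, 2, 1, 2, 3, 3, 0, 3, 0, 3, 2, 1, 2, 1, 1, 0, 3, 0, 1, 0, 1, 2, 3, 2, 1, 2, 3, 3, 0, 3, 0, 1, 2, 1, 2, 1, 1, 0, 1, 0, 3, 2, 3, 2, 3, 3, 0, 3, 0, 3, 2, 1, 2, 1, 1, 0, 3, 0, 1, 0, 1, 0, 3, 2, 1], 0, false),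
    ([0, 3, 0, 3, 0, 3, 2, 1, 2, 1, 1, 0, 3, 0, 1, 0, 3, 2, 3, 2, 1, 2, 3, 3, 0, 3, 0, 1, 2, 1, 2, 1, 1, 0, 3, 0, 3, 0, 3, 2, 1, 2, 1, 2, 3, 3, 0, 3, 0, 3, 2, 1, 2, 1, 1, 0, 3, 0, 1, 0, 1, 2, 3, 2, 1, 2, 3, 3, 0, 3, 0, 3, 2, 1, 2, 1, 1, 0, 3, 0, 1, 0, 3, 2, 3, 2, 1, 2, 3, 3, 0, 3, 0, 1, 2, 1, 2, 1, 1, 0, 3, 0, 3, 0, 3, 2, 1, 2, 1, 2, 3, 3, 0, 3, 0, 3, 2, 1, 2, 1, 1, 0, 3, 0, 1, 0, 1, 2, 3, 2, 1, 2, 3, 3, 0, 3, 0, 1, 2, 1, 2, 1, 1, 0, 1, 0, 3, 2, 3], 0, false),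
    ([0, 3, 0, 3, 0, 3, 2, 1, 2, 1, 1, 0, 3, 0, 1, 0, 3, 2, 3, 2, 1, 2, 3, 3, 0, 3, 0, 1, 2, 1, 2, 1, 1, 0, 3, 0, 3, 0, 3, 2, 1, 2, 1, 2, 3, 3, 0, 3, 0, 3, 2, 1, 2, 1, 1, 0, 3, 0, 1, 0, 1, 2, 3, 2, 1, 2, 3, 3, 0, 3, 0, 3, 2, 1, 2, 1, 1, 0, 3, 0, 1, 0, 3, 2, 3, 2, 1, 2, 3, 3, 0, 3, 0, 1, 2, 1, 2, 1, 1, 0, 3, 0, 3, 0, 3, 2, 1, 2, 1, 2, 3, 3, 0, 3, 0, 3, 2, 1, 2, 1, 1, 0, 3, 0, 1, 0, 1], 0, false),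
    ([0, 3, 0, 3, 0, 3, 2, 1, 2, 1, 1, 0, 3, 0, 1, 0, 3, 2, 3, 2, 1, 2, 3, 3, 0, 3, 0, 1, 2, 1, 2, 1, 1, 0, 3, 0, 3, 0, 3, 2, 1, 2, 1, 2, 3, 3, 0, 3, 0, 3, 2, 1, 2, 1, 1, 0, 3, 0, 1, 0, 1, 2, 3, 2, 1, 2, 3, 3, 0, 3, 0, 3, 2, 1, 2, 1, 1, 0, 3, 0, 1, 0], 0, true),
    ([0, 3, 0, 3, 0, 3, 2, 1, 2, 1, 1, 0, 3, 0, 1, 0, 3, 2, 3, 2, 1, 2, 3, 3, 0, 3, 0, 1, 2, 1, 2, 1, 1, 0, 3, 0, 3, 0, 3, 2, 1, 2, 1, 2, 3, 3, 0, 3, 0, 3, 2, 1, 2, 1, 1, 0, 3, 0, 1, 0, 1, 2, 3, 2, 1, 1, 0, 3, 2, 3], 0, true),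
    ([0, 3, 0, 3, 0, 3, 2, 1, 2, 1, 1, 0, 3, 0, 1, 0, 3, 2, 3, 2, 1, 2, 3, 3, 0, 3, 0, 1, 2, 1, 2, 1, 1, 0, 3, 0, 3, 0, 3, 2, 1, 2, 1, 2, 3, 3, 0, 3, 0, 3, 2, 1, 2, 1, 1, 0, 3, 0, 1, 0, 1, 2, 3, 2, 1, 1, 0, 3, 2, 3, 2, 3, 3, 0, 3, 0, 3, 2, 1, 2, 1, 1, 0, 3, 0, 1, 0, 1, 0, 3, 2, 1], 0, true),
    ([0, 3, 0, 3, 0, 3, 2, 1, 2, 1, 1, 0, 3, 0, 1, 0, 3, 2, 3, 2, 1, 2, 3, 3, 0, 3, 0, 1, 2, 1, 2, 1, 1, 0, 3, 0, 3, 0, 3, 2, 1, 2, 1, 2, 3, 3, 0, 3, 0, 3, 2, 1, 2, 1, 1, 0, 3, 0, 1, 0, 1, 2, 3, 2, 1, 1, 0, 3, 2, 3, 2, 3, 3, 0, 3, 0, 3, 2, 1, 2, 1, 1, 0, 3, 0, 1, 0, 1, 0, 3, 2, 1, 2, 2, 3], 0, true),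
    ([0, 3, 0, 3, 0, 3, 2, 1, 2, 1, 1, 0, 3, 0, 1, 0, 3, 2, 3, 2, 1, 2, 3, 3, 0, 3, 0, 1, 2, 1, 2, 1, 1, 0, 3, 0, 3, 0, 3, 2, 1, 2, 1, 2, 3, 3, 0, 3, 0, 3, 2, 1, 2, 1, 1, 0, 3, 0, 1, 0, 1, 2, 3, 2, 1, 1, 0, 3, 2, 3, 2, 3, 3, 0, 3, 0, 3, 2, 1, 2, 1, 1, 0, 3, 0, 1, 0, 1, 0, 3, 2, 1, 2, 2, 3, 2, 1, 2, 3, 2, 3, 2, 1, 2, 3, 3, 0, 3, 0, 1, 2, 1, 2, 1, 1, 2, 1, 0, 1, 2, 3, 2, 3, 3], 1, false),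
    ([0, 3, 0, 3, 0, 3, 2, 1, 2, 1, 1, 0, 3, 0, 1, 0, 3, 2, 3, 2, 1, 2, 3, 3, 0, 3, 0, 1, 2, 1, 2, 1, 1, 0, 3, 0, 3, 0, 3, 2, 1, 2, 1, 2, 3, 3, 0, 3, 0, 3, 2, 1, 2, 1, 1, 0, 3, 0, 1, 0, 1, 2, 3, 2, 1, 1, 0, 3, 2, 3, 2, 3, 3, 0, 3, 0, 3, 2, 1, 2, 1, 1, 0, 3, 0, 1, 0, 1, 0, 3, 2, 1, 2, 2, 3, 2, 1, 2, 3, 2, 3, 2, 1, 2, 3, 3, 0, 3, 0, 1, 2, 1, 2], 1, true)] : List Step)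
  ++ ([([0, 3, 0, 3, 0, 3, 2, 1, 2, 1, 1, 0, 3, 0, 1, 0, 3, 2, 3, 2, 1, 2, 3, 3, 0, 3, 0, 1, 2, 1, 2, 1, 1, 0, 3, 0, 3, 0, 3, 2, 1, 2, 1, 2, 3, 3, 0, 3, 0, 3, 2, 1, 2, 1, 1, 0, 3, 0, 1, 0, 1, 2, 3, 2, 1, 1, 0, 3, 2, 3, 2, 3, 3, 0, 3, 0, 3, 2, 1, 2, 1, 1, 0, 3, 0, 1, 0, 1, 0, 3, 2, 1, 2, 2, 3, 2, 1, 2, 3, 2, 3, 2, 1, 2, 3, 3], 1, false),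
    ([0, 3, 0, 3, 0, 3, 2, 1, 2, 1, 1, 0, 3, 0, 1, 0, 3, 2, 3, 2, 1, 2, 3, 3, 0, 3, 0, 1, 2, 1, 2, 1, 1, 0, 3, 0, 3, 0, 3, 2, 1, 2, 1, 2, 3, 3, 0, 3, 0, 3, 2, 1, 2, 1, 1, 0, 3, 0, 1, 0, 1, 2, 3, 2, 1, 1, 0, 3, 2, 3, 2, 3, 3, 0, 3, 0, 3, 2, 1, 2, 1, 1, 0, 3, 0, 1, 0, 1, 0, 3, 2, 1, 2, 3, 3], 1, true),
    ([0, 3, 0, 3, 0, 3, 2, 1, 2, 1, 1, 0, 3, 0, 1, 0, 3, 2, 3, 2, 1, 2, 3, 3, 0, 3, 0, 1, 2, 1, 2, 1, 1, 0, 3, 0, 3, 0, 3, 2, 1, 2, 1, 2, 3, 3, 0, 3, 0, 3, 2, 1, 2, 1, 1, 0, 3, 0, 1, 0, 1, 2, 3, 2, 1, 1, 0, 3, 2, 3, 2, 3, 3, 0, 3, 0, 3, 2, 1, 2, 1, 1, 0, 3, 0, 1, 0, 1, 0, 3, 2, 1, 2, 3, 3, 3, 2, 3, 2, 1, 2, 3, 2, 3, 2, 1, 2, 1, 0, 3, 0,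 1, 2, 1, 2, 3, 2, 1, 0], 0, true),
    ([0, 3, 0, 3, 0, 3, 2, 1, 2, 1, 1, 0, 3, 0, 1, 0, 3, 2, 3, 2, 1, 2, 3, 3, 0, 3, 0, 1, 2, 1, 2, 1, 1, 0, 3, 0, 3, 0, 3, 2, 1, 2, 1, 2, 3, 3, 0, 3, 0, 3, 2, 1, 2, 1, 1, 0, 3, 0, 1, 0, 1, 2, 3, 2, 1, 1, 0, 3, 2, 3, 2, 3, 3, 0, 3, 0, 3, 2, 1, 2, 1, 1, 0, 3, 0, 1, 0, 1, 0, 3, 2, 1, 2, 3, 3, 3, 2, 3, 2, 1, 2, 3, 2, 3, 2, 1, 2, 1, 0, 3, 0, 1, 2, 1, 2, 3, 2, 1, 2, 1, 2, 3, 2, 1], 0, true),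
    ([0, 3, 0, 3, 0, 3, 2, 1, 2, 1, 1, 0, 3, 0, 1, 0, 3, 2, 3, 2, 1, 2, 3, 3, 0, 3, 0, 1, 2, 1, 2, 1, 1, 0, 3, 0, 3, 0, 3, 2, 1, 2, 1, 2, 3, 3, 0, 3, 0, 3, 2, 1, 2, 1, 1, 0, 3, 0, 1, 0, 1, 2, 3, 2, 1, 1, 0, 3, 2, 3, 2, 3, 3, 0, 3, 0, 3, 2, 1, 2, 1, 1, 0, 3, 0, 1, 0, 1, 0, 3, 2, 1, 2, 3, 3, 3, 2, 3, 2, 1, 2, 3, 2, 3, 2, 1, 2, 1], 0, true),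
    ([0, 3, 0, 3, 0, 3, 2, 1, 2, 1, 1, 0, 3, 0, 1, 0, 3, 2, 3, 2, 1, 2, 3, 3, 0, 3, 0, 1, 2, 1, 2, 1, 1, 0, 3, 0, 3, 0, 3, 2, 1, 2, 1, 2, 3, 3, 0, 3, 0, 3, 2, 1, 2, 1, 1, 0, 3, 0, 1, 0, 1, 2, 3, 2, 1, 1, 0, 3, 2, 3, 2, 3, 3, 0, 3, 0, 3, 2, 1, 2, 1, 1, 0, 3, 0, 1, 0, 1, 0, 3, 2, 1, 2, 3, 3, 3, 2, 3, 2, 1, 2, 3, 2, 3, 2, 1, 2, 1, 2, 3, 0, 1, 2, 1, 2, 3, 2, 1, 2, 1, 2, 3, 2, 1, 2, 3, 0], 0, true),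
    ([0, 3, 0, 3, 0, 3, 2, 1, 2, 1, 1, 0, 3, 0, 1, 0, 3, 2, 3, 2, 1, 2, 3, 3, 0, 3, 0, 1, 2, 1, 2, 1, 1, 0, 3, 0, 3, 0, 3, 2, 1, 2, 1, 2, 3, 3, 0, 3, 0, 3, 2, 1, 2, 1, 1, 0, 3, 0, 1, 0, 1, 2, 3, 2, 1, 1, 0, 3, 2, 3, 2, 3, 3, 0, 3, 0, 3, 2, 1, 2, 1, 1, 0, 3, 0, 1, 0, 1, 0, 3, 2, 1, 2, 3, 3, 3, 2, 3, 2, 1, 2, 3, 2, 3, 2, 1, 2, 1, 2, 3, 0], 0, true),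
    ([0, 3, 0, 3, 0, 3, 2, 1, 2, 1, 1, 0, 3, 0, 1, 0, 3, 2, 3, 2, 1, 2, 3, 3, 0, 3, 0, 1, 2, 1, 2, 1, 1, 0, 3, 0, 3, 0, 3, 2, 1, 2, 1, 2, 3, 3, 0, 3, 0, 3, 2, 1, 2, 1, 1, 0, 3, 0, 1, 0, 1, 2, 3, 2, 1, 1, 0, 3, 2, 3, 2, 3, 3, 0, 3, 0, 3, 2, 1, 2, 1, 1, 0, 3, 0, 1, 0, 1, 0, 3, 2, 1, 2, 3, 3, 0, 3, 0, 1, 0, 1, 0, 3, 0, 1, 0, 3, 0, 3, 0, 1, 0, 3, 0, 3, 0, 1, 0, 3, 0, 3], 6, false),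
    ([0, 3, 0, 3, 0, 3, 2, 1, 2, 1, 1, 0, 3, 0, 1, 0, 3, 2, 3, 2, 1, 2, 3, 3, 0, 3, 0, 1, 2, 1, 2, 1, 1, 0, 3, 0, 3, 0, 3, 2, 1, 2, 1, 2, 3, 3, 0, 3, 0, 3, 2, 1, 2, 1, 1, 0, 3, 0, 1, 0, 1, 2, 3, 2, 1, 2, 3, 3, 0, 3, 0, 1, 2, 1, 2, 1, 1, 0, 1, 0, 3, 2, 3, 2, 3, 3, 0, 3, 0, 3, 2, 1, 2, 1, 1, 0, 3, 0, 1, 0, 1, 0, 3, 2, 1, 2, 3, 3, 0, 3, 0, 1, 0, 1, 0, 3, 0, 1, 0, 3, 0, 3, 0, 1, 0, 3, 0, 3, 0, 1, 0, 3, 0, 3], 6, true),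
    ([0, 3, 0, 3, 0, 3, 2, 1, 2, 1, 1, 0, 3, 0, 1, 0, 3, 2, 3, 2, 1, 2, 3, 3, 0, 3, 0, 1, 2, 1, 2, 1, 1, 0, 3, 0, 3, 0, 3, 2, 1, 2, 1, 2, 3, 3, 0, 3, 0, 3, 2, 1, 2, 1, 1, 0, 3, 0, 1, 0, 1, 2, 3, 2, 1, 2, 3, 3, 0, 3, 0, 1, 2, 1, 2, 1, 1, 0, 1, 0, 3, 2, 3, 2, 3, 3, 0, 3, 0, 3, 2, 1, 2, 1, 1, 0, 3, 0, 1, 0, 1, 0, 3, 2, 1, 2, 3, 3, 3, 2, 3, 2, 1, 2, 3, 2, 3, 2, 1, 2, 1, 2, 3, 0], 0, false),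
    ([0, 3, 0, 3, 0, 3, 2, 1, 2, 1, 1, 0, 3, 0, 1, 0, 3, 2, 3, 2, 1, 2, 3, 3, 0, 3, 0, 1, 2, 1, 2, 1, 1, 0, 3, 0, 3, 0, 3, 2, 1, 2, 1, 2, 3, 3, 0, 3, 0, 3, 2, 1, 2, 1, 1, 0, 3, 0, 1, 0, 1, 2, 3, 2, 1, 2, 3, 3, 0, 3, 0, 1, 2, 1, 2, 1, 1, 0, 1, 0, 3, 2, 3, 2, 3, 3, 0, 3, 0, 3, 2, 1, 2, 1, 1, 0, 3, 0, 1, 0, 1, 0, 3, 2, 1, 2, 3, 3, 3, 2, 3, 2, 1, 2, 3, 2, 3, 2, 1, 2, 1, 2, 3, 0, 1, 2, 1, 2, 3, 2, 1, 2, 1, 2, 3, 2, 1, 2, 3, 0], 0, false),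
    ([0, 3, 0, 3, 0, 3, 2, 1, 2, 1, 1, 0, 3, 0, 1, 0, 3, 2, 3, 2, 1, 2, 3, 3, 0, 3, 0, 1, 2, 1, 2, 1, 1, 0, 3, 0, 3, 0, 3, 2, 1, 2, 1, 2, 3, 3, 0, 3, 0, 3, 2, 1, 2, 1, 1, 0, 3, 0, 1, 0, 1, 2, 3, 2, 1, 2, 3, 3, 0, 3, 0, 1, 2, 1, 2, 1, 1, 0, 1, 0, 3, 2, 3, 2, 3, 3, 0, 3, 0, 3, 2, 1, 2, 1, 1, 0, 3, 0, 1, 0, 1, 0, 3, 2, 1, 2, 3, 3, 3, 2, 3, 2, 1, 2, 3, 2, 3, 2, 1, 2, 1], 0, false),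
    ([0, 3, 0, 3, 0, 3, 2, 1, 2, 1, 1, 0, 3, 0, 1, 0, 3, 2, 3, 2, 1, 2, 3, 3, 0, 3, 0, 1, 2, 1, 2, 1, 1, 0, 3, 0, 3, 0, 3, 2, 1, 2, 1, 2, 3, 3, 0, 3, 0, 3, 2, 1, 2, 1, 1, 0, 3, 0, 1, 0, 1, 2, 3, 2, 1, 2, 3, 3, 0, 3, 0, 1, 2, 1, 2, 1, 1, 0, 1, 0, 3, 2, 3, 2, 3, 3, 0, 3, 0, 3, 2, 1, 2, 1, 1, 0, 3, 0, 1, 0, 1, 0, 3, 2, 1, 2, 3, 3, 3, 2, 3, 2, 1, 2, 3, 2, 3, 2, 1, 2, 1, 0, 3, 0, 1, 2, 1, 2, 3, 2, 1, 2, 1, 2, 3, 2, 1], 0, false),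
    ([0, 3, 0, 3, 0, 3, 2, 1, 2, 1, 1, 0, 3, 0, 1, 0, 3, 2, 3, 2, 1, 2, 3, 3, 0, 3, 0, 1, 2, 1, 2, 1, 1, 0, 3, 0, 3, 0, 3, 2, 1, 2, 1, 2, 3, 3, 0, 3, 0, 3, 2, 1, 2, 1, 1, 0, 3, 0, 1, 0, 1, 2, 3, 2, 1, 2, 3, 3, 0, 3, 0, 1, 2, 1, 2, 1, 1, 0, 1, 0, 3, 2, 3, 2, 3, 3, 0, 3, 0, 3, 2, 1, 2, 1, 1, 0, 3, 0, 1, 0, 1, 0, 3, 2, 1, 2, 3, 3, 3, 2, 3, 2, 1, 2, 3, 2, 3, 2, 1, 2, 1, 0, 3, 0, 1, 2, 1, 2, 3, 2, 1, 0], 0, false),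
    ([0, 3, 0, 3, 0, 3, 2, 1, 2, 1, 1, 0, 3, 0, 1, 0, 3, 2, 3, 2, 1, 2, 3, 3, 0, 3, 0, 1, 2, 1, 2, 1, 1, 0, 3, 0, 3, 0, 3, 2, 1, 2, 1, 2, 3, 3, 0, 3, 0, 3, 2, 1, 2, 1, 1, 0, 3, 0, 1, 0, 1, 2, 3, 2, 1, 2, 3, 3, 0, 3, 0, 1, 2, 1, 2, 1, 1, 0, 1, 0, 3, 2, 3, 2, 3, 3, 0, 3, 0, 3, 2, 1, 2, 1, 1, 0, 3, 0, 1, 0, 1, 0, 3, 2, 1, 2, 3, 3], 1, false),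
    ([0, 3, 0, 3, 0, 3, 2, 1, 2, 1, 1, 0, 3, 0, 1, 0, 3, 2, 3, 2, 1, 2, 3, 3, 0, 3, 0, 1, 2, 1, 2, 1, 1, 0, 3, 0, 3, 0, 3, 2, 1, 2, 1, 2, 3, 3, 0, 3, 0, 3, 2, 1, 2, 1, 1, 0, 3, 0, 1, 0, 1, 2, 3, 2, 1, 2, 3, 3, 0, 3, 0, 1, 2, 1, 2, 1, 1, 0, 1, 0, 3, 2, 3, 2, 3, 3, 0, 3, 0, 3, 2, 1, 2, 1, 1, 0, 3, 0, 1, 0, 1, 0, 3, 2, 1, 2, 2, 3, 2, 1, 2, 3, 2, 3, 2, 1, 2, 3, 3], 1, true),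
    ([0, 3, 0, 3, 0, 3, 2, 1, 2, 1, 1, 0, 3, 0, 1, 0, 3, 2, 3, 2, 1, 2, 3, 3, 0, 3, 0, 1, 2, 1, 2, 1, 1, 0, 3, 0, 3, 0, 3, 2, 1, 2, 1, 2, 3, 3, 0, 3, 0, 3, 2, 1, 2, 1, 1, 0, 3, 0, 1, 0, 1, 2, 3, 2, 1, 2, 3, 3, 0, 3, 0, 1, 2, 1, 2, 1, 1, 0, 1, 0, 3, 2, 3, 2, 3, 3, 0, 3, 0, 3, 2, 1, 2, 1, 1, 0, 3, 0, 1, 0, 1, 0, 3, 2, 1, 2, 2, 3, 2, 1, 2, 3, 2, 3, 2, 1, 2, 3, 3, 0, 3, 0, 1, 2, 1, 2], 1, false),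
    ([0, 3, 0, 3, 0, 3, 2, 1, 2, 1, 1, 0, 3, 0, 1, 0, 3, 2, 3, 2, 1, 2, 3, 3, 0, 3, 0, 1, 2, 1, 2, 1, 1, 0, 3, 0, 3, 0, 3, 2, 1, 2, 1, 2, 3, 3, 0, 3, 0, 3, 2, 1, 2, 1, 1, 0, 3, 0, 1, 0, 1, 2, 3, 2, 1, 2, 3, 3, 0, 3, 0, 1, 2, 1, 2, 1, 1, 0, 1, 0, 3, 2, 3, 2, 3, 3, 0, 3, 0, 3, 2, 1, 2, 1, 1, 0, 3, 0, 1, 0, 1, 0, 3, 2, 1, 2, 2, 3, 2, 1, 2, 3, 2, 3, 2, 1, 2, 3, 3, 0, 3, 0, 1, 2, 1, 2, 1, 1, 2, 1, 0, 1, 2, 3, 2, 3, 3], 1, true),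
    ([0, 3, 0, 3, 0, 3, 2, 1, 2, 1, 1, 0, 3, 0, 1, 0, 3, 2, 3, 2, 1, 2, 3, 3, 0, 3, 0, 1, 2, 1, 2, 1, 1, 0, 3, 0, 3, 0, 3, 2, 1, 2, 1, 2, 3, 3, 0, 3, 0, 3, 2, 1, 2, 1, 1, 0, 3, 0, 1, 0, 1, 2, 3, 2, 1, 2, 3, 3, 0, 3, 0, 1, 2, 1, 2, 1, 1, 0, 1, 0, 3, 2, 3, 2, 3, 3, 0, 3, 0, 3, 2, 1, 2, 1, 1, 0, 3, 0, 1, 0, 1, 0, 3, 2, 1, 2, 2, 3], 0, false),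
    ([0, 3, 0, 3, 0, 3, 2, 1, 2, 1, 1, 0, 3, 0, 1, 0, 3, 2, 3, 2, 1, 2, 3, 3, 0, 3, 0, 1, 2, 1, 2, 1, 1, 0, 3, 0, 3, 0, 3, 2, 1, 2, 1, 2, 3, 3, 0, 3, 0, 3, 2, 1, 2, 1, 1, 0, 3, 0, 1, 0, 1, 2, 3, 2, 1, 2, 3, 3, 0, 3, 0, 1, 2, 1, 2, 1, 1, 0, 1, 0, 3, 2, 3, 2, 3, 3, 0, 3, 0, 3, 2, 1, 2, 1, 1, 0, 3, 0, 1, 0, 1, 0, 3, 2, 1], 0, false)] : List Step)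
  ++ ([([0, 3, 0, 3, 0, 3, 2, 1, 2, 1, 1, 0, 3, 0, 1, 0, 3, 2, 3, 2, 1, 2, 3, 3, 0, 3, 0, 1, 2, 1, 2, 1, 1, 0, 3, 0, 3, 0, 3, 2, 1, 2, 1, 2, 3, 3, 0, 3, 0, 3, 2, 1, 2, 1, 1, 0, 3, 0, 1, 0, 1, 2, 3, 2, 1, 2, 3, 3, 0, 3, 0, 1, 2, 1, 2, 1, 1, 0, 1, 0, 3, 2, 3], 0, false),
    ([0, 3, 0, 3, 0, 3, 2, 1, 2, 1, 1, 0, 3, 0, 1, 0, 3, 2, 3, 2, 1, 2, 3, 3, 0, 3, 0, 1, 2, 1, 2, 1, 1, 0, 3, 0, 3, 0, 3, 2, 1, 2, 1, 2, 3, 3, 0, 3, 0, 3, 2, 1, 2, 1, 1, 0, 3, 0, 1, 0, 1], 0, false),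
    ([0, 3, 0, 3, 0, 3, 2, 1, 2, 1, 1, 0, 3, 0, 1, 0], 0, true),
    ([0, 1, 0, 1, 0, 3, 2, 3], 0, true),
    ([0, 1, 0, 1, 0, 3, 2, 3, 2, 3, 3, 0, 3, 0, 3, 2, 1, 2, 1, 1, 0, 3, 0, 1, 0, 1, 0, 3, 2, 1], 0, true),
    ([0, 1, 0, 1, 0, 3, 2, 3, 2, 3, 3, 0, 3, 0, 3, 2, 1, 2, 1, 1, 0, 3, 0, 1, 0, 1, 0, 3, 2, 1, 2, 2, 3], 0, true),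
    ([0, 1, 0, 1, 0, 3, 2, 3, 2, 3, 3, 0, 3, 0, 3, 2, 1, 2, 1, 1, 0, 3, 0, 1, 0, 1, 0, 3, 2, 1, 2, 2, 3, 2, 1, 2, 3, 2, 3, 2, 1, 2, 3, 3, 0, 3, 0, 1, 2, 1, 2, 1, 1, 2, 1, 0, 1, 2, 3, 2, 3, 3], 1, false),
    ([0, 1, 0, 1, 0, 3, 2, 3, 2, 3, 3, 0, 3, 0, 3, 2, 1, 2, 1, 1, 0, 3, 0, 1, 0, 1, 0, 3, 2, 1, 2, 2, 3, 2, 1, 2, 3, 2, 3, 2, 1, 2, 3, 3, 0, 3, 0, 1, 2, 1, 2], 1, true),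
    ([0, 1, 0, 1, 0, 3, 2, 3, 2, 3, 3, 0, 3, 0, 3, 2, 1, 2, 1, 1, 0, 3, 0, 1, 0, 1, 0, 3, 2, 1, 2, 2, 3, 2, 1, 2, 3, 2, 3, 2, 1, 2, 3, 3], 1, false),
    ([0, 1, 0, 1, 0, 3, 2, 3, 2, 3, 3, 0, 3, 0, 3, 2, 1, 2, 1, 1, 0, 3, 0, 1, 0, 1, 0, 3, 2, 1, 2, 3, 3], 1, true),
    ([0, 1, 0, 1, 0, 3, 2, 3, 2, 3, 3, 0, 3, 0, 3, 2, 1, 2, 1, 1, 0, 3, 0, 1, 0, 1, 0, 3, 2, 1, 2, 3, 3, 3, 2, 3, 2, 1, 2, 3, 2, 3, 2, 1, 2, 1, 0, 3, 0, 1, 2, 1, 2, 3, 2, 1, 0], 0, true),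
    ([0, 1, 0, 1, 0, 3, 2, 3, 2, 3, 3, 0, 3, 0, 3, 2, 1, 2, 1, 1, 0, 3, 0, 1, 0, 1, 0, 3, 2, 1, 2, 3, 3, 3, 2, 3, 2, 1, 2, 3, 2, 3, 2, 1, 2, 1, 0, 3, 0, 1, 2, 1, 2, 3, 2, 1, 2, 1, 2, 3, 2, 1], 0, true),
    ([0, 1, 0, 1, 0, 3, 2, 3, 2, 3, 3, 0, 3, 0, 3, 2, 1, 2, 1, 1, 0, 3, 0, 1, 0, 1, 0, 3, 2, 1, 2, 3, 3, 3, 2, 3, 2, 1, 2, 3, 2, 3, 2, 1, 2, 1], 0, true),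
    ([0, 1, 0, 1, 0, 3, 2, 3, 2, 3, 3, 0, 3, 0, 3, 2, 1, 2, 1, 1, 0, 3, 0, 1, 0, 1, 0, 3, 2, 1, 2, 3, 3, 3, 2, 3, 2, 1, 2, 3, 2, 3, 2, 1, 2, 1, 2, 3, 0, 1, 2, 1, 2, 3, 2, 1, 2, 1, 2, 3, 2, 1, 2, 3, 0], 0, true),
    ([0, 1, 0, 1, 0, 3, 2, 3, 2, 3, 3, 0, 3, 0, 3, 2, 1, 2, 1, 1, 0, 3, 0, 1, 0, 1, 0, 3, 2, 1, 2, 3, 3, 3, 2, 3, 2, 1, 2, 3, 2, 3, 2, 1, 2, 1, 2, 3, 0], 0, true),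
    ([0, 1, 0, 1, 0, 3, 2, 3, 2, 3, 3, 0, 3, 0, 3, 2, 1, 2, 1, 1, 0, 3, 0, 1, 0, 1, 0, 3, 2, 1, 2, 3, 3, 0, 3, 0, 1, 0, 1, 0, 3, 0, 1, 0, 3, 0, 3, 0, 1, 0, 3, 0, 3, 0, 1, 0, 3, 0, 3], 6, false),
    ([0, 1, 0, 1, 0, 3, 2, 3, 3, 0, 3, 0, 3, 2, 1, 2, 1, 1, 0, 1, 2, 3, 2, 3, 3, 0, 3, 0, 3, 2, 1, 2, 1, 1, 0, 1, 0, 3, 2, 3, 3, 0, 3, 0], 0, true),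
    ([0, 1, 0, 1, 0, 3, 2, 3, 3, 0, 3, 0], 0, true),
    ([0, 1, 0], 0, true),
    ([0, 3, 0, 3, 0, 1, 2, 1, 2, 1, 1, 0, 1, 0, 3, 2, 3, 3, 0, 3, 0, 1, 0, 1, 2, 1, 1, 0, 1, 2, 3], 0, true)] : List Step)
  ++ ([([0, 3, 0, 3, 0, 1, 2, 1, 2, 1, 1, 0, 1, 0, 3, 2, 3, 3, 0, 3, 0, 1, 0, 1, 2, 1, 1, 0, 1, 2, 3, 2, 2, 1, 0, 3, 2, 3, 3, 0, 3, 2, 3, 2, 1, 2, 1, 1, 0, 1, 2, 3, 2, 3, 3, 0, 3, 0, 3, 2, 1, 2, 1, 1, 2, 1, 0, 3, 2, 3, 3], 0, true),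
    ([0, 3, 0, 3, 0, 1, 2, 1, 2, 1, 1, 0, 1, 0, 3, 2, 3, 3, 0, 3, 0, 1, 0, 1, 2, 1, 1, 0, 1, 2, 3, 2, 2, 1, 0, 3, 2, 3, 3], 0, true),
    ([0, 3, 0, 3, 0, 1, 2, 1, 2, 1, 1, 0, 1, 0, 3, 2, 3, 3, 0, 3, 0, 1, 0, 1, 2, 1, 1, 0, 1, 2, 3, 2, 2, 1, 0, 3, 2, 3, 3, 2, 3, 2, 3, 2, 1, 2, 1, 1, 0, 1, 2, 3, 2, 3, 3, 0, 3, 0, 3, 2, 1, 2, 1, 1, 2, 1, 0, 3, 2, 3, 3, 2, 3, 2, 3, 2, 1, 2, 1, 1, 0, 1, 2, 3, 2, 3, 3], 1, false),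
    ([0, 3, 0, 3, 0, 1, 2, 1, 2, 1, 1, 0, 1, 0, 3, 2, 3, 3, 0, 3, 0, 1, 0, 1, 2, 1, 1, 0, 1, 2, 3, 2, 2, 1, 0, 3, 2, 3, 3, 2, 3, 2, 3, 2, 1, 2, 1, 1, 0, 1, 2, 3, 2, 3, 3, 0, 3, 0, 3, 2, 1, 2], 1, true),
    ([0, 3, 0, 3, 0, 1, 2, 1, 2, 1, 1, 0, 1, 0, 3, 2, 3, 3, 0, 3, 0, 1, 0, 1, 2, 1, 1, 0, 1, 2, 3, 2, 2, 1, 0, 3, 2, 3, 3, 2, 3, 2, 3, 2, 1, 2, 1, 1, 0, 1, 2, 3, 2, 3, 3], 1, false),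
    ([0, 3, 0, 3, 0, 1, 2, 1, 2, 1, 1, 0, 1, 0, 3, 2, 3, 3, 0, 3, 0, 1, 0, 1, 2, 1, 1, 0, 1, 2, 3, 2, 3, 3], 1, true),
    ([0, 3, 0, 3, 0, 1, 2, 1, 2, 1, 1, 0, 1, 0, 3, 2, 3, 3, 0, 3, 0, 1, 0, 1, 2, 1, 1, 0, 1, 2, 3, 2, 3, 3, 3, 2, 1, 0, 3, 2, 3, 3, 2, 3, 2, 3, 2, 1, 2, 1, 1, 0, 1, 2, 3, 2, 1, 0, 3, 0, 3, 2, 1, 2, 3, 2, 1, 0, 3, 2, 3, 3, 2, 3, 2, 3, 2, 1, 2], 1, true),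
    ([0, 3, 0, 3, 0, 1, 2, 1, 2, 1, 1, 0, 1, 0, 3, 2, 3, 3, 0, 3, 0, 1, 0, 1, 2, 1, 1, 0, 1, 2, 3, 2, 3, 3, 3, 2, 1, 0, 3, 2, 3, 3, 2, 3, 2, 3, 2, 1, 2, 1, 1, 0, 1, 2, 3, 2, 1, 0, 3, 0, 3, 2, 1, 2, 3, 2, 1, 0, 3, 2, 3, 3], 1, false),
    ([0, 3, 0, 3, 0, 1, 2, 1, 2, 1, 1, 0, 1, 0, 3, 2, 3, 3, 0, 3, 0, 1, 0, 1, 2, 1, 1, 0, 1, 2, 3, 2, 3, 3, 3, 2, 1, 0, 3, 2, 3, 3, 2, 3, 2, 3, 2, 1, 2], 1, true),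
    ([0, 3, 0, 3, 0, 1, 2, 1, 2, 1, 1, 0, 1, 0, 3, 2, 3, 3, 0, 3, 0, 1, 0, 1, 2, 1, 1, 0, 1, 2, 3, 2, 3, 3, 3, 2, 1, 0, 3, 2, 3, 3], 1, false),
    ([0, 3, 0, 3, 0, 1, 2, 1, 2, 1, 1, 0, 1, 0, 3, 2, 3, 3, 0, 3, 0, 1, 0, 1, 2, 1, 1, 0, 1, 2, 3, 2, 3, 3, 3, 2, 1, 0, 3, 2, 1, 2, 3, 2, 3, 2, 1, 2, 3, 0, 1, 2, 3, 2, 1, 0, 3, 0, 3, 2, 1, 2, 3, 2, 1, 0, 3, 2, 1, 2, 3, 2, 3, 2, 1, 2, 3, 0], 0, true),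
    ([0, 3, 0, 3, 0, 1, 2, 1, 2, 1, 1, 0, 1, 0, 3, 2, 3, 3, 0, 3, 0, 1, 0, 1, 2, 1, 1, 0, 1, 2, 3, 2, 3, 3, 3, 2, 1, 0, 3, 2, 1, 2, 3, 2, 3, 2, 1, 2, 3, 0, 1, 2, 3, 2, 1, 0, 3, 0, 3, 2, 1, 2, 3, 2, 1, 0], 0, true),
    ([0, 3, 0, 3, 0, 1, 2, 1, 2, 1, 1, 0, 1, 0, 3, 2, 3, 3, 0, 3, 0, 1, 0, 1, 2, 1, 1, 0, 1, 2, 3, 2, 3, 3, 3, 2, 1, 0, 3, 2, 1, 2, 3, 2, 3, 2, 1, 2, 3, 0], 0, true),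
    ([0, 3, 0, 3, 0, 1, 2, 1, 2, 1, 1, 0, 1, 0, 3, 2, 3, 3, 0, 3, 0, 1, 0, 1, 2, 1, 1, 0, 1, 2, 3, 2, 3, 3, 3, 2, 1, 0], 0, true),
    ([0, 3, 0, 3, 0, 1, 2, 1, 2, 1, 1, 0, 1, 0, 3, 2, 3, 3, 0, 3, 0, 1, 0, 1, 2, 1, 1, 0, 1, 2, 3, 2, 3, 3, 3, 2, 1, 2, 3, 2, 1, 2, 3, 2, 3, 2, 1, 2, 3, 2, 1, 2, 3, 2, 1, 0, 3, 0, 3, 2, 1, 2, 3, 2, 1, 2, 3, 2, 1, 2, 3, 2, 3, 2, 1, 2, 3, 2, 1, 2, 3, 2, 1], 0, true),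
    ([0, 3, 0, 3, 0, 1, 2, 1, 2, 1, 1, 0, 1, 0, 3, 2, 3, 3, 0, 3, 0, 1, 0, 1, 2, 1, 1, 0, 1, 2, 3, 2, 3, 3, 3, 2, 1, 2, 3, 2, 1, 2, 3, 2, 3, 2, 1, 2, 3, 2, 1, 2, 3, 2, 1], 0, true),
    ([0, 3, 0, 3, 0, 1, 2, 1, 2, 1, 1, 0, 1, 0, 3, 2, 3, 3, 0, 3, 0, 1, 0, 1, 2, 1, 1, 0, 1, 2, 3, 2, 3, 3, 3, 2, 1, 2, 3, 2, 1, 2, 3, 2, 3, 2, 1, 2, 3, 2, 1, 2, 3, 2, 1, 2, 3, 0, 3, 2, 1, 2, 3, 2, 1, 2, 3, 2, 1, 2, 3, 2, 3, 2, 1, 2, 3, 2, 1, 2, 3, 2, 1, 2, 3, 0], 0, true),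
    ([0, 3, 0, 3, 0, 1, 2, 1, 2, 1, 1, 0, 1, 0, 3, 2, 3, 3, 0, 3, 0, 1, 0, 1, 2, 1, 1, 0, 1, 2, 3, 2, 3, 3, 3, 2, 1, 2, 3, 2, 1, 2, 3, 2, 3, 2, 1, 2, 3, 2, 1, 2, 3, 2, 1, 2, 3, 0], 0, true),
    ([0, 3, 0, 3, 0, 1, 2, 1, 2, 1, 1, 0, 1, 0, 3, 2, 3, 3, 0, 3, 0, 1, 0, 1, 2, 1, 1, 0, 1, 2, 3, 2, 3, 3, 0, 3, 0, 1, 0, 1, 0, 3, 0, 1, 0, 3, 0, 1, 0, 3], 5, false)] : List Step)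

/-- A derivation. -/
def sixDeriv27 : List Step :=
  ([([1, 0, 3, 2, 3, 3, 0, 3, 2, 1, 0, 3, 0, 3, 0, 1, 2, 1, 1, 0, 1, 2, 1, 1, 2, 1, 2, 3, 3, 0, 3, 2, 1, 2, 1, 1, 0, 3, 0, 1, 0, 3, 2, 3, 2, 1, 2, 3, 3, 0, 3, 0, 1, 2, 1, 2, 1, 1, 0, 3, 0, 3, 0, 1, 2, 1, 1, 0, 3, 2, 3, 3, 0, 3, 2, 1, 2, 1, 2, 3, 3, 0, 3, 0, 3, 2, 1, 2, 1, 1, 0, 3, 0, 1, 0, 1, 2, 3, 2, 1, 2, 3, 3, 0, 3, 0, 1, 2, 1, 2, 1, 1, 0, 1, 0, 3, 2, 3, 2, 3, 3, 0, 3, 0, 3, 2, 1, 2, 1, 1, 0, 3, 0, 1, 0, 1, 0, 3, 2, 1, 2, 3, 3, 0, 3, 0, 1, 0, 1, 0, 3, 0, 1, 0, 3, 0, 3, 0, 1, 0, 3, 0, 3, 0, 1, 0, 3, 0, 3], 6, true),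
    ([1, 0, 3, 2, 3, 3, 0, 3, 2, 1, 0, 3, 0, 3, 0, 1, 2, 1, 1, 0, 1, 2, 1, 1, 2, 1, 2, 3, 3, 0, 3, 2, 1, 2, 1, 1, 0, 3, 0, 1, 0, 3, 2, 3, 2, 1, 2, 3, 3, 0, 3, 0, 1, 2, 1, 2, 1, 1, 0, 3, 0, 3, 0, 1, 2, 1, 1, 0, 3, 2, 3, 3, 0, 3, 2, 1, 2, 1, 2, 3, 3, 0, 3, 0, 3, 2, 1, 2, 1, 1, 0, 3, 0, 1, 0, 1, 2, 3, 2, 1, 2, 3, 3, 0, 3, 0, 1, 2, 1, 2, 1, 1, 0, 1, 0, 3, 2, 3, 2, 3, 3, 0, 3, 0, 3, 2, 1, 2, 1, 1, 0, 3, 0, 1, 0, 1, 0, 3, 2, 1, 2, 3, 3, 3, 2, 3, 2, 1, 2, 3, 2, 3, 2, 1, 2, 1, 2, 3, 0], 0, false),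
    ([1, 0, 3, 2, 3, 3, 0, 3, 2, 1, 0, 3, 0, 3, 0, 1, 2, 1, 1, 0, 1, 2, 1, 1, 2, 1, 2, 3, 3, 0, 3, 2, 1, 2, 1, 1, 0, 3, 0, 1, 0, 3, 2, 3, 2, 1, 2, 3, 3, 0, 3, 0, 1, 2, 1, 2, 1, 1, 0, 3, 0, 3, 0, 1, 2, 1, 1, 0, 3, 2, 3, 3, 0, 3, 2, 1, 2, 1, 2, 3, 3, 0, 3, 0, 3, 2, 1, 2, 1, 1, 0, 3, 0, 1, 0, 1, 2, 3, 2, 1, 2, 3, 3, 0, 3, 0, 1, 2, 1, 2, 1, 1, 0, 1, 0, 3, 2, 3, 2, 3, 3, 0, 3, 0, 3, 2, 1, 2, 1, 1, 0, 3, 0, 1, 0, 1, 0, 3, 2, 1, 2, 3, 3, 3, 2, 3, 2, 1, 2, 3, 2, 3, 2, 1, 2, 1, 2, 3, 0, 1, 2, 1, 2, 3, 2, 1, 2, 1, 2, 3, 2, 1, 2, 3, 0], 0, false),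
    ([1, 0, 3, 2, 3, 3, 0, 3, 2, 1, 0, 3, 0, 3, 0, 1, 2, 1, 1, 0, 1, 2, 1, 1, 2, 1, 2, 3, 3, 0, 3, 2, 1, 2, 1, 1, 0, 3, 0, 1, 0, 3, 2, 3, 2, 1, 2, 3, 3, 0, 3, 0, 1, 2, 1, 2, 1, 1, 0, 3, 0, 3, 0, 1, 2, 1, 1, 0, 3, 2, 3, 3, 0, 3, 2, 1, 2, 1, 2, 3, 3, 0, 3, 0, 3, 2, 1, 2, 1, 1, 0, 3, 0, 1, 0, 1, 2, 3, 2, 1, 2, 3, 3, 0, 3, 0, 1, 2, 1, 2, 1, 1, 0, 1, 0, 3, 2, 3, 2, 3, 3, 0, 3, 0, 3, 2, 1, 2, 1, 1, 0, 3, 0, 1, 0, 1, 0, 3, 2, 1, 2, 3, 3, 3, 2, 3, 2, 1, 2, 3, 2, 3, 2, 1, 2, 1], 0, false),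
    ([1, 0, 3, 2, 3, 3, 0, 3, 2, 1, 0, 3, 0, 3, 0, 1, 2, 1, 1, 0, 1, 2, 1, 1, 2, 1, 2, 3, 3, 0, 3, 2, 1, 2, 1, 1, 0, 3, 0, 1, 0, 3, 2, 3, 2, 1, 2, 3, 3, 0, 3, 0, 1, 2, 1, 2, 1, 1, 0, 3, 0, 3, 0, 1, 2, 1, 1, 0, 3, 2, 3, 3, 0, 3, 2, 1, 2, 1, 2, 3, 3, 0, 3, 0, 3, 2, 1, 2, 1, 1, 0, 3, 0, 1, 0, 1, 2, 3, 2, 1, 2, 3, 3, 0, 3, 0, 1, 2, 1, 2, 1, 1, 0, 1, 0, 3, 2, 3, 2, 3, 3, 0, 3, 0, 3, 2, 1, 2, 1, 1, 0, 3, 0, 1, 0, 1, 0, 3, 2, 1, 2, 3, 3, 3, 2, 3, 2, 1, 2, 3, 2, 3, 2, 1, 2, 1, 0, 3, 0, 1, 2, 1, 2, 3, 2, 1, 2, 1, 2, 3, 2, 1], 0, false),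
    ([1, 0, 3, 2, 3, 3, 0, 3, 2, 1, 0, 3, 0, 3, 0, 1, 2, 1, 1, 0, 1, 2, 1, 1, 2, 1, 2, 3, 3, 0, 3, 2, 1, 2, 1, 1, 0, 3, 0, 1, 0, 3, 2, 3, 2, 1, 2, 3, 3, 0, 3, 0, 1, 2, 1, 2, 1, 1, 0, 3, 0, 3, 0, 1, 2, 1, 1, 0, 3, 2, 3, 3, 0, 3, 2, 1, 2, 1, 2, 3, 3, 0, 3, 0, 3, 2, 1, 2, 1, 1, 0, 3, 0, 1, 0, 1, 2, 3, 2, 1, 2, 3, 3, 0, 3, 0, 1, 2, 1, 2, 1, 1, 0, 1, 0, 3, 2, 3, 2, 3, 3, 0, 3, 0, 3, 2, 1, 2, 1, 1, 0, 3, 0, 1, 0, 1, 0, 3, 2, 1, 2, 3, 3, 3, 2, 3, 2, 1, 2, 3, 2, 3, 2, 1, 2, 1, 0, 3, 0, 1, 2, 1, 2, 3, 2, 1, 0], 0, false),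
    ([1, 0, 3, 2, 3, 3, 0, 3, 2, 1, 0, 3, 0, 3, 0, 1, 2, 1, 1, 0, 1, 2, 1, 1, 2, 1, 2, 3, 3, 0, 3, 2, 1, 2, 1, 1, 0, 3, 0, 1, 0, 3, 2, 3, 2, 1, 2, 3, 3, 0, 3, 0, 1, 2, 1, 2, 1, 1, 0, 3, 0, 3, 0, 1, 2, 1, 1, 0, 3, 2, 3, 3, 0, 3, 2, 1, 2, 1, 2, 3, 3, 0, 3, 0, 3, 2, 1, 2, 1, 1, 0, 3, 0, 1, 0, 1, 2, 3, 2, 1, 2, 3, 3, 0, 3, 0, 1, 2, 1, 2, 1, 1, 0, 1, 0, 3, 2, 3, 2, 3, 3, 0, 3, 0, 3, 2, 1, 2, 1, 1, 0, 3, 0, 1, 0, 1, 0, 3, 2, 1, 2, 3, 3], 1, false),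
    ([1, 0, 3, 2, 3, 3, 0, 3, 2, 1, 0, 3, 0, 3, 0, 1, 2, 1, 1, 0, 1, 2, 1, 1, 2, 1, 2, 3, 3, 0, 3, 2, 1, 2, 1, 1, 0, 3, 0, 1, 0, 3, 2, 3, 2, 1, 2, 3, 3, 0, 3, 0, 1, 2, 1, 2, 1, 1, 0, 3, 0, 3, 0, 1, 2, 1, 1, 0, 3, 2, 3, 3, 0, 3, 2, 1, 2, 1, 2, 3, 3, 0, 3, 0, 3, 2, 1, 2, 1, 1, 0, 3, 0, 1, 0, 1, 2, 3, 2, 1, 2, 3, 3, 0, 3, 0, 1, 2, 1, 2, 1, 1, 0, 1, 0, 3, 2, 3, 2, 3, 3, 0, 3, 0, 3, 2, 1, 2, 1, 1, 0, 3, 0, 1, 0, 1, 0, 3, 2, 1, 2, 2, 3, 2, 1, 2, 3, 2, 3, 2, 1, 2, 3, 3], 1, true),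
    ([1, 0, 3, 2, 3, 3, 0, 3, 2, 1, 0, 3, 0, 3, 0, 1, 2, 1, 1, 0, 1, 2, 1, 1, 2, 1, 2, 3, 3, 0, 3, 2, 1, 2, 1, 1, 0, 3, 0, 1, 0, 3, 2, 3, 2, 1, 2, 3, 3, 0, 3, 0, 1, 2, 1, 2, 1, 1, 0, 3, 0, 3, 0, 1, 2, 1, 1, 0, 3, 2, 3, 3, 0, 3, 2, 1, 2, 1, 2, 3, 3, 0, 3, 0, 3, 2, 1, 2, 1, 1, 0, 3, 0, 1, 0, 1, 2, 3, 2, 1, 2, 3, 3, 0, 3, 0, 1, 2, 1, 2, 1, 1, 0, 1, 0, 3, 2, 3, 2, 3, 3, 0, 3, 0, 3, 2, 1, 2, 1, 1, 0, 3, 0, 1, 0, 1, 0, 3, 2, 1, 2, 2, 3, 2, 1, 2, 3, 2, 3, 2, 1, 2, 3, 3, 0, 3, 0, 1, 2, 1, 2], 1, false),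
    ([1, 0, 3, 2, 3, 3, 0, 3, 2, 1, 0, 3, 0, 3, 0, 1, 2, 1, 1, 0, 1, 2, 1, 1, 2, 1, 2, 3, 3, 0, 3, 2, 1, 2, 1, 1, 0, 3, 0, 1, 0, 3, 2, 3, 2, 1, 2, 3, 3, 0, 3, 0, 1, 2, 1, 2, 1, 1, 0, 3, 0, 3, 0, 1, 2, 1, 1, 0, 3, 2, 3, 3, 0, 3, 2, 1, 2, 1, 2, 3, 3, 0, 3, 0, 3, 2, 1, 2, 1, 1, 0, 3, 0, 1, 0, 1, 2, 3, 2, 1, 2, 3, 3, 0, 3, 0, 1, 2, 1, 2, 1, 1, 0, 1, 0, 3, 2, 3, 2, 3, 3, 0, 3, 0, 3, 2, 1, 2, 1, 1, 0, 3, 0, 1, 0, 1, 0, 3, 2, 1, 2, 2, 3, 2, 1, 2, 3, 2, 3, 2, 1, 2, 3, 3, 0, 3, 0, 1, 2, 1, 2, 1, 1, 2, 1, 0, 1, 2, 3, 2, 3, 3], 1, true),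
    ([1, 0, 3, 2, 3, 3, 0, 3, 2, 1, 0, 3, 0, 3, 0, 1, 2, 1, 1, 0, 1, 2, 1, 1, 2, 1, 2, 3, 3, 0, 3, 2, 1, 2, 1, 1, 0, 3, 0, 1, 0, 3, 2, 3, 2, 1, 2, 3, 3, 0, 3, 0, 1, 2, 1, 2, 1, 1, 0, 3, 0, 3, 0, 1, 2, 1, 1, 0, 3, 2, 3, 3, 0, 3, 2, 1, 2, 1, 2, 3, 3, 0, 3, 0, 3, 2, 1, 2, 1, 1, 0, 3, 0, 1, 0, 1, 2, 3, 2, 1, 2, 3, 3, 0, 3, 0, 1, 2, 1, 2, 1, 1, 0, 1, 0, 3, 2, 3, 2, 3, 3, 0, 3, 0, 3, 2, 1, 2, 1, 1, 0, 3, 0, 1, 0, 1, 0, 3, 2, 1, 2, 2, 3], 0, false),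
    ([1, 0, 3, 2, 3, 3, 0, 3, 2, 1, 0, 3, 0, 3, 0, 1, 2, 1, 1, 0, 1, 2, 1, 1, 2, 1, 2, 3, 3, 0, 3, 2, 1, 2, 1, 1, 0, 3, 0, 1, 0, 3, 2, 3, 2, 1, 2, 3, 3, 0, 3, 0, 1, 2, 1, 2, 1, 1, 0, 3, 0, 3, 0, 1, 2, 1, 1, 0, 3, 2, 3, 3, 0, 3, 2, 1, 2, 1, 2, 3, 3, 0, 3, 0, 3, 2, 1, 2, 1, 1, 0, 3, 0, 1, 0, 1, 2, 3, 2, 1, 2, 3, 3, 0, 3, 0, 1, 2, 1, 2, 1, 1, 0, 1, 0, 3, 2, 3, 2, 3, 3, 0, 3, 0, 3, 2, 1, 2, 1, 1, 0, 3, 0, 1, 0, 1, 0, 3, 2, 1], 0, false),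
    ([1, 0, 3, 2, 3, 3, 0, 3, 2, 1, 0, 3, 0, 3, 0, 1, 2, 1, 1, 0, 1, 2, 1, 1, 2, 1, 2, 3, 3, 0, 3, 2, 1, 2, 1, 1, 0, 3, 0, 1, 0, 3, 2, 3, 2, 1, 2, 3, 3, 0, 3, 0, 1, 2, 1, 2, 1, 1, 0, 3, 0, 3, 0, 1, 2, 1, 1, 0, 3, 2, 3, 3, 0, 3, 2, 1, 2, 1, 2, 3, 3, 0, 3, 0, 3, 2, 1, 2, 1, 1, 0, 3, 0, 1, 0, 1, 2, 3, 2, 1, 2, 3, 3, 0, 3, 0, 1, 2, 1, 2, 1, 1, 0, 1, 0, 3, 2, 3], 0, false),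
    ([1, 0, 3, 2, 3, 3, 0, 3, 2, 1, 0, 3, 0, 3, 0, 1, 2, 1, 1, 0, 1, 2, 1, 1, 2, 1, 2, 3, 3, 0, 3, 2, 1, 2, 1, 1, 0, 3, 0, 1, 0, 3, 2, 3, 2, 1, 2, 3, 3, 0, 3, 0, 1, 2, 1, 2, 1, 1, 0, 3, 0, 3, 0, 1, 2, 1, 1, 0, 3, 2, 3, 3, 0, 3, 2, 1, 2, 1, 2, 3, 3, 0, 3, 0, 3, 2, 1, 2, 1, 1, 0, 3, 0, 1, 0, 1], 0, false),
    ([1, 0, 3, 2, 3, 3, 0, 3, 2, 1, 0, 3, 0, 3, 0, 1, 2, 1, 1, 0, 1, 2, 1, 1, 2, 1, 2, 3, 3, 0, 3, 2, 1, 2, 1, 1, 0, 3, 0, 1, 0], 0, true),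
    ([1, 0, 3, 2, 3, 3, 0, 3, 2, 1, 0, 3, 0, 3, 0, 1, 2, 1, 1, 0, 1, 2, 1, 1, 2, 1, 2, 3, 2, 1, 1, 0, 1, 0, 3, 2, 3], 0, true),
    ([1, 0, 3, 2, 3, 3, 0, 3, 2, 1, 0, 3, 0, 3, 0, 1, 2, 1, 1, 0, 1, 2, 1, 1, 2, 1, 2, 3, 2, 1, 1, 0, 1, 0, 3, 2, 3, 2, 3, 3, 0, 3, 0, 3, 2, 1, 2, 1, 1, 0, 3, 0, 1, 0, 1, 0, 3, 2, 1], 0, true),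
    ([1, 0, 3, 2, 3, 3, 0, 3, 2, 1, 0, 3, 0, 3, 0, 1, 2, 1, 1, 0, 1, 2, 1, 1, 2, 1, 2, 3, 2, 1, 1, 0, 1, 0, 3, 2, 3, 2, 3, 3, 0, 3, 0, 3, 2, 1, 2, 1, 1, 0, 3, 0, 1, 0, 1, 0, 3, 2, 1, 2, 2, 3], 0, true),
    ([1, 0, 3, 2, 3, 3, 0, 3, 2, 1, 0, 3, 0, 3, 0, 1, 2, 1, 1, 0, 1, 2, 1, 1, 2, 1, 2, 3, 2, 1, 1, 0, 1, 0, 3, 2, 3, 2, 3, 3, 0, 3, 0, 3, 2, 1, 2, 1, 1, 0, 3, 0, 1, 0, 1, 0, 3, 2, 1, 2, 2, 3, 2, 1, 2, 3, 2, 3, 2, 1, 2, 3, 3, 0, 3, 0, 1, 2, 1, 2, 1, 1, 2, 1, 0, 1, 2, 3, 2, 3, 3], 1, false),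
    ([1, 0, 3, 2, 3, 3, 0, 3, 2, 1, 0, 3, 0, 3, 0, 1, 2, 1, 1, 0, 1, 2, 1, 1, 2, 1, 2, 3, 2, 1, 1, 0, 1, 0, 3, 2, 3, 2, 3, 3, 0, 3, 0, 3, 2, 1, 2, 1, 1, 0, 3, 0, 1, 0, 1, 0, 3, 2, 1, 2, 2, 3, 2, 1, 2, 3, 2, 3, 2, 1, 2, 3, 3, 0, 3, 0, 1, 2, 1, 2], 1, true)] : List Step)
  ++ ([([1, 0, 3, 2, 3, 3, 0, 3, 2, 1, 0, 3, 0, 3, 0, 1, 2, 1, 1, 0, 1, 2, 1, 1, 2, 1, 2, 3, 2, 1, 1, 0, 1, 0, 3, 2, 3, 2, 3, 3, 0, 3, 0, 3, 2, 1, 2, 1, 1, 0, 3, 0, 1, 0, 1, 0, 3, 2, 1, 2, 2, 3, 2, 1, 2, 3, 2, 3, 2, 1, 2, 3, 3], 1, false),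
    ([1, 0, 3, 2, 3, 3, 0, 3, 2, 1, 0, 3, 0, 3, 0, 1, 2, 1, 1, 0, 1, 2, 1, 1, 2, 1, 2, 3, 2, 1, 1, 0, 1, 0, 3, 2, 3, 2, 3, 3, 0, 3, 0, 3, 2, 1, 2, 1, 1, 0, 3, 0, 1, 0, 1, 0, 3, 2, 1, 2, 3, 3], 1, true),
    ([1, 0, 3, 2, 3, 3, 0, 3, 2, 1, 0, 3, 0, 3, 0, 1, 2, 1, 1, 0, 1, 2, 1, 1, 2, 1, 2, 3, 2, 1, 1, 0, 1, 0, 3, 2, 3, 2, 3, 3, 0, 3, 0, 3, 2, 1, 2, 1, 1, 0, 3, 0, 1, 0, 1, 0, 3, 2, 1, 2, 3, 3, 3, 2, 3, 2, 1, 2, 3, 2, 3, 2, 1, 2, 1, 0, 3, 0, 1, 2, 1, 2, 3, 2, 1, 0], 0, true),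
    ([1, 0, 3, 2, 3, 3, 0, 3, 2, 1, 0, 3, 0, 3, 0, 1, 2, 1, 1, 0, 1, 2, 1, 1, 2, 1, 2, 3, 2, 1, 1, 0, 1, 0, 3, 2, 3, 2, 3, 3, 0, 3, 0, 3, 2, 1, 2, 1, 1, 0, 3, 0, 1, 0, 1, 0, 3, 2, 1, 2, 3, 3, 3, 2, 3, 2, 1, 2, 3, 2, 3, 2, 1, 2, 1, 0, 3, 0, 1, 2, 1, 2, 3, 2, 1, 2, 1, 2, 3, 2, 1], 0, true),
    ([1, 0, 3, 2, 3, 3, 0, 3, 2, 1, 0, 3, 0, 3, 0, 1, 2, 1, 1, 0, 1, 2, 1, 1, 2, 1, 2, 3, 2, 1, 1, 0, 1, 0, 3, 2, 3, 2, 3, 3, 0, 3, 0, 3, 2, 1, 2, 1, 1, 0, 3, 0, 1, 0, 1, 0, 3, 2, 1, 2, 3, 3, 3, 2, 3, 2, 1, 2, 3, 2, 3, 2, 1, 2, 1], 0, true),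
    ([1, 0, 3, 2, 3, 3, 0, 3, 2, 1, 0, 3, 0, 3, 0, 1, 2, 1, 1, 0, 1, 2, 1, 1, 2, 1, 2, 3, 2, 1, 1, 0, 1, 0, 3, 2, 3, 2, 3, 3, 0, 3, 0, 3, 2, 1, 2, 1, 1, 0, 3, 0, 1, 0, 1, 0, 3, 2, 1, 2, 3, 3, 3, 2, 3, 2, 1, 2, 3, 2, 3, 2, 1, 2, 1, 2, 3, 0, 1, 2, 1, 2, 3, 2, 1, 2, 1, 2, 3, 2, 1, 2, 3, 0], 0, true),
    ([1, 0, 3, 2, 3, 3, 0, 3, 2, 1, 0, 3, 0, 3, 0, 1, 2, 1, 1, 0, 1, 2, 1, 1, 2, 1, 2, 3, 2, 1, 1, 0, 1, 0, 3, 2, 3, 2, 3, 3, 0, 3, 0, 3, 2, 1, 2, 1, 1, 0, 3, 0, 1, 0, 1, 0, 3, 2, 1, 2, 3, 3, 3, 2, 3, 2, 1, 2, 3, 2, 3, 2, 1, 2, 1, 2, 3, 0], 0, true),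
    ([1, 0, 3, 2, 3, 3, 0, 3, 2, 1, 0, 3, 0, 3, 0, 1, 2, 1, 1, 0, 1, 2, 1, 1, 2, 1, 2, 3, 2, 1, 1, 0, 1, 0, 3, 2, 3, 2, 3, 3, 0, 3, 0, 3, 2, 1, 2, 1, 1, 0, 3, 0, 1, 0, 1, 0, 3, 2, 1, 2, 3, 3, 0, 3, 0, 1, 0, 1, 0, 3, 0, 1, 0, 3, 0, 3, 0, 1, 0, 3, 0, 3, 0, 1, 0, 3, 0, 3], 6, false),
    ([1, 0, 3, 2, 3, 3, 0, 3, 2, 1, 0, 3, 0, 3, 0, 1, 2, 1, 1, 0, 1, 2, 1, 1], 1, true),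
    ([1, 0, 3, 2, 3], 1, false),
    ([1, 0, 3, 2, 1, 0, 3, 2, 1, 0, 3, 0, 3, 0, 1, 2, 1, 1, 0, 1, 2, 3, 2, 1, 2, 3, 2, 1, 1, 0, 1, 0, 3, 2, 3, 3, 0, 3, 0, 1, 2, 1, 1, 0, 3, 2, 3, 3, 0, 3, 2, 1, 2, 1, 1, 0, 1, 2, 3, 2, 3, 2, 1], 0, true),
    ([1, 0, 0, 3, 0, 1, 0, 1, 0, 3, 2, 3, 3, 0, 3, 0, 1, 2], 1, false),
    ([1, 0, 0, 3, 0, 1, 0, 1, 0, 3, 2, 3, 3, 0, 3, 0, 1, 2, 1, 1, 0, 1, 2, 3, 3], 1, true),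
    ([1, 0, 0, 3, 0, 1, 0, 1, 0, 3, 2, 3, 3, 0, 3, 0, 1, 2, 1, 1, 0, 1, 2, 3, 3, 3, 0], 0, true),
    ([1, 0, 0, 3, 0, 1, 0, 1, 0, 3, 2, 3, 3, 0, 3, 0, 1, 2, 1, 1, 0, 1, 2, 3, 3, 3, 2, 3, 2, 1, 0, 3, 2, 1, 2, 1, 1, 0, 1, 2, 3, 2, 3, 2, 1, 2, 3, 2, 1, 0, 3, 2, 1, 0, 3, 0, 3, 0, 1, 2, 1, 1, 0, 1, 2, 3, 2, 1, 2, 3, 2, 1, 1, 0, 1, 0, 3, 2, 3, 3, 0, 3, 0], 0, true),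
    ([1, 0, 0, 3, 0, 1, 0, 1, 0, 3, 2, 3, 3, 0, 3, 0, 1, 2, 1, 1, 0, 1, 2, 3, 3, 3, 2, 3, 2, 1, 0], 0, true),
    ([1, 0, 0, 3, 0, 1, 0, 1, 0, 3, 2, 3, 3, 0, 3, 0, 1, 2, 1, 1, 0, 1, 2, 3, 3, 3, 2, 3, 2, 1, 2, 3, 2, 1, 2, 1, 1, 0, 1, 2, 3, 2, 3, 2, 1, 2, 3, 2, 1, 0], 0, true),
    ([1, 0, 0, 3, 0, 1, 0, 1, 0, 3, 2, 3, 3, 0, 3, 0, 1, 2, 1, 1, 0, 1, 2, 3, 3, 3, 2, 3, 2, 1, 2, 3, 2, 1, 2, 1, 1, 0, 1, 2, 3, 2, 3, 2, 1, 2, 3, 2, 1, 2, 3, 2, 1, 0, 3, 0, 3, 0, 1, 2, 1, 1, 0, 1, 2, 3, 2, 1, 2, 3, 2, 1, 1, 0], 0, true),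
    ([1, 0, 0, 3, 0, 1, 0, 1, 0, 3, 2, 3, 3, 0, 3, 0, 1, 2, 1, 1, 0, 1, 2, 3, 3, 3, 2, 3, 2, 1, 2, 3, 2, 1, 2, 1, 1, 0, 1, 2, 3, 2, 3, 2, 1, 2, 3, 2, 1, 2, 3, 2, 1, 0, 3, 0, 3, 0, 1, 2, 1, 1, 0, 1, 2, 3, 2, 1, 2, 3, 2, 1, 1, 2, 1, 0, 3, 2, 3, 3], 0, true),
    ([1, 0, 0, 3, 0, 1, 0, 1, 0, 3, 2, 3, 3, 0, 3, 0, 1, 2, 1, 1, 0, 1, 2, 3, 3, 3, 2, 3, 2, 1, 2, 3, 2, 1, 2, 1, 1, 0, 1, 2, 3, 2, 3, 2, 1, 2, 3, 2, 1, 2, 3, 2, 1], 0, true)] : List Step)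
  ++ ([([1, 0, 0, 3, 0, 1, 0, 1, 0, 3, 2, 3, 3, 0, 3, 0, 1, 2, 1, 1, 0, 1, 2, 3, 3, 3, 2, 3, 2, 1, 2, 3, 2, 1, 2, 1, 1, 0, 1, 2, 3, 2, 3, 2, 1, 2, 3, 2, 1, 2, 3, 2, 1, 2, 3, 0, 3, 0, 1, 2, 1, 1, 0, 1, 2, 3, 2, 1, 2, 3, 2], 1, true),
    ([1, 0, 0, 3, 0, 1, 0, 1, 0, 3, 2, 3, 3, 0, 3, 0, 1, 2, 1, 1, 0, 1, 2, 3, 3, 3, 2, 3, 2, 1, 2, 3, 2, 1, 2, 1, 1, 0, 1, 2, 3, 2, 3, 2, 1, 2, 3, 2, 1, 2, 3, 2, 1, 2, 3, 0, 3, 0, 1, 2, 1, 1, 0, 1, 2, 3, 2, 1, 2, 3, 2, 3, 2, 1, 0, 3, 2, 3, 3], 1, false),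
    ([1, 0, 0, 3, 0, 1, 0, 1, 0, 3, 2, 3, 3, 0, 3, 0, 1, 2, 1, 1, 0, 1, 2, 3, 3, 3, 2, 3, 2, 1, 2, 3, 2, 1, 2], 1, true),
    ([1, 0, 0, 3, 0, 1, 0, 1, 0, 3, 2, 3, 3, 0, 3, 0, 1, 2, 1, 1, 0, 1, 2, 3, 3, 3, 2, 3, 2, 1, 2, 3, 2, 1, 2, 3, 0, 1, 2, 3, 2, 3, 2, 1, 2, 3, 2, 1, 2, 3, 2, 1, 2, 3, 0, 3, 0, 1, 2, 1, 1, 0, 1, 2, 3, 2, 1, 2, 3, 2, 3, 2, 1, 0], 0, true),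
    ([1, 0, 0, 3, 0, 1, 0, 1, 0, 3, 2, 3, 3, 0, 3, 0, 1, 2, 1, 1, 0, 1, 2, 3, 3, 3, 2, 3, 2, 1, 2, 3, 2, 1, 2, 3, 0], 0, true),
    ([1, 0, 0, 3, 0, 1, 0, 1, 0, 3, 2, 3, 3, 0, 3, 0, 1, 2, 1, 1, 0, 1, 2, 3, 3, 3, 2, 3, 2, 1, 2, 3, 2, 1, 2, 3, 2, 1, 2, 3, 2, 3, 2, 1, 2, 3, 2, 1, 2, 3, 2, 1, 2, 3], 0, true),
    ([1, 0, 0, 3, 0, 1, 0, 1, 0, 3, 2, 3, 3, 0, 3, 0, 1, 2, 1, 1, 0, 1, 2, 3, 3, 3, 2, 3, 2, 1, 2, 3, 2, 1, 2, 3, 2, 1, 2, 3, 2, 3, 2, 1, 2, 3, 2, 1, 2, 3, 2, 1, 2, 3, 2, 3, 0], 0, true),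
    ([1, 0, 0, 3, 0, 1, 0, 1, 0, 3, 2, 3, 3, 0, 3, 0, 1, 2, 1, 1, 0, 1, 2, 3, 3, 3, 2, 3, 2, 1, 2, 3, 2, 1, 2, 3, 2, 1, 2, 3, 2, 3, 2, 1, 2, 3, 2, 1, 2, 3, 2, 1, 2, 3, 2, 3, 2, 1, 2, 1, 1], 0, true),
    ([1, 0, 0, 3, 0, 1, 0, 1, 0, 3, 2, 3, 3, 0, 3, 0, 1, 2, 1, 1, 0, 1, 2, 3, 3, 3, 2, 3, 2, 1, 2, 3, 2, 1, 2, 3, 2, 1, 2, 3, 2, 3, 2, 1, 2, 3, 2, 1, 2, 3, 2, 1, 2, 3, 2, 3, 2, 1, 2, 1, 1], 1, true),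
    ([1, 0, 0, 3, 0, 1, 0, 1, 0, 3, 2, 3, 3, 0, 3, 0, 1, 2, 1, 1, 0, 1, 2, 3, 3, 0, 3, 0, 1, 0, 3, 0, 1, 0, 3, 0, 1, 0, 1, 0, 3, 0, 1, 0, 3, 0, 1, 0, 3, 0, 1, 0, 1, 0, 3, 0, 1, 0, 3, 0, 1, 0, 3], 5, false)] : List Step)

/-- A derivation. -/
def sixDeriv28 : List Step :=
  ([([0, 3, 0, 1, 0, 1, 2, 1, 1, 2, 1, 2, 3, 3, 0, 3, 3, 2, 1, 2, 1, 1, 0, 3, 0, 1, 0, 3, 2, 3, 2, 1, 2, 3, 3, 0, 3, 0, 1, 2, 1, 2, 1, 1, 0, 3, 0, 1, 0, 3, 2, 3, 3, 0, 3, 2, 1, 2, 1, 2, 3, 3, 0, 3, 0, 3, 2, 1, 2, 1, 1, 0, 3, 0, 1, 0, 1, 2, 3, 2, 1, 2, 3, 3, 0, 3, 0, 1, 2, 1, 2, 1, 1, 0, 1, 0, 3, 2, 3, 2, 3, 3, 0, 3, 0, 3, 2, 1, 2, 1, 1, 0, 3, 0, 1, 0, 1, 0, 3, 2, 1,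 2, 3, 3, 0, 3, 0, 1, 0, 1, 0, 3, 0, 1, 0, 3, 0, 3, 0, 1, 0, 3, 0, 3, 0, 1, 0, 3, 0, 3], 6, true),
    ([0, 3, 0, 1, 0, 1, 2, 1, 1, 2, 1, 2, 3, 3, 0, 3, 3, 2, 1, 2, 1, 1, 0, 3, 0, 1, 0, 3, 2, 3, 2, 1, 2, 3, 3, 0, 3, 0, 1, 2, 1, 2, 1, 1, 0, 3, 0, 1, 0, 3, 2, 3, 3, 0, 3, 2, 1, 2, 1, 2, 3, 3, 0, 3, 0, 3, 2, 1, 2, 1, 1, 0, 3, 0, 1, 0, 1, 2, 3, 2, 1, 2, 3, 3, 0, 3, 0, 1, 2, 1, 2, 1, 1, 0, 1, 0, 3, 2, 3, 2, 3, 3, 0, 3, 0, 3, 2, 1, 2, 1, 1, 0, 3, 0, 1, 0, 1, 0, 3, 2, 1, 2, 3, 3, 3, 2, 3, 2, 1, 2, 3, 2, 3, 2, 1, 2, 1, 2, 3, 0], 0, false),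
    ([0, 3, 0, 1, 0, 1, 2, 1, 1, 2, 1, 2, 3, 3, 0, 3, 3, 2, 1, 2, 1, 1, 0, 3, 0, 1, 0, 3, 2, 3, 2, 1, 2, 3, 3, 0, 3, 0, 1, 2, 1, 2, 1, 1, 0, 3, 0, 1, 0, 3, 2, 3, 3, 0, 3, 2, 1, 2, 1, 2, 3, 3, 0, 3, 0, 3, 2, 1, 2, 1, 1, 0, 3, 0, 1, 0, 1, 2, 3, 2, 1, 2, 3, 3, 0, 3, 0, 1, 2, 1, 2, 1, 1, 0, 1, 0, 3, 2, 3, 2, 3, 3, 0, 3, 0, 3, 2, 1, 2, 1, 1, 0, 3, 0, 1, 0, 1, 0, 3, 2, 1, 2, 3, 3, 3, 2, 3, 2, 1, 2, 3, 2, 3, 2, 1, 2, 1, 2, 3, 0, 1, 2, 1, 2, 3, 2, 1, 2, 1, 2, 3, 2, 1, 2, 3, 0], 0, false),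
    ([0, 3, 0, 1, 0, 1, 2, 1, 1, 2, 1, 2, 3, 3, 0, 3, 3, 2, 1, 2, 1, 1, 0, 3, 0, 1, 0, 3, 2, 3, 2, 1, 2, 3, 3, 0, 3, 0, 1, 2, 1, 2, 1, 1, 0, 3, 0, 1, 0, 3, 2, 3, 3, 0, 3, 2, 1, 2, 1, 2, 3, 3, 0, 3, 0, 3, 2, 1, 2, 1, 1, 0, 3, 0, 1, 0, 1, 2, 3, 2, 1, 2, 3, 3, 0, 3, 0, 1, 2, 1, 2, 1, 1, 0, 1, 0, 3, 2, 3, 2, 3, 3, 0, 3, 0, 3, 2, 1, 2, 1, 1, 0, 3, 0, 1, 0, 1, 0, 3, 2, 1, 2, 3, 3, 3, 2, 3, 2, 1, 2, 3, 2, 3, 2, 1, 2, 1], 0, false),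
    ([0, 3, 0, 1, 0, 1, 2, 1, 1, 2, 1, 2, 3, 3, 0, 3, 3, 2, 1, 2, 1, 1, 0, 3, 0, 1, 0, 3, 2, 3, 2, 1, 2, 3, 3, 0, 3, 0, 1, 2, 1, 2, 1, 1, 0, 3, 0, 1, 0, 3, 2, 3, 3, 0, 3, 2, 1, 2, 1, 2, 3, 3, 0, 3, 0, 3, 2, 1, 2, 1, 1, 0, 3, 0, 1, 0, 1, 2, 3, 2, 1, 2, 3, 3, 0, 3, 0, 1, 2, 1, 2, 1, 1, 0, 1, 0, 3, 2, 3, 2, 3, 3, 0, 3, 0, 3, 2, 1, 2, 1, 1, 0, 3, 0, 1, 0, 1, 0, 3, 2, 1, 2, 3, 3, 3, 2, 3, 2, 1, 2, 3, 2, 3, 2, 1, 2, 1, 0, 3, 0, 1, 2, 1, 2, 3, 2, 1, 2, 1, 2, 3, 2, 1], 0, false),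
    ([0, 3, 0, 1, 0, 1, 2, 1, 1, 2, 1, 2, 3, 3, 0, 3, 3, 2, 1, 2, 1, 1, 0, 3, 0, 1, 0, 3, 2, 3, 2, 1, 2, 3, 3, 0, 3, 0, 1, 2, 1, 2, 1, 1, 0, 3, 0, 1, 0, 3, 2, 3, 3, 0, 3, 2, 1, 2, 1, 2, 3, 3, 0, 3, 0, 3, 2, 1, 2, 1, 1, 0, 3, 0, 1, 0, 1, 2, 3, 2, 1, 2, 3, 3, 0, 3, 0, 1, 2, 1, 2, 1, 1, 0, 1, 0, 3, 2, 3, 2, 3, 3, 0, 3, 0, 3, 2, 1, 2, 1, 1, 0, 3, 0, 1, 0, 1, 0, 3, 2, 1, 2, 3, 3, 3, 2, 3, 2, 1, 2, 3, 2, 3, 2, 1, 2, 1, 0, 3, 0, 1, 2, 1, 2, 3, 2, 1, 0], 0, false),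
    ([0, 3, 0, 1, 0, 1, 2, 1, 1, 2, 1, 2, 3, 3, 0, 3, 3, 2, 1, 2, 1, 1, 0, 3, 0, 1, 0, 3, 2, 3, 2, 1, 2, 3, 3, 0, 3, 0, 1, 2, 1, 2, 1, 1, 0, 3, 0, 1, 0, 3, 2, 3, 3, 0, 3, 2, 1, 2, 1, 2, 3, 3, 0, 3, 0, 3, 2, 1, 2, 1, 1, 0, 3, 0, 1, 0, 1, 2, 3, 2, 1, 2, 3, 3, 0, 3, 0, 1, 2, 1, 2, 1, 1, 0, 1, 0, 3, 2, 3, 2, 3, 3, 0, 3, 0, 3, 2, 1, 2, 1, 1, 0, 3, 0, 1, 0, 1, 0, 3, 2, 1, 2, 3, 3], 1, false),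
    ([0, 3, 0, 1, 0, 1, 2, 1, 1, 2, 1, 2, 3, 3, 0, 3, 3, 2, 1, 2, 1, 1, 0, 3, 0, 1, 0, 3, 2, 3, 2, 1, 2, 3, 3, 0, 3, 0, 1, 2, 1, 2, 1, 1, 0, 3, 0, 1, 0, 3, 2, 3, 3, 0, 3, 2, 1, 2, 1, 2, 3, 3, 0, 3, 0, 3, 2, 1, 2, 1, 1, 0, 3, 0, 1, 0, 1, 2, 3, 2, 1, 2, 3, 3, 0, 3, 0, 1, 2, 1, 2, 1, 1, 0, 1, 0, 3, 2, 3, 2, 3, 3, 0, 3, 0, 3, 2, 1, 2, 1, 1, 0, 3, 0, 1, 0, 1, 0, 3, 2, 1, 2, 2, 3, 2, 1, 2, 3, 2, 3, 2, 1, 2, 3, 3], 1, true),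
    ([0, 3, 0, 1, 0, 1, 2, 1, 1, 2, 1, 2, 3, 3, 0, 3, 3, 2, 1, 2, 1, 1, 0, 3, 0, 1, 0, 3, 2, 3, 2, 1, 2, 3, 3, 0, 3, 0, 1, 2, 1, 2, 1, 1, 0, 3, 0, 1, 0, 3, 2, 3, 3, 0, 3, 2, 1, 2, 1, 2, 3, 3, 0, 3, 0, 3, 2, 1, 2, 1, 1, 0, 3, 0, 1, 0, 1, 2, 3, 2, 1, 2, 3, 3, 0, 3, 0, 1, 2, 1, 2, 1, 1, 0, 1, 0, 3, 2, 3, 2, 3, 3, 0, 3, 0, 3, 2, 1, 2, 1, 1, 0, 3, 0, 1, 0, 1, 0, 3, 2, 1, 2, 2, 3, 2, 1, 2, 3, 2, 3, 2, 1, 2, 3, 3, 0, 3, 0, 1, 2, 1, 2], 1, false),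
    ([0, 3, 0, 1, 0, 1, 2, 1, 1, 2, 1, 2, 3, 3, 0, 3, 3, 2, 1, 2, 1, 1, 0, 3, 0, 1, 0, 3, 2, 3, 2, 1, 2, 3, 3, 0, 3, 0, 1, 2, 1, 2, 1, 1, 0, 3, 0, 1, 0, 3, 2, 3, 3, 0, 3, 2, 1, 2, 1, 2, 3, 3, 0, 3, 0, 3, 2, 1, 2, 1, 1, 0, 3, 0, 1, 0, 1, 2, 3, 2, 1, 2, 3, 3, 0, 3, 0, 1, 2, 1, 2, 1, 1, 0, 1, 0, 3, 2, 3, 2, 3, 3, 0, 3, 0, 3, 2, 1, 2, 1, 1, 0, 3, 0, 1, 0, 1, 0, 3, 2, 1, 2, 2, 3, 2, 1, 2, 3, 2, 3, 2, 1, 2, 3, 3, 0, 3, 0, 1, 2, 1, 2, 1, 1, 2, 1, 0, 1, 2, 3, 2, 3, 3], 1, true),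
    ([0, 3, 0, 1, 0, 1, 2, 1, 1, 2, 1, 2, 3, 3, 0, 3, 3, 2, 1, 2, 1, 1, 0, 3, 0, 1, 0, 3, 2, 3, 2, 1, 2, 3, 3, 0, 3, 0, 1, 2, 1, 2, 1, 1, 0, 3, 0, 1, 0, 3, 2, 3, 3, 0, 3, 2, 1, 2, 1, 2, 3, 3, 0, 3, 0, 3, 2, 1, 2, 1, 1, 0, 3, 0, 1, 0, 1, 2, 3, 2, 1, 2, 3, 3, 0, 3, 0, 1, 2, 1, 2, 1, 1, 0, 1, 0, 3, 2, 3, 2, 3, 3, 0, 3, 0, 3, 2, 1, 2, 1, 1, 0, 3, 0, 1, 0, 1, 0, 3, 2, 1, 2, 2, 3], 0, false),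
    ([0, 3, 0, 1, 0, 1, 2, 1, 1, 2, 1, 2, 3, 3, 0, 3, 3, 2, 1, 2, 1, 1, 0, 3, 0, 1, 0, 3, 2, 3, 2, 1, 2, 3, 3, 0, 3, 0, 1, 2, 1, 2, 1, 1, 0, 3, 0, 1, 0, 3, 2, 3, 3, 0, 3, 2, 1, 2, 1, 2, 3, 3, 0, 3, 0, 3, 2, 1, 2, 1, 1, 0, 3, 0, 1, 0, 1, 2, 3, 2, 1, 2, 3, 3, 0, 3, 0, 1, 2, 1, 2, 1, 1, 0, 1, 0, 3, 2, 3, 2, 3, 3, 0, 3, 0, 3, 2, 1, 2, 1, 1, 0, 3, 0, 1, 0, 1, 0, 3, 2, 1], 0, false),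
    ([0, 3, 0, 1, 0, 1, 2, 1, 1, 2, 1, 2, 3, 3, 0, 3, 3, 2, 1, 2, 1, 1, 0, 3, 0, 1, 0, 3, 2, 3, 2, 1, 2, 3, 3, 0, 3, 0, 1, 2, 1, 2, 1, 1, 0, 3, 0, 1, 0, 3, 2, 3, 3, 0, 3, 2, 1, 2, 1, 2, 3, 3, 0, 3, 0, 3, 2, 1, 2, 1, 1, 0, 3, 0, 1, 0, 1, 2, 3, 2, 1, 2, 3, 3, 0, 3, 0, 1, 2, 1, 2, 1, 1, 0, 1, 0, 3, 2, 3], 0, false),
    ([0, 3, 0, 1, 0, 1, 2, 1, 1, 2, 1, 2, 3, 3, 0, 3, 3, 2, 1, 2, 1, 1, 0, 3, 0, 1, 0, 3, 2, 3, 2, 1, 2, 3, 3, 0, 3, 0, 1, 2, 1, 2, 1, 1, 0, 3, 0, 1, 0, 3, 2, 3, 3, 0, 3, 2, 1, 2, 1, 2, 3, 3, 0, 3, 0, 3, 2, 1, 2, 1, 1, 0, 3, 0, 1, 0, 1], 0, false),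
    ([0, 3, 0, 1, 0, 1, 2, 1, 1, 2, 1, 2, 3, 3, 0, 3, 3, 2, 1, 2, 1, 1, 0, 3, 0, 1, 0], 0, true),
    ([0, 3, 0, 1, 0, 1, 2, 1, 1, 2, 1, 2, 3, 3, 0, 3, 2, 1, 2, 1, 1, 0, 1, 0, 3, 2, 3], 0, true),
    ([0, 3, 0, 1, 0, 1, 2, 1, 1, 2, 1, 2, 3, 3, 0, 3, 2, 1, 2, 1, 1, 0, 1, 0, 3, 2, 3, 2, 3, 3, 0, 3, 0, 3, 2, 1, 2, 1, 1, 0, 3, 0, 1, 0, 1, 0, 3, 2, 1], 0, true),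
    ([0, 3, 0, 1, 0, 1, 2, 1, 1, 2, 1, 2, 3, 3, 0, 3, 2, 1, 2, 1, 1, 0, 1, 0, 3, 2, 3, 2, 3, 3, 0, 3, 0, 3, 2, 1, 2, 1, 1, 0, 3, 0, 1, 0, 1, 0, 3, 2, 1, 2, 2, 3], 0, true),
    ([0, 3, 0, 1, 0, 1, 2, 1, 1, 2, 1, 2, 3, 3, 0, 3, 2, 1, 2, 1, 1, 0, 1, 0, 3, 2, 3, 2, 3, 3, 0, 3, 0, 3, 2, 1, 2, 1, 1, 0, 3, 0, 1, 0, 1, 0, 3, 2, 1, 2, 2, 3, 2, 1, 2, 3, 2, 3, 2, 1, 2, 3, 3, 0, 3, 0, 1, 2, 1, 2, 1, 1, 2, 1, 0, 1, 2, 3, 2, 3, 3], 1, false),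
    ([0, 3, 0, 1, 0, 1, 2, 1, 1, 2, 1, 2, 3, 3, 0, 3, 2, 1, 2, 1, 1, 0, 1, 0, 3, 2, 3, 2, 3, 3, 0, 3, 0, 3, 2, 1, 2, 1, 1, 0, 3, 0, 1, 0, 1, 0, 3, 2, 1, 2, 2, 3, 2, 1, 2, 3, 2, 3, 2, 1, 2, 3, 3, 0, 3, 0, 1, 2, 1, 2], 1, true)] : List Step)
  ++ ([([0, 3, 0, 1, 0, 1, 2, 1, 1, 2, 1, 2, 3, 3, 0, 3, 2, 1, 2, 1, 1, 0, 1, 0, 3, 2, 3, 2, 3, 3, 0, 3, 0, 3, 2, 1, 2, 1, 1, 0, 3, 0, 1, 0, 1, 0, 3, 2, 1, 2, 2, 3, 2, 1, 2, 3, 2, 3, 2, 1, 2, 3, 3], 1, false),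
    ([0, 3, 0, 1, 0, 1, 2, 1, 1, 2, 1, 2, 3, 3, 0, 3, 2, 1, 2, 1, 1, 0, 1, 0, 3, 2, 3, 2, 3, 3, 0, 3, 0, 3, 2, 1, 2, 1, 1, 0, 3, 0, 1, 0, 1, 0, 3, 2, 1, 2, 3, 3], 1, true),
    ([0, 3, 0, 1, 0, 1, 2, 1, 1, 2, 1, 2, 3, 3, 0, 3, 2, 1, 2, 1, 1, 0, 1, 0, 3, 2, 3, 2, 3, 3, 0, 3, 0, 3, 2, 1, 2, 1, 1, 0, 3, 0, 1, 0, 1, 0, 3, 2, 1, 2, 3, 3, 3, 2, 3, 2, 1, 2, 3, 2, 3, 2, 1, 2, 1, 0, 3, 0, 1, 2, 1, 2, 3, 2, 1, 0], 0, true),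
    ([0, 3, 0, 1, 0, 1, 2, 1, 1, 2, 1, 2, 3, 3, 0, 3, 2, 1, 2, 1, 1, 0, 1, 0, 3, 2, 3, 2, 3, 3, 0, 3, 0, 3, 2, 1, 2, 1, 1, 0, 3, 0, 1, 0, 1, 0, 3, 2, 1, 2, 3, 3, 3, 2, 3, 2, 1, 2, 3, 2, 3, 2, 1, 2, 1, 0, 3, 0, 1, 2, 1, 2, 3, 2, 1, 2, 1, 2, 3, 2, 1], 0, true),
    ([0, 3, 0, 1, 0, 1, 2, 1, 1, 2, 1, 2, 3, 3, 0, 3, 2, 1, 2, 1, 1, 0, 1, 0, 3, 2, 3, 2, 3, 3, 0, 3, 0, 3, 2, 1, 2, 1, 1, 0, 3, 0, 1, 0, 1, 0, 3, 2, 1, 2, 3, 3, 3, 2, 3, 2, 1, 2, 3, 2, 3, 2, 1, 2, 1], 0, true),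
    ([0, 3, 0, 1, 0, 1, 2, 1, 1, 2, 1, 2, 3, 3, 0, 3, 2, 1, 2, 1, 1, 0, 1, 0, 3, 2, 3, 2, 3, 3, 0, 3, 0, 3, 2, 1, 2, 1, 1, 0, 3, 0, 1, 0, 1, 0, 3, 2, 1, 2, 3, 3, 3, 2, 3, 2, 1, 2, 3, 2, 3, 2, 1, 2, 1, 2, 3, 0, 1, 2, 1, 2, 3, 2, 1, 2, 1, 2, 3, 2, 1, 2, 3, 0], 0, true),
    ([0, 3, 0, 1, 0, 1, 2, 1, 1, 2, 1, 2, 3, 3, 0, 3, 2, 1, 2, 1, 1, 0, 1, 0, 3, 2, 3, 2, 3, 3, 0, 3, 0, 3, 2, 1, 2, 1, 1, 0, 3, 0, 1, 0, 1, 0, 3, 2, 1, 2, 3, 3, 3, 2, 3, 2, 1, 2, 3, 2, 3, 2, 1, 2, 1, 2, 3, 0], 0, true),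
    ([0, 3, 0, 1, 0, 1, 2, 1, 1, 2, 1, 2, 3, 3, 0, 3, 2, 1, 2, 1, 1, 0, 1, 0, 3, 2, 3, 2, 3, 3, 0, 3, 0, 3, 2, 1, 2, 1, 1, 0, 3, 0, 1, 0, 1, 0, 3, 2, 1, 2, 3, 3, 0, 3, 0, 1, 0, 1, 0, 3, 0, 1, 0, 3, 0, 3, 0, 1, 0, 3, 0, 3, 0, 1, 0, 3, 0, 3], 6, false),
    ([0, 3, 0, 1, 0, 1, 0, 3, 0, 1, 2, 3, 3, 0, 3, 2, 1, 2, 1, 1, 0, 1, 0, 3, 2, 3, 3, 0, 1, 0, 3, 2, 3, 3, 0, 3, 0, 1, 0, 3, 0, 1, 0, 1, 0, 3, 0, 1, 0, 3, 0, 1, 0, 3, 0, 1, 0, 1, 0, 3, 0, 1, 0, 3, 0, 1, 0, 3, 0, 1, 0, 1, 0, 3, 0, 1, 0, 3, 0, 1, 0, 3], 5, true),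
    ([0, 3, 0, 1, 0, 1, 0, 3, 0, 1, 2, 3, 3, 0, 3, 2, 1, 2, 1, 1, 0, 1, 0, 3, 2, 3, 3, 0, 1, 0, 3, 2, 3, 3, 3, 2, 1, 2, 3, 2, 3, 2, 1, 2, 3, 2, 1, 2, 3, 2, 1, 2, 1, 1], 1, false),
    ([0, 3, 0, 1, 0, 1, 0, 3, 0, 1, 2, 3, 3, 0, 3, 2, 1, 2, 1, 1, 0, 1, 0, 3, 2, 3, 3, 0, 1, 0, 3, 2, 3, 3, 3, 2, 1, 2, 3, 2, 3, 2, 1, 2, 3, 2, 1, 2, 3, 2, 1, 2, 1, 1, 2, 3, 2, 1, 2, 3, 2], 1, true),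
    ([0, 3, 0, 1, 0, 1, 0, 3, 0, 1, 2, 3, 3, 0, 3, 2, 1, 2, 1, 1, 0, 1, 0, 3, 2, 3, 3, 0, 1, 0, 3, 2, 3, 3, 3, 2, 1, 2, 3, 2, 3, 2, 1, 2, 3, 2, 1, 2, 3, 2, 1, 2, 1, 1], 0, false),
    ([0, 3, 0, 1, 0, 1, 0, 3, 0, 1, 2, 3, 3, 0, 3, 2, 1, 2, 1, 1, 0, 1, 0, 3, 2, 3, 3, 0, 1, 0, 3, 2, 3, 3, 3, 2, 1, 2, 3, 2, 3, 2, 1, 2, 3, 2, 1, 2, 3, 0], 0, false),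
    ([0, 3, 0, 1, 0, 1, 0, 3, 0, 1, 2, 3, 3, 0, 3, 2, 1, 2, 1, 1, 0, 1, 0, 3, 2, 3, 3, 0, 1, 0, 3, 2, 3, 3, 3, 2, 1, 2, 3, 2, 3, 2, 1, 2, 3, 2, 1, 2, 3, 0, 1, 2, 1, 1, 0, 3, 2, 1, 2, 3, 2, 3, 3, 0], 0, false),
    ([0, 3, 0, 1, 0, 1, 0, 3, 0, 1, 2, 3, 3, 0, 3, 2, 1, 2, 1, 1, 0, 1, 0, 3, 2, 3, 3, 0, 1, 0, 3, 2, 3, 3, 3, 2, 1, 2, 3, 2, 3, 2, 1, 2, 3, 2, 1], 0, false),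
    ([0, 3, 0, 1, 0, 1, 0, 3, 0, 1, 2, 3, 3, 0, 3, 2, 1, 2, 1, 1, 0, 1, 0, 3, 2, 3, 3, 0, 1, 0, 3, 2, 3, 3, 3, 2, 1, 2, 3, 2, 3, 0], 0, false),
    ([0, 3, 0, 1, 0, 1, 0, 3, 0, 1, 2, 3, 3, 0, 3, 2, 1, 2, 1, 1, 0, 1, 0, 3, 2, 3, 3, 0, 1, 0, 3, 2, 3, 3, 3, 2, 1, 2, 3, 2, 3, 0, 1, 2, 3, 2, 1, 0, 3, 0, 1, 2, 1, 1, 0, 3, 2, 1, 2, 3, 2, 3, 3, 0, 3, 2, 1, 2, 3, 2, 3, 2, 1, 2, 3, 2, 1, 2, 3, 2, 1, 2, 3, 0], 0, false),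
    ([0, 3, 0, 1, 0, 1, 0, 3, 0, 1, 2, 3, 3, 0, 3, 2, 1, 2, 1, 1, 0, 1, 0, 3, 2, 3, 3, 0, 1, 0, 3, 2, 3, 3, 3, 2, 1, 2, 3, 2], 1, false),
    ([0, 3, 0, 1, 0, 1, 0, 3, 0, 1, 2, 3, 3, 0, 3, 2, 1, 2, 1, 1, 0, 1, 0, 3, 2, 3, 3, 0, 1, 0, 3, 2, 3, 3, 3, 2, 1, 2, 3, 2, 1, 1, 0, 1, 2, 3, 2, 1, 0, 3, 0, 1, 2, 1, 1, 0, 3, 2, 1, 2, 3, 2, 3, 3, 0, 3, 2, 1, 2, 3, 2, 3, 2, 1, 2, 3, 2, 1, 2, 3, 2, 1, 2], 1, false),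
    ([0, 3, 0, 1, 0, 1, 0, 3, 0, 1, 2, 3, 3, 0, 3, 2, 1, 2, 1, 1, 0, 1, 0, 3, 2, 3, 3, 0, 1, 0, 3, 2, 3, 3, 3, 2, 1, 2, 3, 2, 1, 1, 0, 1, 2, 3, 2, 1, 0, 3, 0, 1, 2, 1, 1, 0, 3, 2, 1, 2, 3, 2, 3, 3, 0, 3, 2, 1, 2, 3, 2, 3, 2, 1, 2, 3, 2, 1, 2, 3, 2, 1, 2, 1, 1, 0, 3, 2, 3, 3], 1, true)] : List Step)
  ++ ([([0, 3, 0, 1, 0, 1, 0, 3, 0, 1, 2, 3, 3, 0, 3, 2, 1, 2, 1, 1, 0, 1, 0, 3, 2, 3, 3, 0, 1, 0, 3, 2, 3, 3, 3, 2, 1, 2, 3, 2, 1, 1, 0, 1, 2, 3, 2, 3, 3], 1, true),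
    ([0, 3, 0, 1, 0, 1, 0, 3, 0, 1, 2, 3, 3, 0, 3, 2, 1, 2, 1, 1, 0, 1, 0, 3, 2, 3, 3, 0, 1, 0, 3, 2, 3, 3, 3, 2, 1, 2, 3, 2, 1, 1, 0, 1, 2, 3, 2, 3, 3, 0, 3, 0, 1, 2, 1, 1, 0, 3, 2, 1, 2, 3, 2, 3, 3, 0, 3, 2, 1, 2], 1, false),
    ([0, 3, 0, 1, 0, 1, 0, 3, 0, 1, 2, 3, 3, 0, 3, 2, 1, 2, 1, 1, 0, 1, 0, 3, 2, 3, 3, 0, 1, 0, 3, 2, 3, 3, 3, 2, 1, 2, 3, 2, 1, 1, 0, 1, 2, 3, 2, 3, 3, 0, 3, 0, 1, 2, 1, 1, 0, 3, 2, 1, 2, 3, 2, 3, 3, 0, 3, 2, 1, 2, 1, 1, 2, 3], 0, false),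
    ([0, 3, 0, 1, 0, 1, 0, 3, 0, 1, 2, 3, 3, 0, 3, 2, 1, 2, 1, 1, 0, 1, 0, 3, 2, 3, 3, 0, 1, 0, 3, 2, 3, 3, 3, 2, 1, 2, 3, 2, 1, 1, 0, 1, 2, 3, 2, 3, 3, 0, 3, 0, 1, 2, 1, 1, 0, 3, 2, 1, 2, 3, 2, 3, 3, 0, 3, 2, 1, 2, 1, 1, 2, 3, 0, 1, 2, 3, 2, 1, 2, 3, 2, 1, 2, 1, 1, 0, 3, 2, 3, 3], 0, false),
    ([0, 3, 0, 1, 0, 1, 0, 3, 0, 1, 2, 3, 3, 0, 3, 2, 1, 2, 1, 1, 0, 1, 0, 3, 2, 3, 3, 0, 1, 0, 3, 2, 3, 3, 3, 2, 1, 2, 3, 2, 1, 1, 0, 1, 2, 3, 2, 3, 3, 0, 3, 0, 1, 2, 1, 1, 0, 3, 2, 1, 2, 3, 2, 3, 3, 0, 3, 2, 1, 2, 1, 1, 0], 0, false),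
    ([0, 3, 0, 1, 0, 1, 0, 3, 0, 1, 2, 3, 3, 0, 3, 2, 1, 2, 1, 1, 0, 1, 0, 3, 2, 3, 3, 0, 1, 0, 3, 2, 3, 3, 3, 2, 1, 2, 3, 2, 1, 1, 0, 1, 2, 3, 2, 3, 3, 0, 3, 0, 1, 2, 1, 1, 0, 3, 2, 1, 2, 3, 2, 3, 3, 0, 3, 2, 1, 2, 1, 1, 0, 3, 0, 1, 2, 3, 2, 1, 0], 0, false),
    ([0, 3, 0, 1, 0, 1, 0, 3, 0, 1, 2, 3, 3, 0, 3, 2, 1, 2, 1, 1, 0, 1, 0, 3, 2, 3, 3, 0, 1, 0, 3, 2, 3, 3, 3, 2, 1, 2, 3, 2, 1, 1, 0, 1, 2, 3, 2, 3, 3, 0, 3, 0, 1, 2, 1, 1, 0, 3, 2, 1, 2, 3, 2, 3, 3, 0, 3, 2, 1, 2, 1, 1, 0, 3, 0, 1, 2, 3, 2, 1, 0, 3, 2, 1, 2, 1, 1, 0, 3, 2, 3, 3, 0, 3, 0], 0, false),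
    ([0, 3, 0, 1, 0, 1, 0, 3, 0, 1, 2, 3, 3, 0, 3, 2, 1, 2, 1, 1, 0, 1, 0, 3, 2, 3, 3, 0, 1, 0, 3, 2, 3, 3, 3, 0], 0, false),
    ([0, 3, 0, 1, 0, 1, 0, 3, 0, 1, 2, 3, 3, 0, 3, 2, 1, 2, 1, 1, 0, 1, 0, 3, 2, 3, 3, 0, 1, 0, 3, 2, 3, 3, 3, 0, 1, 2, 3, 2, 1, 1, 0, 1, 2, 3, 2, 3, 3, 0, 3, 0, 1, 2, 1, 1, 0, 3, 2, 1, 2, 3, 2, 3, 3, 0, 3, 2, 1, 2, 1, 1, 0, 3, 0, 1, 0], 0, false),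
    ([0, 3, 0, 1, 0, 1, 0, 3, 0, 1, 2, 3, 3, 0, 3, 2, 1, 2, 1, 1, 0, 1, 0, 3, 2, 3, 3, 0, 1, 0, 3, 2, 3, 3], 1, false),
    ([0, 3, 0, 3, 0, 3, 2, 1, 2, 1, 1, 0, 3, 0, 1, 0, 3, 2, 3, 3], 1, true),
    ([0, 3, 0, 3, 0, 3, 2, 1, 2, 1, 1, 0, 3, 0, 1, 0, 3, 2, 3, 3, 0, 3, 2, 1, 2, 1, 1, 0, 3, 2, 3, 3, 0, 3, 0, 1, 2, 1, 1, 0, 1, 2, 3, 2, 1, 1, 0, 1, 2, 3, 2, 3, 3, 0, 3, 0, 1, 2, 1, 1, 0, 3, 2], 1, true),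
    ([0, 3, 0, 3, 0, 3, 2, 1, 2, 1, 1, 0, 3, 0, 1, 0, 3, 2, 3, 3, 0, 3, 2, 1, 2, 1, 1, 0, 3, 2, 3, 3, 0, 3, 0, 1, 2, 1, 1, 0, 1, 2, 3, 2, 1, 1, 0, 1, 2, 3, 2, 3, 3, 0, 3, 0, 1, 2, 1, 1, 0, 3, 0], 0, false),
    ([0, 3, 0, 3, 0, 3, 2, 1, 2, 1, 1, 0, 3, 0, 1, 0, 3, 2, 3, 3, 0, 3, 2, 1, 2, 1, 1, 0, 3, 2, 3, 3, 0, 3, 0, 1, 2, 1, 1, 0, 1, 2, 3, 2, 1, 1, 0, 1, 2, 3, 2, 3, 3, 0, 3, 0, 1, 2, 1, 1, 0, 3, 0, 3, 3, 0], 0, false)] : List Step)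

/-- A derivation. -/
def sixDeriv29 : List Step :=
  ([([0, 3, 0, 1, 0, 1, 2, 1, 1, 2, 1, 1, 2, 1, 1, 2, 1, 1, 2, 1, 1, 2, 1, 1, 2, 1, 1, 2, 1, 1, 2, 1, 1, 2, 1, 1, 2, 1, 1, 2, 1, 1, 2, 1, 1, 2, 1, 1, 2, 1, 1, 2, 1, 1, 2, 1, 1, 2, 1, 1, 2, 1, 1, 2, 1, 1, 2, 1, 1, 2, 1, 1, 2, 1, 1], 1, true),
    ([0, 3, 0, 1, 0, 1, 2, 1, 1, 2, 1, 1, 2, 1, 1, 2, 1, 1, 2, 1, 1, 2, 1, 1, 2, 1, 1, 2, 1, 1, 2, 1, 1, 2, 1, 1, 2, 1, 1, 2, 1, 1, 2, 1, 1, 2, 1, 1, 2, 1, 1, 2, 1, 1, 2, 1, 1, 2, 1, 1, 2, 1, 1, 2, 1, 1, 2, 1, 1, 2, 1, 1], 1, true),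
    ([0, 3, 0, 1, 0, 1, 2, 1, 1, 2, 1, 1, 2, 1, 1, 2, 1, 1, 2, 1, 1, 2, 1, 1, 2, 1, 1, 2, 1, 1, 2, 1, 1, 2, 1, 1, 2, 1, 1, 2, 1, 1, 2, 1, 1, 2, 1, 1, 2, 1, 1, 2, 1, 1, 2, 1, 1, 2, 1, 1, 2, 1, 1, 2, 1, 1, 2, 1, 1], 1, true),
    ([0, 3, 0, 1, 0, 1, 2, 1, 1, 2, 1, 1, 2, 1, 1, 2, 1, 1, 2, 1, 1, 2, 1, 1, 2, 1, 1, 2, 1, 1, 2, 1, 1, 2, 1, 1, 2, 1, 1, 2, 1, 1, 2, 1, 1, 2, 1, 1, 2, 1, 1, 2, 1, 1, 2, 1, 1, 2, 1, 1, 2, 1, 1, 2, 1, 1], 1, true),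
    ([0, 3, 0, 1, 0, 1, 2, 1, 1, 2, 1, 1, 2, 1, 1, 2, 1, 1, 2, 1, 1, 2, 1, 1, 2, 1, 1, 2, 1, 1, 2, 1, 1, 2, 1, 1, 2, 1, 1, 2, 1, 1, 2, 1, 1, 2, 1, 1, 2, 1, 1, 2, 1, 1, 2, 1, 1, 2, 1, 1, 2, 1, 1], 1, true),
    ([0, 3, 0, 1, 0, 1, 2, 1, 1, 2, 1, 1, 2, 1, 1, 2, 1, 1, 2, 1, 1, 2, 1, 1, 2, 1, 1, 2, 1, 1, 2, 1, 1, 2, 1, 1, 2, 1, 1, 2, 1, 1, 2, 1, 1, 2, 1, 1, 2, 1, 1, 2, 1, 1, 2, 1, 1, 2, 1, 1], 1, true),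
    ([0, 3, 0, 1, 0, 1, 2, 1, 1, 2, 1, 1, 2, 1, 1, 2, 1, 1, 2, 1, 1, 2, 1, 1, 2, 1, 1, 2, 1, 1, 2, 1, 1, 2, 1, 1, 2, 1, 1, 2, 1, 1, 2, 1, 1, 2, 1, 1, 2, 1, 1, 2, 1, 1, 2, 1, 1], 1, true),
    ([0, 3, 0, 1, 0, 1, 2, 1, 1, 2, 1, 1, 2, 1, 1, 2, 1, 1, 2, 1, 1, 2, 1, 1, 2, 1, 1, 2, 1, 1, 2, 1, 1, 2, 1, 1, 2, 1, 1, 2, 1, 1, 2, 1, 1, 2, 1, 1, 2, 1, 1, 2, 1, 1], 1, true),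
    ([0, 3, 0, 1, 0, 1, 2, 1, 1, 2, 1, 1, 2, 1, 1, 2, 1, 1, 2, 1, 1, 2, 1, 1, 2, 1, 1, 2, 1, 1, 2, 1, 1, 2, 1, 1, 2, 1, 1, 2, 1, 1, 2, 1, 1, 2, 1, 1, 2, 1, 1], 1, true),
    ([0, 3, 0, 1, 0, 1, 2, 1, 1, 2, 1, 1, 2, 1, 1, 2, 1, 1, 2, 1, 1, 2, 1, 1, 2, 1, 1, 2, 1, 1, 2, 1, 1, 2, 1, 1, 2, 1, 1, 2, 1, 1, 2, 1, 1, 2, 1, 1], 1, true),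
    ([0, 3, 0, 1, 0, 1, 2, 1, 1, 2, 1, 1, 2, 1, 1, 2, 1, 1, 2, 1, 1, 2, 1, 1, 2, 1, 1, 2, 1, 1, 2, 1, 1, 2, 1, 1, 2, 1, 1, 2, 1, 1, 2, 1, 1], 1, true),
    ([0, 3, 0, 1, 0, 1, 2, 1, 1, 2, 1, 1, 2, 1, 1, 2, 1, 1, 2, 1, 1, 2, 1, 1, 2, 1, 1, 2, 1, 1, 2, 1, 1, 2, 1, 1, 2, 1, 1, 2, 1, 1], 1, true),
    ([0, 3, 0, 1, 0, 1, 2, 1, 1, 2, 1, 1, 2, 1, 1, 2, 1, 1, 2, 1, 1, 2, 1, 1, 2, 1, 1, 2, 1, 1, 2, 1, 1, 2, 1, 1, 2, 1, 1], 1, true),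
    ([0, 3, 0, 1, 0, 1, 2, 1, 1, 2, 1, 1, 2, 1, 1, 2, 1, 1, 2, 1, 1, 2, 1, 1, 2, 1, 1, 2, 1, 1, 2, 1, 1, 2, 1, 1], 1, true),
    ([0, 3, 0, 1, 0, 1, 2, 1, 1, 2, 1, 1, 2, 1, 1, 2, 1, 1, 2, 1, 1, 2, 1, 1, 2, 1, 1, 2, 1, 1, 2, 1, 1], 1, true),
    ([0, 3, 0, 1, 0, 1, 2, 1, 1, 2, 1, 1, 2, 1, 1, 2, 1, 1, 2, 1, 1, 2, 1, 1, 2, 1, 1, 2, 1, 1], 1, true),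
    ([0, 3, 0, 1, 0, 1, 2, 1, 1, 2, 1, 1, 2, 1, 1, 2, 1, 1, 2, 1, 1, 2, 1, 1, 2, 1, 1], 1, true),
    ([0, 3, 0, 1, 0, 1, 2, 1, 1, 2, 1, 1, 2, 1, 1, 2, 1, 1, 2, 1, 1, 2, 1, 1], 1, true),
    ([0, 3, 0, 1, 0, 1, 2, 1, 1, 2, 1, 1, 2, 1, 1, 2, 1, 1, 2, 1, 1], 1, true),
    ([0, 3, 0, 1, 0, 1, 2, 1, 1, 2, 1, 1, 2, 1, 1, 2, 1, 1], 1, true)] : List Step)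
  ++ ([([0, 3, 0, 1, 0, 1, 2, 1, 1, 2, 1, 1, 2, 1, 1], 1, true),
    ([0, 3, 0, 1, 0, 1, 2, 1, 1, 2, 1, 1], 1, true),
    ([0, 3, 0, 1, 0, 1, 2, 1, 1], 1, true),
    ([0, 3, 0, 1, 0, 1, 1], 2, false)] : List Step)

/-- Derivations of these relations. -/
def sixDerivs : List (List Step) :=
  [sixDeriv0, sixDeriv1, sixDeriv2, sixDeriv3, sixDeriv4, sixDeriv5, sixDeriv6, sixDeriv7, sixDeriv8, sixDeriv9, sixDeriv10, sixDeriv11, sixDeriv12, sixDeriv13, sixDeriv14, sixDeriv15, sixDeriv16, sixDeriv17, sixDeriv18, sixDeriv19, sixDeriv20, sixDeriv21, sixDeriv22, sixDeriv23, sixDeriv24, sixDeriv25, sixDeriv26, sixDeriv27, sixDeriv28, sixDeriv29]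

/-- A further relation. -/
def killWord : List Nat := [5, 1, 11, 7, 5, 5, 1, 11, 7, 5, 1, 11, 1, 5, 7, 11, 11, 1]

/-- Its derivation. -/
def killDeriv : List Step :=
  [([5, 1, 11, 7, 5, 5, 1, 11, 7, 5, 1, 11, 1, 5, 7, 11, 11, 1, 8, 5], 13, false),
    ([5, 1, 11, 7, 5, 5, 1, 11, 7, 5, 1, 11, 1, 5, 7, 11, 11, 1], 2, true),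
    ([5, 1, 11, 7, 5, 5, 1, 11, 7, 5, 1, 11, 1, 5, 7, 11, 11, 1, 5, 7], 13, false),
    ([5, 1, 11, 7, 5, 5, 1, 11, 7, 5, 1, 11, 1, 5, 7, 11, 11, 1, 5, 7, 11, 8, 5, 7], 0, false),
    ([5, 1, 11, 7, 5, 5, 1, 11, 7, 5, 1, 11, 1, 5, 7, 11, 11, 1, 5, 7, 11, 8, 5, 7, 11], 6, true),
    ([5, 1, 11, 7, 5, 5, 1, 11, 7, 5, 1, 11, 1, 5, 7, 11, 11, 1, 5, 7], 13, true),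
    ([5, 1, 11, 7, 5, 5, 1, 11, 7, 5, 1, 11, 1, 5, 7, 11, 7], 13, false),
    ([5, 1, 11, 7, 5, 5, 1, 11, 7, 5, 1, 11, 1, 5, 7, 11, 7, 11, 8, 5, 7, 11, 11, 2, 11, 2], 6, false),
    ([5, 1, 11, 7, 5, 5, 1, 11, 7, 5, 1, 11, 1, 5, 7, 11, 7], 13, true),
    ([5, 1, 11, 7, 5, 5, 1, 11, 7, 5, 1, 11, 1, 5, 7, 11], 21, true),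
    ([5, 1, 11, 7, 5, 5, 1, 11, 7, 5, 1, 11, 1, 5, 7, 11, 8, 5], 2, true),
    ([5, 1, 11, 7, 5, 5, 1, 11, 7, 5, 1, 11, 1, 5, 7, 11, 8, 5, 7], 0, false),
    ([5, 1, 11, 7, 5, 5, 1, 11, 7, 5, 1, 11, 1, 5, 7, 11, 8, 5, 7, 11], 6, true),
    ([5, 1, 11, 7, 5, 5, 1, 11, 7, 5, 1, 11, 1, 5, 7], 13, true),
    ([5, 1, 11, 7, 5, 5, 1, 11, 7, 5, 1], 21, true),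
    ([5, 1, 11, 7, 5, 5, 1, 11, 7, 5, 1, 8], 0, false),
    ([5, 1, 11, 7, 5, 5, 1, 11, 7, 5, 1, 8, 11], 6, true),
    ([5, 1, 11, 7, 5, 5, 1, 11, 7, 5, 1], 2, true),
    ([5, 1, 11, 7, 5, 5, 1, 11, 7, 5, 1, 5, 7], 13, false),
    ([5, 1, 11, 7, 5, 5, 1, 11, 7, 5, 1, 5, 7, 11, 8, 5, 7, 11], 6, true),
    ([5, 1, 11, 7, 5, 5, 1, 11, 7, 5, 1, 5, 7], 13, true),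
    ([5, 1, 11, 7, 5, 5, 1, 11, 7, 5], 2, false),
    ([5, 1, 11, 7, 5, 5, 1, 11, 7, 5, 8], 6, false),
    ([5, 1, 11, 7, 5, 5, 1, 11, 7, 5, 8, 11], 6, false),
    ([5, 1, 11, 7, 5, 5, 1, 11, 7, 5, 8], 0, true),
    ([5, 1, 11, 7, 5, 5, 1, 11, 7, 5], 21, false),
    ([5, 1, 11, 7, 5, 5], 13, false),
    ([5, 1, 11, 7, 5, 8, 5, 7, 11], 6, false),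
    ([5, 1, 11, 7, 5, 8, 5, 7], 0, true),
    ([5, 1, 11, 7, 5, 8], 0, false),
    ([5, 1, 11, 7, 5, 8, 11], 6, false),
    ([5, 1, 11, 7, 5, 8], 0, true),
    ([5, 1, 11, 7, 5], 21, false),
    ([5], 13, false),
    ([8, 5, 7, 11], 6, false),
    ([8, 5, 7], 0, true)]

/-- Relations of two of the generators. -/
def pairRels : List (List Nat) :=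
  [[5, 7, 5, 1, 11, 7, 7, 5, 1, 5, 7, 11, 1, 1, 5, 7, 11, 1],
    [7, 5, 1, 11, 7, 7, 5, 1, 11, 7, 7, 5, 1, 11, 7, 7, 5, 1, 11, 7, 7, 5, 1, 11, 7]]

/-- Their derivations. -/
def pairDerivs : List (List Step) :=
  [[([5, 7, 5, 1, 11, 7, 7, 5, 1, 5, 7, 11, 1, 1, 5, 7, 11, 1, 6, 6], 14, false),
    ([5, 7, 5, 1, 11, 7, 7, 5, 1, 5, 7, 11, 1, 1, 5, 7, 11, 1, 6, 6], 8, true),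
    ([5, 7, 5, 1, 11, 7, 7, 5, 1, 5, 7, 11, 1, 1, 5, 7, 11, 1, 6], 3, true),
    ([5, 7, 5, 1, 11, 7, 7, 5, 1, 5, 7, 11, 1, 1, 5, 7, 11, 1], 23, false),
    ([5, 7, 5, 1, 11, 7, 7, 5, 1, 5, 7, 11, 1, 1, 5, 7], 8, true),
    ([5, 7, 5, 1, 11, 7, 7, 5, 1, 5, 7, 11, 1, 1, 5, 7], 4, false),
    ([5, 7, 5, 1, 11, 7, 7, 5, 1, 5, 7, 11, 1, 1, 5, 7, 6, 6], 3, true),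
    ([5, 7, 5, 1, 11, 7, 7, 5, 1, 5, 7, 11, 1, 1, 5, 7], 4, true),
    ([5, 7, 5, 1, 11, 7, 7, 5, 1, 5, 7, 11, 1, 1, 5], 14, false),
    ([5, 7, 5, 1, 11, 7, 7, 5, 1, 5, 7, 11, 1, 6, 1], 8, true),
    ([5, 7, 5, 1, 11, 7, 7, 5, 1, 5, 7, 11, 1], 23, false),
    ([5, 7, 5, 1, 11, 7, 7, 5, 1, 5, 7], 8, true),
    ([5, 7, 5, 1, 11, 7, 7, 5, 1, 5, 7], 4, false),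
    ([5, 7, 5, 1, 11, 7, 7, 5, 1, 5, 7, 6, 6], 3, true),
    ([5, 7, 5, 1, 11, 7, 7, 5, 1, 5, 7], 4, true),
    ([5, 7, 5, 1, 11, 7, 7, 5, 1, 5], 14, false),
    ([5, 7, 5, 1, 11, 7, 7, 5, 6, 1], 8, true),
    ([5, 7, 5, 1, 11, 7, 7, 5], 4, true),
    ([5, 7, 5, 1, 11, 7, 7, 5, 1], 14, false),
    ([5, 7, 5, 1, 11, 7, 7, 5, 1, 11, 7, 6, 1], 8, false),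
    ([5, 7, 5, 1, 11, 7, 7, 5, 1], 14, true),
    ([5, 7, 5, 1, 11, 7, 7, 5], 4, false),
    ([5, 7, 5, 1, 11, 7, 7, 5, 6, 6], 3, false),
    ([5, 7, 5, 1, 11, 7, 7, 5], 4, true),
    ([5, 7, 5, 1, 11, 7, 7, 5], 8, false),
    ([5, 7, 5, 1, 11, 7], 23, true),
    ([5, 7, 5, 1, 11, 7, 6, 1], 8, false),
    ([5, 7, 5, 1], 14, true),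
    ([5, 7, 5], 4, false),
    ([5, 7, 5, 6, 6], 3, false),
    ([5, 7, 5], 4, true),
    ([5, 7, 5], 8, false),
    ([5], 23, true),
    ([5, 6], 3, false),
    ([5, 6, 6], 8, false),
    ([5, 6, 6], 0, true),
    ([5], 4, true),
    ([5], 8, false),
    ([], 4, false)],
  [([7, 5, 1, 11, 7, 7, 5, 1, 11, 7, 7, 5, 1, 11, 7, 7, 5, 1, 11, 7, 7, 5, 1, 11, 7, 6, 7], 23, false),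
    ([7, 5, 1, 11, 7, 7, 5, 1, 11, 7, 7, 5, 1, 11, 7, 7, 5, 1, 11, 7, 7, 5, 1, 11, 7, 6], 3, true),
    ([7, 5, 1, 11, 7, 7, 5, 1, 11, 7, 7, 5, 1, 11, 7, 7, 5, 1, 11, 7, 7, 5, 1, 11, 7, 6, 1], 8, false),
    ([7, 5, 1, 11, 7, 7, 5, 1, 11, 7, 7, 5, 1, 11, 7, 7, 5, 1, 11, 7, 7, 5, 1], 14, true),
    ([7, 5, 1, 11, 7, 7, 5, 1, 11, 7, 7, 5, 1, 11, 7, 7, 5, 1, 11, 7, 7, 5], 4, false),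
    ([7, 5, 1, 11, 7, 7, 5, 1, 11, 7, 7, 5, 1, 11, 7, 7, 5, 1, 11, 7, 7, 5, 6, 6], 3, false),
    ([7, 5, 1, 11, 7, 7, 5, 1, 11, 7, 7, 5, 1, 11, 7, 7, 5, 1, 11, 7, 7, 5], 4, true),
    ([7, 5, 1, 11, 7, 7, 5, 1, 11, 7, 7, 5, 1, 11, 7, 7, 5, 1, 11, 7, 7, 5], 8, false),
    ([7, 5, 1, 11, 7, 7, 5, 1, 11, 7, 7, 5, 1, 11, 7, 7, 5, 1, 11, 7], 23, true),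
    ([7, 5, 1, 11, 7, 7, 5, 1, 11, 7, 7, 5, 1, 11, 7, 7, 5, 1, 11, 7, 6, 1], 8, false),
    ([7, 5, 1, 11, 7, 7, 5, 1, 11, 7, 7, 5, 1, 11, 7, 7, 5, 1], 14, true),
    ([7, 5, 1, 11, 7, 7, 5, 1, 11, 7, 7, 5, 1, 11, 7, 7, 5], 4, false),
    ([7, 5, 1, 11, 7, 7, 5, 1, 11, 7, 7, 5, 1, 11, 7, 7, 5, 6, 6], 3, false),
    ([7, 5, 1, 11, 7, 7, 5, 1, 11, 7, 7, 5, 1, 11, 7, 7, 5], 4, true),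
    ([7, 5, 1, 11, 7, 7, 5, 1, 11, 7, 7, 5, 1, 11, 7, 7, 5], 8, false),
    ([7, 5, 1, 11, 7, 7, 5, 1, 11, 7, 7, 5, 1, 11, 7], 23, true),
    ([7, 5, 1, 11, 7, 7, 5, 1, 11, 7, 7, 5, 1, 11, 7, 6, 1], 8, false),
    ([7, 5, 1, 11, 7, 7, 5, 1, 11, 7, 7, 5, 1], 14, true),
    ([7, 5, 1, 11, 7, 7, 5, 1, 11, 7, 7, 5], 4, false),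
    ([7, 5, 1, 11, 7, 7, 5, 1, 11, 7, 7, 5, 6, 6], 3, false),
    ([7, 5, 1, 11, 7, 7, 5, 1, 11, 7, 7, 5], 4, true),
    ([7, 5, 1, 11, 7, 7, 5, 1, 11, 7, 7, 5], 8, false),
    ([7, 5, 1, 11, 7, 7, 5, 1, 11, 7], 23, true),
    ([7, 5, 1, 11, 7, 7, 5, 1, 11, 7, 6, 1], 8, false),
    ([7, 5, 1, 11, 7, 7, 5, 1], 14, true),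
    ([7, 5, 1, 11, 7, 7, 5], 4, false),
    ([7, 5, 1, 11, 7, 7, 5, 6, 6], 3, false),
    ([7, 5, 1, 11, 7, 7, 5], 4, true),
    ([7, 5, 1, 11, 7, 7, 5], 8, false),
    ([7, 5, 1, 11, 7], 23, true),
    ([7, 5, 1, 11, 7, 6, 1], 8, false),
    ([7, 5, 1], 14, true),
    ([7, 5], 4, false),
    ([7, 5, 6, 6], 3, false),
    ([7, 5], 4, true),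
    ([7, 5], 8, false),
    ([], 23, true),
    ([6], 3, false)]]

end Cfsg.Lib.J4Pres
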