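/-! Generated data: two permutations of 24 points, and words. -/

set_option autoImplicit false
set_option maxRecDepth 20000

namespace Cfsg.Lib.J4Pres

/-- Packed permutations of the four letters. -/
def letterPerms : List Nat := [0x8cc89b32e24183252e8f1b8153c1a5, 0x65aa3b92284b8135bd42936872c026, 0x8cc89b32e24183252e8f1b8153c1a5, 0x9daa561e22538d75a5f020072a202d]

/-- Words for the three standard maps. -/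
def genWords : List (List Nat) :=
  [[3, 0, 1, 0, 3, 0, 1, 0, 3, 0, 3, 0, 3, 0, 1, 0, 1, 0, 1, 0, 3, 0, 3, 0, 1, 0, 3, 0, 1, 0, 1, 0, 1, 0, 1, 0, 1, 0, 1, 0, 3, 0, 3, 0, 1, 0, 3, 0, 1, 0, 3],
    [3, 0, 1, 0, 1, 0, 1, 0, 3, 0, 3, 0, 3, 0, 3, 0, 3, 0, 3, 0, 3, 0, 3, 0, 3, 0, 1, 0, 1, 0, 1, 0, 1, 0, 3, 0, 1, 0, 1, 0, 1, 0, 1, 0, 3, 0, 1, 0, 1, 0, 3, 0, 1],
    [0, 3, 0, 3, 0, 1, 0, 1, 0, 3, 0, 3, 0, 1, 0, 1, 0, 3, 0, 1, 0, 3, 0, 1, 0, 1, 0, 1, 0, 3, 0, 1, 0, 1, 0, 3, 0, 3, 0, 3, 0, 3, 0, 1, 0, 3, 0, 1, 0, 3, 0]]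

end Cfsg.Lib.J4Pres
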