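import Cfsg.Agent.Lib.Concrete.Mathieu
import Cfsg.Agent.Lib.J4Pres.Derivations
import Cfsg.Agent.Lib.J4Pres.PermData

/-!
# Two permutations generating M24 that satisfy the seven relators
-/

set_option autoImplicit false
set_option maxRecDepth 20000

namespace Cfsg.Lib.J4Pres

open Cfsg.Lib.Concrete
open Cfsg.Lib.CosetEnum

/-- The map of one letter. -/
def letterFun (g : ℕ) (x : GolayPt) : GolayPt :=
  gpt (Fin.ofNat 24 (pget (letterPerms.getD g 0) (gidx x).val))

theorem letterFun_pair : ((List.range 4).all fun g => decide (∀ x : GolayPt,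
    letterFun g (letterFun (Signed.flipAt 2 g) x) = x)) = true := by decide +kernel

theorem letterFun_inv {g : ℕ} (hg : g < 4) (x : GolayPt) :
    letterFun g (letterFun (Signed.flipAt 2 g) x) = x :=
  of_decide_eq_true (List.all_eq_true.1 letterFun_pair g (List.mem_range.2 hg)) x

/-- The permutation of one letter. -/
def gPerm (g : ℕ) : Equiv.Perm GolayPt :=
  if hg : g < 4 then
    { toFun := letterFun g
      invFun := letterFun (Signed.flipAt 2 g)
      left_inv := fun x => by
        have h := letterFun_inv (Signed.flipAt_lt (k := 2) hg) x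
        have e : Signed.flipAt 2 (Signed.flipAt 2 g) = g := by
          unfold Signed.flipAt; split_ifs <;> omega
        rwa [e] at h
      right_inv := letterFun_inv hg }
  else 1

theorem gPerm_pair : ∀ g < 2, gPerm g * gPerm (g + 2) = 1 := fun g hg => by
  refine Equiv.ext fun x => ?_
  rw [Equiv.Perm.mul_apply, gPerm, gPerm, dif_pos (by omega), dif_pos (by omega)]
  have h := letterFun_inv (g := g) (by omega) x
  rw [Signed.flipAt, if_pos hg] at h
  exact h

/-- The image of a point under the letters of a word, the last one first. -/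
def letterWalk (w : List ℕ) (x : GolayPt) : GolayPt := w.foldr letterFun x

theorem gPerm_word : ∀ (w : List ℕ), (∀ g ∈ w, g < 4) → ∀ x,
    (w.map gPerm).prod x = letterWalk w x
  | [], _, _ => rfl
  | g :: w, hw, x => by
    rw [List.map_cons, List.prod_cons, Equiv.Perm.mul_apply,
      gPerm_word w (fun a ha => hw a (List.mem_cons_of_mem _ ha)) x, gPerm, dif_pos (hw g (by simp))]
    rfl

theorem base_walks : (baseWords.all fun r => (r.all fun g => Nat.blt g 4) &&
    decide (∀ x : GolayPt, letterWalk r x = x)) = true := by decide +kernel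

theorem gPerm_rels : ∀ r ∈ baseWords, (r.map gPerm).prod = 1 := fun r hr => by
  have h := List.all_eq_true.1 base_walks r hr
  simp only [Bool.and_eq_true, List.all_eq_true, Nat.blt_eq, decide_eq_true_eq] at h
  exact Equiv.ext fun x => (gPerm_word r h.1 x).trans (h.2 x)

theorem rep_gPerm : ∀ g < 2, Concrete.Rep (gPerm g) (letterPerms.getD g 0) ∧
    basisMasks.all (fun b => isCode (pimg (letterPerms.getD g 0) b) &&
      decide (pimg (letterPerms.getD g 0) b < 16777216)) = true := by
  intro g hg
  interval_cases g
  · exact ⟨by unfold Concrete.Rep; decide +kernel, by decide +kernel⟩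
  · exact ⟨by unfold Concrete.Rep; decide +kernel, by decide +kernel⟩

theorem gen_walks : (genWords.all fun w => w.all fun g => Nat.blt g 4) = true ∧
    (∀ x : GolayPt, letterWalk (genWords.getD 0 []) x = mShift x) ∧
    (∀ x : GolayPt, letterWalk (genWords.getD 1 []) x = projInv x) ∧
    (∀ x : GolayPt, letterWalk (genWords.getD 2 []) x = cubeTwistFun x) :=
  ⟨by decide +kernel, by decide +kernel, by decide +kernel, by decide +kernel⟩

/-- The two permutations generate M24. -/
theorem closure_gPerm : Subgroup.closure (gPerm '' {g | g < 2}) = M24 := by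
  refine le_antisymm ?_ ?_
  · rw [Subgroup.closure_le]
    rintro _ ⟨g, hg, rfl⟩
    exact rep_mem_M24 (rep_gPerm g hg).1 (rep_gPerm g hg).2
  · rw [← M24_eq_closure, Subgroup.closure_le]
    obtain ⟨hlt, h0, h1, h2⟩ := gen_walks
    have hmem : ∀ g < 4, gPerm g ∈ Subgroup.closure (gPerm '' {g | g < 2}) := by
      intro g hg
      have h : ∀ g < 2, gPerm g ∈ Subgroup.closure (gPerm '' {g | g < 2}) :=
        fun g hg => Subgroup.subset_closure ⟨g, hg, rfl⟩
      rcases Nat.lt_or_ge g 2 with h2 | h2
      · exact h g h2
      · have e := gPerm_pair (g - 2) (by omega)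
        rw [Nat.sub_add_cancel h2] at e
        rw [eq_inv_of_mul_eq_one_right e]
        exact inv_mem (h _ (by omega))
    have key : ∀ j < 3, ∀ t : Equiv.Perm GolayPt, (∀ x, letterWalk (genWords.getD j []) x = t x) →
        t ∈ Subgroup.closure (gPerm '' {g | g < 2}) := by
      intro j hj t ht
      have hl : ∀ g ∈ genWords.getD j [], g < 4 := by
        have hj' : j < genWords.length := hj.trans_le (by decide +kernel)
        rw [List.getD_eq_getElem _ _ hj']
        simpa [Nat.blt_eq] using List.all_eq_true.1 hlt _ (List.getElem_mem hj')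
      rw [show t = ((genWords.getD j []).map gPerm).prod from
        Equiv.ext fun x => ((gPerm_word _ hl x).trans (ht x)).symm]
      refine Subgroup.list_prod_mem _ fun a ha => ?_
      obtain ⟨g, hg, rfl⟩ := List.mem_map.1 ha
      exact hmem g (hl g hg)
    rintro t (rfl | rfl | rfl)
    exacts [key 0 (by norm_num) _ h0, key 1 (by norm_num) _ h1, key 2 (by norm_num) _ h2]

end Cfsg.Lib.J4Pres
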