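import Cfsg.Agent.Lib.J4Pres.Bound
import Cfsg.Agent.Lib.J4Pres.PermGen
import Cfsg.Agent.Lib.J4Pres.Mat

/-!
# The subgroup of the presented fourth Janko group generated by the first two generators
-/

set_option autoImplicit false
set_option maxRecDepth 20000

namespace Cfsg.Lib.J4Pres

open Cfsg.Lib.CosetEnum
open Cfsg.Lib.Concrete (card_M24 isSimple_M24)
open Cfsg.Spor (coxRelators)

/-- A letter as an element of the free group of rank two. -/
def twoLetter (g : ℕ) : FreeGroup (Fin 2) :=
  if h : g < 2 then FreeGroup.of ⟨g, h⟩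
  else if h : g < 4 then (FreeGroup.of ⟨g - 2, by omega⟩)⁻¹ else 1

/-- The seven relators. -/
def twoRels : Set (FreeGroup (Fin 2)) := {r | ∃ w ∈ baseWords, r = (w.map twoLetter).prod}

/-- The group presented by the seven relators. -/
abbrev TwoGroup : Type := PresentedGroup twoRels

/-- A letter as an element of the presented group. -/
def twoGen (g : ℕ) : TwoGroup := PresentedGroup.mk twoRels (twoLetter g)

theorem twoGen_pair : ∀ g < 2, twoGen g * twoGen (g + 2) = 1 := fun g hg => by
  rw [twoGen, twoGen, ← map_mul, twoLetter, dif_pos hg, twoLetter, dif_neg (by omega),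
    dif_pos (by omega)]
  simp

theorem twoGen_rels : ∀ w ∈ baseWords, (w.map twoGen).prod = 1 := fun w hw => by
  have h : PresentedGroup.mk twoRels (w.map twoLetter).prod = 1 :=
    PresentedGroup.one_of_mem ⟨w, hw, rfl⟩
  rw [map_list_prod, List.map_map] at h
  exact h

theorem twoGen_gen : Subgroup.closure (twoGen '' {g | g < 2}) = ⊤ := by
  rw [eq_top_iff, ← PresentedGroup.closure_range_of, Subgroup.closure_le]
  rintro _ ⟨i, rfl⟩
  refine Subgroup.subset_closure ⟨i.1, i.2, ?_⟩
  rw [twoGen, twoLetter, dif_pos i.2]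
  rfl

theorem base_lt : (baseWords.all fun w => w.all fun g => Nat.blt g 4) = true := by decide +kernel

/-- Two elements satisfying the relators are images of the generators. -/
theorem exists_hom {G : Type*} [Group G] (e : ℕ → G) (he : ∀ g < 2, e g * e (g + 2) = 1)
    (hrel : ∀ w ∈ baseWords, (w.map e).prod = 1) :
    ∃ f : TwoGroup →* G, (∀ g < 4, f (twoGen g) = e g) ∧
      f.range = Subgroup.closure (e '' {g | g < 2}) := by
  have hl : ∀ g < 4, FreeGroup.lift (fun i : Fin 2 => e i.1) (twoLetter g) = e g := by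
    intro g hg
    unfold twoLetter
    split_ifs with h
    · rw [FreeGroup.lift_apply_of]
    · rw [map_inv, FreeGroup.lift_apply_of]
      refine inv_eq_of_mul_eq_one_right ?_
      have := he (g - 2) (by omega)
      rwa [Nat.sub_add_cancel (by omega)] at this
  have hlt : ∀ w ∈ baseWords, ∀ g ∈ w, g < 4 := fun w hw g hg => by
    simpa [Nat.blt_eq] using List.all_eq_true.1 (List.all_eq_true.1 base_lt w hw) g hg
  have hr : ∀ r ∈ twoRels, FreeGroup.lift (fun i : Fin 2 => e i.1) r = 1 := by
    rintro _ ⟨w, hw, rfl⟩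
    rw [map_list_prod, List.map_map]
    refine (congrArg List.prod (List.map_congr_left fun g hg => hl g (hlt w hw g hg))).trans ?_
    exact hrel w hw
  refine ⟨PresentedGroup.toGroup hr, fun g hg => hl g hg, ?_⟩
  rw [MonoidHom.range_eq_map, ← twoGen_gen, MonoidHom.map_closure]
  congr 1
  rw [Set.image_image]
  exact Set.image_congr fun g (hg : g < 2) => hl g (by omega)

/-- The group presented by the seven relators is M24. -/
theorem twoGroup_iso : Nonempty (TwoGroup ≃* M24) := by
  obtain ⟨f, -, hr⟩ := exists_hom gPerm gPerm_pair gPerm_rels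
  rw [closure_gPerm] at hr
  obtain ⟨hfin, hle⟩ := card_bound twoGen_pair twoGen_rels twoGen_gen
  have hsurj := f.rangeRestrict_surjective
  have hcard : Nat.card TwoGroup ≤ Nat.card f.range := by
    rw [hr, card_M24]; exact hle
  exact ⟨(MulEquiv.ofBijective f.rangeRestrict
    (hsurj.bijective_of_nat_card_le hcard)).trans (MulEquiv.subgroupCongr hr)⟩

/-- The relators of the presented fourth Janko group. -/
abbrev jRels : Set (FreeGroup Spor.J4.Gen) :=
  coxRelators Spor.J4.edges ∪ {r | r ∈ Spor.J4.extra}

/-- The letters of the first two generators in the presented group. -/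
def xyLetter : ℕ → PresentedGroup jRels
  | 0 => PresentedGroup.mk jRels Spor.J4.x
  | 1 => PresentedGroup.mk jRels Spor.J4.y
  | 2 => (PresentedGroup.mk jRels Spor.J4.x)⁻¹
  | 3 => (PresentedGroup.mk jRels Spor.J4.y)⁻¹
  | 4 => PresentedGroup.mk jRels Spor.J4.t
  | _ => (PresentedGroup.mk jRels Spor.J4.t)⁻¹

/-- The letters of the generators next to each other. -/
def gxy : Spor.J4.Gen → List ℕ
  | .x => [0]
  | .y => [1]
  | .t => [4]

/-- The relators in six letters, the pairs being `(0, 2)`, `(1, 3)` and `(4, 5)`. -/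
def flipXY (g : ℕ) : ℕ := if g < 2 then g + 2 else if g < 4 then g - 2 else 9 - g

theorem base_words_eq : ((List.range 7).all fun j =>
    beqW ((Spor.J4.extra.getD j 1).toWord.flatMap
        fun p => cond p.2 (gxy p.1) ((gxy p.1).map flipXY)) (baseWords.getD j [])) = true ∧
    baseWords.length = 7 ∧ 7 ≤ Spor.J4.extra.length :=
  ⟨by decide +kernel, rfl, by decide⟩

theorem word_prod (r : FreeGroup Spor.J4.Gen) :
    ((r.toWord.flatMap fun p => cond p.2 (gxy p.1) ((gxy p.1).map flipXY)).map xyLetter).prod =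
      PresentedGroup.mk jRels r := by
  have key : ∀ L : List (Spor.J4.Gen × Bool),
      ((L.flatMap fun p => cond p.2 (gxy p.1) ((gxy p.1).map flipXY)).map xyLetter).prod =
        PresentedGroup.mk jRels (FreeGroup.mk L) := by
    intro L
    induction L with
    | nil => simp [← FreeGroup.one_eq_mk]
    | cons p L ih =>
      obtain ⟨b, s⟩ := p
      have hmk : FreeGroup.mk ((b, s) :: L) = FreeGroup.mk [(b, s)] * FreeGroup.mk L := by
        rw [FreeGroup.mul_mk]; rfl
      rw [List.flatMap_cons, List.map_append, List.prod_append, ih, hmk, map_mul]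
      congr 1
      cases s
      · have e : FreeGroup.mk [(b, false)] = (FreeGroup.of b)⁻¹ := by
          simp [FreeGroup.of, FreeGroup.inv_mk, FreeGroup.invRev]
        rw [e, map_inv]
        cases b <;> simp [gxy, flipXY, xyLetter]
      · cases b <;> simp [gxy, xyLetter] <;> rfl
  rw [key, FreeGroup.mk_toWord]

theorem xy_pair : ∀ g < 2, xyLetter g * xyLetter (g + 2) = 1 := fun g hg => by
  interval_cases g <;> simp [xyLetter]

theorem xy_rels : ∀ w ∈ baseWords, (w.map xyLetter).prod = 1 := fun w hw => by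
  obtain ⟨h, hlen, hx⟩ := base_words_eq
  obtain ⟨j, hj, rfl⟩ := List.getElem_of_mem hw
  have hj7 : j < 7 := hlen ▸ hj
  have hje : j < Spor.J4.extra.length := hj7.trans_le hx
  have e := beqW_eq (List.all_eq_true.1 h j (List.mem_range.2 hj7))
  rw [List.getD_eq_getElem _ _ hj, List.getD_eq_getElem _ _ hje] at e
  rw [← e, word_prod]
  exact PresentedGroup.one_of_mem (Or.inr (List.getElem_mem hje))

/-- The subgroup generated by the images of `x` and `y` is M24. -/
theorem xy_iso : Nonempty
    (((Subgroup.closure ({Spor.J4.x, Spor.J4.y} : Set (FreeGroup Spor.J4.Gen))).map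
      (PresentedGroup.mk jRels)) ≃* M24) := by
  obtain ⟨φ⟩ := twoGroup_iso
  haveI : IsSimpleGroup M24 := isSimple_M24
  haveI : Nontrivial TwoGroup := φ.toEquiv.nontrivial
  haveI : IsSimpleGroup TwoGroup := IsSimpleGroup.isSimpleGroup_of_surjective φ.symm.toMonoidHom
    φ.symm.surjective
  obtain ⟨f, hf, hr⟩ := exists_hom xyLetter xy_pair xy_rels
  have himg : xyLetter '' {g | g < 2} =
      PresentedGroup.mk jRels '' {Spor.J4.x, Spor.J4.y} := by
    ext a
    constructor
    · rintro ⟨g, hg, rfl⟩
      have hg' : g < 2 := hg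
      interval_cases g
      · exact ⟨_, Or.inl rfl, rfl⟩
      · exact ⟨_, Or.inr rfl, rfl⟩
    · rintro ⟨z, rfl | rfl, rfl⟩
      · exact ⟨0, show (0 : ℕ) < 2 by norm_num, rfl⟩
      · exact ⟨1, show (1 : ℕ) < 2 by norm_num, rfl⟩
  rw [himg, ← MonoidHom.map_closure] at hr
  have hinj : Function.Injective f := by
    rcases Subgroup.Normal.eq_bot_or_eq_top (f.normal_ker) with h | h
    · exact (MonoidHom.ker_eq_bot_iff f).1 h
    · exfalso
      refine mk_x_ne_one ?_
      have h1 : twoGen 0 ∈ f.ker := h ▸ Subgroup.mem_top _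
      rw [MonoidHom.mem_ker, hf 0 (by norm_num)] at h1
      exact h1
  exact ⟨((MonoidHom.ofInjective hinj).trans (MulEquiv.subgroupCongr hr)).symm.trans φ⟩

end Cfsg.Lib.J4Pres
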