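import Mathlib
import Cfsg.Agent.Lib.CosetEnum.Defs
import Cfsg.Agent.Lib.J4Pres.MatData

/-!
# Matrices over two elements acting on vectors stored as numerals
-/

set_option autoImplicit false
set_option maxRecDepth 20000

namespace Cfsg.Lib.J4Pres

open CosetEnum (force force_eq)

/-- A row vector times the matrix with the given rows. -/
noncomputable def applyRows : List Nat → Nat → Nat
  | [], _ => 0
  | r :: R, v => force (Nat.div v 2) fun h =>
      Nat.xor (cond (Nat.beq (Nat.mod v 2) 1) r 0) (applyRows R h)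

/-- Apply the letters of a word, the last one first. -/
noncomputable def applyWord (M : List (List Nat)) : List Nat → Nat → Nat
  | [], v => v
  | g :: w, v => force (applyWord M w v) fun u => applyRows (M.getD g []) u

/-- Vectors side by side, `n` bits to a vector. -/
def packRows (n : Nat) : List Nat → Nat
  | [] => 0
  | v :: vs => v + 2 ^ n * packRows n vs

/-- The lowest bit of each of `m` places. -/
def strideOnes (n : Nat) : Nat → Nat
  | 0 => 0
  | m + 1 => 1 + 2 ^ n * strideOnes n m

/-- Vectors side by side times the matrix with the given rows, the first row read at bit `k`. -/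
noncomputable def dotRows (S V : Nat) (R : List Nat) : Nat → Nat :=
  List.rec (motive := fun _ => Nat → Nat) (fun _ => 0)
    (fun r _ ih k => force k fun k =>
      Nat.xor (Nat.mul (Nat.land (Nat.shiftRight V k) S) r) (ih (Nat.add k 1))) R

/-- All vectors under a word, the last letter first. -/
noncomputable def allWord (S : Nat) (M : List (List Nat)) (w : List Nat) (V : Nat) : Nat :=
  List.rec (motive := fun _ => Nat) V
    (fun g _ ih => force ih fun u => dotRows S u (M.getD g []) 0) w

/-- The word fixes the first `n` unit vectors of length `n`. -/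
noncomputable def fixesUnits (M : List (List Nat)) (n : Nat) (w : List Nat) : Bool :=
  force (strideOnes n n) fun S => force (packRows n ((List.range n).map fun i => 2 ^ i)) fun V =>
    Nat.beq (allWord S M w V) V

theorem applyRows_cons (r : ℕ) (R : List ℕ) (v : ℕ) :
    applyRows (r :: R) v = (cond (Nat.beq (v % 2) 1) r 0) ^^^ applyRows R (v / 2) := by
  rw [applyRows, force_eq]; rfl

theorem applyRows_xor : ∀ (R : List ℕ) (v w : ℕ),
    applyRows R (v ^^^ w) = applyRows R v ^^^ applyRows R w
  | [], _, _ => by simp [applyRows]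
  | r :: R, v, w => by
    rw [applyRows_cons, applyRows_cons, applyRows_cons, Nat.xor_div_two, applyRows_xor R]
    have hxor : (v ^^^ w) % 2 = (v + w) % 2 := Nat.xor_mod_two_eq
    rcases Nat.mod_two_eq_zero_or_one v with hv | hv <;>
      rcases Nat.mod_two_eq_zero_or_one w with hw | hw <;>
      rw [hxor, Nat.add_mod, hv, hw] <;>
      simp [show Nat.beq 0 1 = false from rfl, Nat.xor_assoc,
        Nat.xor_left_comm]

theorem applyRows_lt {n : ℕ} : ∀ {R : List ℕ}, (∀ r ∈ R, r < 2 ^ n) → ∀ v, applyRows R v < 2 ^ n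
  | [], _, v => by simp [applyRows]
  | r :: R, h, v => by
    rw [applyRows_cons]
    refine Nat.xor_lt_two_pow ?_ (applyRows_lt (fun a ha => h a (List.mem_cons_of_mem _ ha)) _)
    cases Nat.beq (v % 2) 1
    · exact Nat.two_pow_pos n
    · exact h r (by simp)

theorem applyWord_cons (M : List (List ℕ)) (g : ℕ) (w : List ℕ) (v : ℕ) :
    applyWord M (g :: w) v = applyRows (M.getD g []) (applyWord M w v) := by
  rw [applyWord, force_eq]

theorem applyWord_xor (M : List (List ℕ)) : ∀ (w : List ℕ) (a b : ℕ),
    applyWord M w (a ^^^ b) = applyWord M w a ^^^ applyWord M w b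
  | [], _, _ => by simp [applyWord]
  | g :: w, a, b => by
    rw [applyWord_cons, applyWord_cons, applyWord_cons, applyWord_xor M w, applyRows_xor]

/-- A word fixing all unit vectors fixes every vector. -/
theorem applyWord_eq_self (M : List (List ℕ)) (w : List ℕ) : ∀ {n : ℕ},
    (∀ i < n, applyWord M w (2 ^ i) = 2 ^ i) → ∀ v < 2 ^ n, applyWord M w v = v := by
  intro n
  induction n with
  | zero =>
    intro _ v hv
    rw [pow_zero, Nat.lt_one_iff] at hv
    subst hv
    have h := applyWord_xor M w 0 0
    rw [Nat.xor_self, Nat.xor_self] at h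
    exact h
  | succ n ih =>
    intro h v hv
    have ih' := ih fun i hi => h i (by omega)
    rcases Nat.lt_or_ge v (2 ^ n) with hlt | hge
    · exact ih' v hlt
    · have hrest : 2 ^ n ^^^ v < 2 ^ n := by
        refine Nat.lt_of_testBit n ?_ (Nat.testBit_two_pow_self) fun j hj => ?_
        · rw [Nat.testBit_xor, Nat.testBit_two_pow_self,
            Nat.testBit_eq_decide_div_mod_eq]
          have : v / 2 ^ n = 1 := by
            refine Nat.div_eq_of_lt_le (by simpa using hge) ?_
            rw [pow_succ] at hv; omega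
          simp [this]
        · rw [Nat.testBit_xor, Nat.testBit_two_pow, decide_eq_false (by omega), Bool.false_xor]
          exact Nat.testBit_lt_two_pow (hv.trans_le (Nat.pow_le_pow_right (by norm_num) (by omega)))
      have e : v = 2 ^ n ^^^ (2 ^ n ^^^ v) := by
        rw [← Nat.xor_assoc, Nat.xor_self, Nat.zero_xor]
      conv_lhs => rw [e]
      rw [applyWord_xor, h n (by omega), ih' _ hrest, ← e]

theorem testBit_add_mul {n a : ℕ} (ha : a < 2 ^ n) (b j : ℕ) :
    (a + 2 ^ n * b).testBit j = if j < n then a.testBit j else b.testBit (j - n) := by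
  rw [Nat.add_comm, Nat.testBit_two_pow_mul_add _ ha]

theorem xor_add_mul {n a c : ℕ} (ha : a < 2 ^ n) (hc : c < 2 ^ n) (b d : ℕ) :
    (a + 2 ^ n * b) ^^^ (c + 2 ^ n * d) = (a ^^^ c) + 2 ^ n * (b ^^^ d) := by
  refine Nat.eq_of_testBit_eq fun j => ?_
  rw [Nat.testBit_xor, testBit_add_mul ha, testBit_add_mul hc,
    testBit_add_mul (Nat.xor_lt_two_pow ha hc)]
  split_ifs <;> simp [Nat.testBit_xor]

theorem packRows_shift_and {n k : ℕ} (hk : k < n) : ∀ {vs : List ℕ}, (∀ v ∈ vs, v < 2 ^ n) →
    (packRows n vs >>> k) &&& strideOnes n vs.length =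
      packRows n (vs.map fun v => (v >>> k) % 2)
  | [], _ => by simp [packRows, strideOnes]
  | v :: vs, h => by
    have hv : v < 2 ^ n := h v (by simp)
    have h1 : 1 < 2 ^ n := Nat.one_lt_two_pow (by omega)
    have hb : (v >>> k) % 2 < 2 ^ n := (Nat.mod_lt _ (by norm_num)).trans_le h1
    simp only [List.length_cons, strideOnes, List.map_cons, packRows]
    rw [← packRows_shift_and hk fun a ha => h a (List.mem_cons_of_mem _ ha)]
    refine Nat.eq_of_testBit_eq fun j => ?_
    rw [Nat.testBit_and, Nat.testBit_shiftRight, testBit_add_mul hv, testBit_add_mul h1,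
      testBit_add_mul hb]
    rcases Nat.lt_or_ge j n with hj | hj
    · rw [if_pos hj, if_pos hj]
      rcases Nat.eq_zero_or_pos j with rfl | hj0
      · rw [if_pos (by omega : k + 0 < n)]
        simp [Nat.testBit_eq_decide_div_mod_eq, Nat.shiftRight_eq_div_pow]
      · obtain ⟨i, rfl⟩ : ∃ i, j = i + 1 := ⟨j - 1, by omega⟩
        have h2 : Nat.testBit 1 (i + 1) = false := by simp [Nat.testBit_succ]
        have h3 : Nat.testBit ((v >>> k) % 2) (i + 1) = false := by
          rw [Nat.testBit_succ, Nat.div_eq_of_lt (Nat.mod_lt _ (by norm_num)), Nat.zero_testBit]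
        rw [h2, h3, Bool.and_false]
    · rw [if_neg (by omega : ¬ k + j < n), if_neg (by omega : ¬ j < n), if_neg (by omega : ¬ j < n),
        Nat.testBit_and, Nat.testBit_shiftRight, show k + (j - n) = k + j - n by omega]

theorem packRows_mul (n r : ℕ) : ∀ bs : List ℕ,
    packRows n bs * r = packRows n (bs.map (· * r))
  | [] => by simp [packRows]
  | b :: bs => by
    rw [packRows, List.map_cons, packRows, ← packRows_mul n r bs]
    ring

theorem packRows_xor {n : ℕ} (f g : ℕ → ℕ) : ∀ {vs : List ℕ},
    (∀ v ∈ vs, f v < 2 ^ n ∧ g v < 2 ^ n) →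
    packRows n (vs.map f) ^^^ packRows n (vs.map g) = packRows n (vs.map fun v => f v ^^^ g v)
  | [], _ => by simp [packRows]
  | v :: vs, h => by
    simp only [List.map_cons, packRows]
    rw [xor_add_mul (h v (by simp)).1 (h v (by simp)).2,
      packRows_xor f g fun a ha => h a (List.mem_cons_of_mem _ ha)]

theorem bit_mul_eq (x r : ℕ) : x % 2 * r = cond (Nat.beq (x % 2) 1) r 0 := by
  rcases Nat.mod_two_eq_zero_or_one x with h | h <;> rw [h] <;>
    simp [show Nat.beq 0 1 = false from rfl]

theorem dotRows_cons (S V r : ℕ) (R : List ℕ) (k : ℕ) :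
    dotRows S V (r :: R) k = ((V >>> k) &&& S) * r ^^^ dotRows S V R (k + 1) := by
  have e : dotRows S V (r :: R) k = force k fun k =>
      Nat.xor (Nat.mul (Nat.land (Nat.shiftRight V k) S) r) (dotRows S V R (Nat.add k 1)) := rfl
  rw [e, force_eq]
  rfl

theorem allWord_cons (S : ℕ) (M : List (List ℕ)) (g : ℕ) (w : List ℕ) (V : ℕ) :
    allWord S M (g :: w) V = dotRows S (allWord S M w V) (M.getD g []) 0 := by
  have e : allWord S M (g :: w) V =
      force (allWord S M w V) fun u => dotRows S u (M.getD g []) 0 := rfl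
  rw [e, force_eq]

theorem dotRows_eq {n : ℕ} {vs : List ℕ} (hvs : ∀ v ∈ vs, v < 2 ^ n) :
    ∀ (R : List ℕ) (k : ℕ), k + R.length ≤ n → (∀ r ∈ R, r < 2 ^ n) →
      dotRows (strideOnes n vs.length) (packRows n vs) R k =
        packRows n (vs.map fun v => applyRows R (v >>> k))
  | [], k, _, _ => by
    have e : ∀ ws : List ℕ, packRows n (ws.map fun _ => 0) = 0 := by
      intro ws
      induction ws with
      | nil => rfl
      | cons w ws ih => simp only [List.map_cons, packRows, ih, Nat.mul_zero, Nat.add_zero]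
    exact (e vs).symm
  | r :: R, k, hk, hR => by
    simp only [List.length_cons] at hk
    have hR' : ∀ a ∈ R, a < 2 ^ n := fun a ha => hR a (List.mem_cons_of_mem _ ha)
    have ih := dotRows_eq hvs R (k + 1) (by omega) hR'
    rw [dotRows_cons]
    rw [ih, packRows_shift_and (by omega) hvs, packRows_mul, List.map_map, packRows_xor]
    · congr 1
      refine List.map_congr_left fun v _ => ?_
      rw [Function.comp_apply, applyRows_cons, bit_mul_eq, Nat.shiftRight_succ]
    · intro v _
      refine ⟨?_, applyRows_lt hR' _⟩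
      rw [Function.comp_apply, bit_mul_eq]
      cases Nat.beq ((v >>> k) % 2) 1
      · exact Nat.two_pow_pos n
      · exact hR r (by simp)

theorem allWord_eq {n : ℕ} {M : List (List ℕ)} (hlen : ∀ R ∈ M, R.length ≤ n)
    (hrow : ∀ R ∈ M, ∀ r ∈ R, r < 2 ^ n) {vs : List ℕ} (hvs : ∀ v ∈ vs, v < 2 ^ n) :
    ∀ w : List ℕ, allWord (strideOnes n vs.length) M w (packRows n vs) =
        packRows n (vs.map (applyWord M w)) ∧ ∀ v ∈ vs, applyWord M w v < 2 ^ n
  | [] => ⟨by simp [allWord, applyWord], hvs⟩
  | g :: w => by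
    obtain ⟨h1, h2⟩ := allWord_eq hlen hrow hvs w
    have hget : (M.getD g []).length ≤ n ∧ ∀ r ∈ M.getD g [], r < 2 ^ n := by
      rcases Nat.lt_or_ge g M.length with h | h
      · rw [List.getD_eq_getElem _ _ h]
        exact ⟨hlen _ (List.getElem_mem h), hrow _ (List.getElem_mem h)⟩
      · rw [List.getD_eq_default _ _ h]; simp
    refine ⟨?_, fun v _ => by rw [applyWord_cons]; exact applyRows_lt hget.2 _⟩
    rw [allWord_cons, h1]
    have e : vs.length = (vs.map (applyWord M w)).length := (List.length_map _).symm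
    rw [e, dotRows_eq (by simpa using h2) _ 0 (by omega) hget.2, List.map_map]
    congr 1
    refine List.map_congr_left fun v _ => ?_
    rw [Function.comp_apply, Nat.shiftRight_zero, applyWord_cons]

theorem packRows_inj {n : ℕ} : ∀ {as bs : List ℕ}, as.length = bs.length →
    (∀ a ∈ as, a < 2 ^ n) → (∀ b ∈ bs, b < 2 ^ n) → packRows n as = packRows n bs → as = bs
  | [], [], _, _, _, _ => rfl
  | [], _ :: _, h, _, _, _ => by simp at h
  | _ :: _, [], h, _, _, _ => by simp at h
  | a :: as, b :: bs, h, ha, hb, e => by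
    simp only [packRows] at e
    have h1 := congrArg (· % 2 ^ n) e
    simp only [Nat.add_mul_mod_self_left, Nat.mod_eq_of_lt (ha a (by simp)),
      Nat.mod_eq_of_lt (hb b (by simp))] at h1
    subst h1
    rw [packRows_inj (by simpa using h) (fun x hx => ha x (List.mem_cons_of_mem _ hx))
      (fun x hx => hb x (List.mem_cons_of_mem _ hx))
      (Nat.eq_of_mul_eq_mul_left (Nat.two_pow_pos n) (Nat.add_left_cancel e))]

/-- A checked word fixes every vector. -/
theorem fixesUnits_sound {n : ℕ} {M : List (List ℕ)} (hlen : ∀ R ∈ M, R.length ≤ n)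
    (hrow : ∀ R ∈ M, ∀ r ∈ R, r < 2 ^ n) {w : List ℕ} (h : fixesUnits M n w = true) :
    ∀ v < 2 ^ n, applyWord M w v = v := by
  rw [fixesUnits, force_eq, force_eq, Nat.beq_eq] at h
  have hvs : ∀ v ∈ (List.range n).map (2 ^ ·), v < 2 ^ n := fun v hv => by
    obtain ⟨i, hi, rfl⟩ := List.mem_map.1 hv
    exact Nat.pow_lt_pow_right (by norm_num) (List.mem_range.1 hi)
  have hl : ((List.range n).map (2 ^ ·)).length = n := by simp
  obtain ⟨h1, h2⟩ := allWord_eq hlen hrow hvs w
  rw [hl] at h1
  have h3 := packRows_inj (List.length_map _) (by simpa using h2) hvs (h1.symm.trans h)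
  refine applyWord_eq_self M w fun i hi => ?_
  rw [List.map_map] at h3
  exact List.map_inj_left.1 h3 i (List.mem_range.2 hi)

end Cfsg.Lib.J4Pres
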