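import Mathlib
import Cfsg.Agent.Lib.CosetEnum.Signed.Sound
import Cfsg.Agent.Lib.J4Pres.Derivations
import Cfsg.Agent.Lib.J4Pres.Lvl0.Valid
import Cfsg.Agent.Lib.J4Pres.Lvl1.Valid
import Cfsg.Agent.Lib.J4Pres.Lvl2.Valid
import Cfsg.Agent.Lib.J4Pres.Lvl3.Valid
import Cfsg.Agent.Lib.J4Pres.Lvl4.Valid

/-!
# The order of a group with two generators satisfying seven relators
-/

set_option autoImplicit false
set_option maxRecDepth 20000

namespace Cfsg.Lib.J4Pres

open Cfsg.Lib.CosetEnum

/-- The relations in six letters. -/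
def allSix : List (List ℕ) := sixRels ++ [killWord] ++ pairRels

theorem sixSub_ok : derivsOK 2 baseWords (sixRels.map (subWord 2 6 sixGens)) sixDerivs = true := by
  decide +kernel

theorem kill_ok : derivOK 6 sixRels killWord killDeriv = true := by decide +kernel

theorem pairRels_ok : derivsOK 6 (sixRels ++ [killWord]) pairRels pairDerivs = true := by decide +kernel

theorem sixGens_ok : (sixGens.all (wordOK 2) && Nat.beq sixGens.length 6) = true := by decide +kernel

/-- The letters and derivations of a certificate are in order. -/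
def certOK (k : ℕ) (pool : List (List ℕ)) (c : Signed.Cert) (Ds : List (List Step)) : Bool :=
  Nat.beq c.k k && ((c.R ++ c.U).all fun r => r.all fun g => Nat.blt g (k + k)) &&
    derivsOK k pool c.R Ds

theorem cert0_ok : certOK 2 baseWords Lvl0.step Lvl0.relDerivs = true := by decide +kernel

theorem cert1_ok : certOK 6 allSix Lvl1.step Lvl1.relDerivs = true := by decide +kernel

theorem cert2_ok : certOK 6 allSix Lvl2.step Lvl2.relDerivs = true := by decide +kernel

theorem cert3_ok : certOK 6 allSix Lvl3.step Lvl3.relDerivs = true := by decide +kernel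

theorem cert4_ok : certOK 6 allSix Lvl4.step Lvl4.relDerivs = true := by decide +kernel

theorem shapes : Lvl4.step.U = [] ∧
    (Lvl3.step.U.all fun u => u.all fun g => Lvl4.step.S.any (Nat.beq g)) = true ∧
    (Lvl2.step.U.all fun u => u.all fun g => Lvl3.step.S.any (Nat.beq g)) = true ∧
    (Lvl1.step.U.all fun u => u.all fun g => Lvl2.step.S.any (Nat.beq g)) = true ∧
    Lvl0.step.U = sixGens ∧
    ((List.range 6).all fun g => Lvl1.step.S.any (Nat.beq g)) = true ∧
    ((List.range 2).all fun g => Lvl0.step.S.any (Nat.beq g)) = true ∧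
    Lvl4.step.n = 360 ∧ Lvl3.step.n = 16 ∧ Lvl2.step.n = 77 ∧ Lvl1.step.n = 23 ∧ Lvl0.step.n = 24 :=
  ⟨rfl, by decide +kernel, by decide +kernel, by decide +kernel, rfl, by decide +kernel,
    by decide +kernel, rfl, rfl, rfl, rfl, rfl⟩

variable {G : Type*} [Group G] {k : ℕ} {e : ℕ → G}

theorem val_inv_eq (hk : k + k ≤ eps) (w : List ℕ) (hw : ∀ g ∈ w, g < k + k) :
    Signed.val (fun g => (e g)⁻¹) w = ((w.map e).prod)⁻¹ := by
  induction w with
  | nil => simp [Signed.val]
  | cons g w ih =>
    have hg : g ≠ eps := by have := hw g (by simp); omega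
    rw [Signed.val, ih fun a ha => hw a (List.mem_cons_of_mem _ ha), List.map_cons, List.prod_cons,
      mul_inv_rev]
    simp [gen, hg]

theorem closure_inv_image (S : Set ℕ) :
    Subgroup.closure ((fun g => (e g)⁻¹) '' S) = Subgroup.closure (e '' S) := by
  refine le_antisymm ((Subgroup.closure_le _).2 ?_) ((Subgroup.closure_le _).2 ?_)
  · rintro _ ⟨g, hg, rfl⟩
    exact inv_mem (Subgroup.subset_closure ⟨g, hg, rfl⟩)
  · rintro _ ⟨g, hg, rfl⟩
    exact inv_mem_iff.1 (Subgroup.subset_closure ⟨g, hg, rfl⟩)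

theorem prod_mem_of_letters {S : List ℕ} {u : List ℕ}
    (h : (u.all fun g => S.any (Nat.beq g)) = true) :
    (u.map e).prod ∈ Subgroup.closure (e '' {g | g ∈ S}) := by
  refine Subgroup.list_prod_mem _ fun a ha => ?_
  obtain ⟨g, hg, rfl⟩ := List.mem_map.1 ha
  simp only [List.all_eq_true, List.any_eq_true, Nat.beq_eq] at h
  obtain ⟨s, hs, rfl⟩ := h g hg
  exact Subgroup.subset_closure ⟨g, hs, rfl⟩

/-- One certificate bounds one step of the chain. -/
theorem chain_step (hk : k + k ≤ eps) (he : ∀ g < k, e g * e (g + k) = 1) {pool : List (List ℕ)}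
    (hpool : ∀ r ∈ pool, (r.map e).prod = 1) {c : Signed.Cert} (hv : c.Valid) {Ds : List (List Step)}
    (hok : certOK k pool c Ds = true) {K : Subgroup G} (hK : ∀ u ∈ c.U, (u.map e).prod ∈ K)
    {m : ℕ} (hfin : Finite K) (hm : Nat.card K ≤ m) :
    Finite (Subgroup.closure (e '' {g | g ∈ c.S})) ∧
      Nat.card (Subgroup.closure (e '' {g | g ∈ c.S})) ≤ c.n * m := by
  simp only [certOK, Bool.and_eq_true, Nat.beq_eq] at hok
  obtain ⟨⟨hck, hlet⟩, hder⟩ := hok
  have hlet' : ∀ r ∈ c.R ++ c.U, ∀ g ∈ r, g < k + k := fun r hr g hg => by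
    have := List.all_eq_true.1 (List.all_eq_true.1 hlet r hr) g hg
    simpa [Nat.blt_eq] using this
  rw [← closure_inv_image]
  refine hv.card_le (x := fun g => (e g)⁻¹) ?_ ?_ ?_ ?_ hfin hm
  · intro g hg
    rw [hck] at hg ⊢
    rw [← mul_inv_rev, eq_inv_of_mul_eq_one_right (he g hg), inv_mul_cancel, inv_one]
  · rw [hck]; exact hlet
  · intro r hr
    rw [val_inv_eq hk r (hlet' r (List.mem_append_left _ hr)),
      derivsOK_prod he hpool hder r hr, inv_one]
  · intro u hu
    rw [val_inv_eq hk u (hlet' u (List.mem_append_right _ hu))]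
    exact inv_mem (hK u hu)

/-- The order of a group with two generators satisfying the seven relators is at most that of M24. -/
theorem card_bound (he : ∀ g < 2, e g * e (g + 2) = 1)
    (hrel : ∀ r ∈ baseWords, (r.map e).prod = 1)
    (hgen : Subgroup.closure (e '' {g | g < 2}) = ⊤) :
    Finite G ∧ Nat.card G ≤ 244823040 := by
  obtain ⟨hnil, hU3, hU2, hU1, hU0, hS1, hS0, n4, n3, n2, n1, n0⟩ := shapes
  have hg6 := sixGens_ok
  simp only [Bool.and_eq_true, List.all_eq_true, Nat.beq_eq] at hg6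
  let f := subImage 2 6 sixGens e
  have hf : ∀ g < 6, f g * f (g + 6) = 1 :=
    subImage_pair he fun u hu => wordOK_lt (hg6.1 u hu)
  have h6 : ∀ r ∈ sixRels, (r.map f).prod = 1 := fun r hr => by
    show (r.map (subImage 2 6 sixGens e)).prod = 1
    rw [subWord_prod]
    exact derivsOK_prod he hrel sixSub_ok _ (List.mem_map_of_mem hr)
  have h7 : ∀ r ∈ sixRels ++ [killWord], (r.map f).prod = 1 := by
    intro r hr
    rcases List.mem_append.1 hr with hr | hr
    · exact h6 r hr
    · rw [List.mem_singleton.1 hr]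
      exact derivOK_prod hf h6 kill_ok
  have hall : ∀ r ∈ allSix, (r.map f).prod = 1 := by
    intro r hr
    rcases List.mem_append.1 hr with hr | hr
    · exact h7 r hr
    · exact derivsOK_prod hf h7 pairRels_ok r hr
  have hk : 6 + 6 ≤ eps := by decide
  obtain ⟨f4, c4⟩ := chain_step hk hf hall Lvl4.step_valid cert4_ok (K := ⊥)
    (by rw [hnil]; simp) (m := 1) inferInstance (by simp)
  obtain ⟨f3, c3⟩ := chain_step hk hf hall Lvl3.step_valid cert3_ok
    (fun u hu => prod_mem_of_letters (List.all_eq_true.1 hU3 u hu)) f4 c4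
  obtain ⟨f2, c2⟩ := chain_step hk hf hall Lvl2.step_valid cert2_ok
    (fun u hu => prod_mem_of_letters (List.all_eq_true.1 hU2 u hu)) f3 c3
  obtain ⟨f1, c1⟩ := chain_step hk hf hall Lvl1.step_valid cert1_ok
    (fun u hu => prod_mem_of_letters (List.all_eq_true.1 hU1 u hu)) f2 c2
  obtain ⟨f0, c0⟩ := chain_step (by decide : 2 + 2 ≤ eps) he hrel Lvl0.step_valid cert0_ok
    (fun u hu => by
      rw [hU0] at hu
      obtain ⟨j, hj, rfl⟩ := List.getElem_of_mem hu
      have hj6 : j < 6 := hg6.2 ▸ hj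
      simp only [List.all_eq_true, List.mem_range, List.any_eq_true, Nat.beq_eq] at hS1
      obtain ⟨s, hs, rfl⟩ := hS1 j hj6
      refine Subgroup.subset_closure ⟨j, hs, ?_⟩
      show ((subLetter 2 6 sixGens j).map e).prod = _
      rw [subLetter, if_pos hj6, List.getD_eq_getElem _ _ hj]) f1 c1
  have htop : Subgroup.closure (e '' {g | g ∈ Lvl0.step.S}) = ⊤ := by
    rw [eq_top_iff, ← hgen]
    refine Subgroup.closure_mono (Set.image_mono fun g (hg : g < 2) => ?_)
    simp only [List.all_eq_true, List.mem_range, List.any_eq_true, Nat.beq_eq] at hS0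
    obtain ⟨s, hs, rfl⟩ := hS0 g hg
    exact hs
  rw [htop] at f0 c0
  rw [n4, n3, n2, n1, n0] at c0
  exact ⟨Finite.of_equiv _ Subgroup.topEquiv.toEquiv,
    (Nat.card_congr Subgroup.topEquiv.toEquiv).ge.trans (c0.trans (by norm_num))⟩

end Cfsg.Lib.J4Pres
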