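import Cfsg.Agent.Lib.CosetEnum.Signed.Words
import Cfsg.Agent.Lib.CosetEnum.Check

/-!
# Derivations of relations: a word freely equal to a product of conjugates of relators
-/

set_option autoImplicit false

namespace Cfsg.Lib.J4Pres

open Cfsg.Lib.CosetEnum

/-- A conjugate of a listed relator or of its inverse: the conjugating word, the index, the sign. -/
abbrev Step : Type := List Nat × Nat × Bool

/-- The inverse of a word. -/
def wordInv (k : Nat) (w : List Nat) : List Nat := w.reverse.map (Signed.flipAt k)

/-- The word of a step. -/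
def stepWord (k : Nat) (R : List (List Nat)) (s : Step) : List Nat :=
  s.1 ++ (cond s.2.2 (R.getD s.2.1 []) (wordInv k (R.getD s.2.1 [])) ++ wordInv k s.1)

/-- All letters of a word are below `k + k`. -/
def wordOK (k : Nat) (w : List Nat) : Bool := w.all fun g => Nat.blt g (k + k)

/-- The word is freely equal to the product of the steps. -/
def derivOK (k : Nat) (R : List (List Nat)) (r : List Nat) (D : List Step) : Bool :=
  wordOK k r && R.all (wordOK k) && (D.all fun s => wordOK k s.1) &&
    beqW (Signed.cancelWord k r) (Signed.cancelWord k (D.flatMap (stepWord k R)))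

/-- Every word of a list has its derivation. -/
def derivsOK (k : Nat) (R rs : List (List Nat)) (Ds : List (List Step)) : Bool :=
  (List.range rs.length).all fun j => derivOK k R (rs.getD j []) (Ds.getD j [])

/-- A letter for a subgroup generator as a word in the smaller alphabet. -/
def subLetter (k m : Nat) (U : List (List Nat)) (g : Nat) : List Nat :=
  if g < m then U.getD g [] else wordInv k (U.getD (g - m) [])

/-- A word in subgroup generators as a word in the smaller alphabet. -/
def subWord (k m : Nat) (U : List (List Nat)) (w : List Nat) : List Nat :=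
  w.flatMap (subLetter k m U)

variable {G : Type*} [Group G] {k : ℕ} {e : ℕ → G}

theorem wordOK_lt {w : List ℕ} (h : wordOK k w = true) : ∀ g ∈ w, g < k + k := by
  simpa [wordOK, Nat.blt_eq] using h

theorem wordInv_prod (he : ∀ g < k, e g * e (g + k) = 1) {w : List ℕ} (hw : ∀ g ∈ w, g < k + k) :
    ((wordInv k w).map e).prod = ((w.map e).prod)⁻¹ :=
  Signed.inverse_word_prod he w hw

theorem wordInv_lt {w : List ℕ} (hw : ∀ g ∈ w, g < k + k) : ∀ g ∈ wordInv k w, g < k + k := by
  intro g hg
  obtain ⟨a, ha, rfl⟩ := List.mem_map.1 hg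
  exact Signed.flipAt_lt (hw a (List.mem_reverse.1 ha))

/-- A derived word is trivial. -/
theorem derivOK_prod (he : ∀ g < k, e g * e (g + k) = 1) {R : List (List ℕ)}
    (hR : ∀ r ∈ R, (r.map e).prod = 1) {r : List ℕ} {D : List Step}
    (h : derivOK k R r D = true) : (r.map e).prod = 1 := by
  simp only [derivOK, Bool.and_eq_true, List.all_eq_true] at h
  obtain ⟨⟨⟨hr, hRok⟩, hD⟩, heq⟩ := h
  have hget : ∀ j, (∀ g ∈ R.getD j [], g < k + k) ∧ ((R.getD j []).map e).prod = 1 := by
    intro j
    rcases Nat.lt_or_ge j R.length with hj | hj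
    · rw [List.getD_eq_getElem _ _ hj]
      exact ⟨wordOK_lt (hRok _ (List.getElem_mem hj)), hR _ (List.getElem_mem hj)⟩
    · rw [List.getD_eq_default _ _ hj]; simp
  have key : ∀ D : List Step, (∀ s ∈ D, wordOK k s.1 = true) →
      (∀ g ∈ D.flatMap (stepWord k R), g < k + k) ∧ ((D.flatMap (stepWord k R)).map e).prod = 1 := by
    intro D
    induction D with
    | nil => exact fun _ => ⟨by simp, by simp⟩
    | cons s D ih =>
      intro hD
      obtain ⟨h1, h2⟩ := ih fun t ht => hD t (List.mem_cons_of_mem _ ht)
      have hc := wordOK_lt (hD s (by simp))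
      obtain ⟨hl, hp⟩ := hget s.2.1
      have hmid : (∀ g ∈ cond s.2.2 (R.getD s.2.1 []) (wordInv k (R.getD s.2.1 [])), g < k + k) ∧
          ((cond s.2.2 (R.getD s.2.1 []) (wordInv k (R.getD s.2.1 []))).map e).prod = 1 := by
        cases s.2.2
        · exact ⟨wordInv_lt hl, by rw [cond_false, wordInv_prod he hl, hp, inv_one]⟩
        · exact ⟨hl, hp⟩
      refine ⟨fun g hg => ?_, ?_⟩
      · rw [List.flatMap_cons, stepWord, List.mem_append, List.mem_append, List.mem_append] at hg
        rcases hg with (hg | hg | hg) | hg
        exacts [hc g hg, hmid.1 g hg, wordInv_lt hc g hg, h1 g hg]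
      · rw [List.flatMap_cons, stepWord, List.map_append, List.prod_append, List.map_append,
          List.prod_append, List.map_append, List.prod_append, hmid.2, h2, wordInv_prod he hc]
        simp
  obtain ⟨h1, h2⟩ := key D hD
  rw [← (Signed.cancelWord_spec he r (wordOK_lt hr)).2, beqW_eq heq,
    (Signed.cancelWord_spec he _ h1).2, h2]

theorem derivsOK_prod (he : ∀ g < k, e g * e (g + k) = 1) {R rs : List (List ℕ)}
    (hR : ∀ r ∈ R, (r.map e).prod = 1) {Ds : List (List Step)}
    (h : derivsOK k R rs Ds = true) : ∀ r ∈ rs, (r.map e).prod = 1 := by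
  intro r hr
  obtain ⟨j, hj, rfl⟩ := List.getElem_of_mem hr
  simp only [derivsOK, List.all_eq_true, List.mem_range] at h
  rw [← List.getD_eq_getElem rs [] hj]
  exact derivOK_prod he hR (h j hj)

/-- The images of the subgroup generators and their inverses. -/
def subImage (k m : ℕ) (U : List (List ℕ)) (e : ℕ → G) (g : ℕ) : G :=
  ((subLetter k m U g).map e).prod

theorem subImage_pair (he : ∀ g < k, e g * e (g + k) = 1) {m : ℕ} {U : List (List ℕ)}
    (hU : ∀ u ∈ U, ∀ g ∈ u, g < k + k) :
    ∀ g < m, subImage k m U e g * subImage k m U e (g + m) = 1 := by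
  intro g hg
  have hl : ∀ a ∈ U.getD g [], a < k + k := by
    rcases Nat.lt_or_ge g U.length with h | h
    · rw [List.getD_eq_getElem _ _ h]; exact hU _ (List.getElem_mem h)
    · rw [List.getD_eq_default _ _ h]; simp
  rw [subImage, subImage, subLetter, if_pos hg, subLetter, if_neg (by omega),
    Nat.add_sub_cancel, wordInv_prod he hl, mul_inv_cancel]

theorem subWord_prod {m : ℕ} {U : List (List ℕ)} : ∀ w : List ℕ,
    (w.map (subImage k m U e)).prod = ((subWord k m U w).map e).prod
  | [] => rfl
  | g :: w => by
    rw [List.map_cons, List.prod_cons, subWord_prod w,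
      show subWord k m U (g :: w) = subLetter k m U g ++ subWord k m U w from rfl, List.map_append,
      List.prod_append]
    rfl

end Cfsg.Lib.J4Pres
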